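import Cfsg.Agent.H537.CopDefs
import Cfsg.Agent.H995.CopCoprime
import Cfsg.Agent.H126.RO.Ly

/-!
# The Lyons group: elements of order 67 have centralizer of order 67 (helper655)

* `normal_of` : a subgroup of order `r` is normal if `r ∤ q ^ k - 1` for the prime powers `q ^ k` dividing the order and
  there is no nonabelian simple group of order divisible by `r` dividing the order;
* `index_mod_other`, `pow_dvd_norm` : Sylow arithmetic at the primes dividing `|C(x)|` when `C(y) ≤ N(⟨x⟩)` for all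
  `1 ≠ y ∈ C(x)`;
* `sc_ly` : the row.
-/

set_option autoImplicit false
set_option maxRecDepth 100000

namespace Cfsg.Agent.H655.LySixtySeven

open Subgroup Cfsg
open Cfsg.Agent.H995.CopEngine

universe u

section gen

variable {X : Type u} [Group X] [Finite X]

/-- `x` of order `r` centralizes a normal `r'`-subgroup -/
theorem centralizes {r : ℕ} (hr : r.Prime)
    (hc : ∀ p : ℕ, p.Prime → p ≠ r → ∀ i, 1 ≤ i → p ^ i ∣ Nat.card X → ¬ r ∣ p ^ i - 1)
    (N : Subgroup X) [hN : N.Normal] (hrN : ¬ r ∣ Nat.card N) {x : X} (hx : orderOf x = r) :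
    ∀ n ∈ N, x * n = n * x := by
  have key : N ≤ centralizer ({x} : Set X) := by
    have h1 : (N ⊓ centralizer ({x} : Set X)) = N := by
      apply Subgroup.eq_of_le_of_card_ge inf_le_left
      apply Nat.le_of_dvd Nat.card_pos
      rw [Nat.dvd_iff_prime_pow_dvd_dvd]
      intro p k hp hk
      rcases Nat.eq_zero_or_pos k with rfl | hk0
      · simp
      have hpr : p ≠ r := by
        rintro rfl
        exact hrN ((dvd_pow_self p hk0.ne').trans hk)
      exact pow_dvd_cent hr N hrN (by rw [← hx, pow_orderOf_eq_one]) hp hpr hk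
        (cond_mono (hc p hp hpr) (Subgroup.card_subgroup_dvd_card N))
    rw [← h1]
    exact inf_le_right
  intro n hn
  exact ((mem_centralizer_singleton_iff).1 (key hn)).symm

/-- **Subgroups of order `r` are normal.** -/
theorem normal_of {r : ℕ} (hr : r.Prime) (h2 : ¬ r ^ 2 ∣ Nat.card X)
    (hS : ∀ (S : Type u) [Group S] [Finite S], IsSimpleGroup S → (¬ ∀ a b : S, a * b = b * a) →
      Nat.card S ∣ Nat.card X → ¬ r ∣ Nat.card S)
    (hc : ∀ p : ℕ, p.Prime → p ≠ r → ∀ i, 1 ≤ i → p ^ i ∣ Nat.card X → ¬ r ∣ p ^ i - 1)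
    {x : X} (hx : orderOf x = r) (g : X) : g * x * g⁻¹ ∈ zpowers x := by
  have : Fact r.Prime := ⟨hr⟩
  obtain ⟨N, hN, hrN, hmax⟩ := exists_core X hr
  have hcd := Subgroup.card_eq_card_quotient_mul_card_subgroup N
  have hqd : Nat.card (X ⧸ N) ∣ Nat.card X := Dvd.intro _ hcd.symm
  have hd : r ∣ Nat.card X := hx ▸ orderOf_dvd_natCard x
  have hdq : r ∣ Nat.card (X ⧸ N) := by
    rw [hcd] at hd
    exact (hr.dvd_mul.1 hd).resolve_right hrN
  have hO : ∀ A : Subgroup (X ⧸ N), A.Normal → ¬ r ∣ Nat.card A → A = ⊥ := by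
    intro A hA hrA
    have h3 : (A.comap (QuotientGroup.mk' N)).Normal := inferInstance
    have h4 : Nat.card (A.comap (QuotientGroup.mk' N)) = Nat.card A * Nat.card N := by
      have h5 := (A.comap (QuotientGroup.mk' N)).card_mul_index
      rw [Subgroup.index_comap_of_surjective _ (QuotientGroup.mk'_surjective N), hcd, ← A.card_mul_index,
        mul_right_comm] at h5
      exact Nat.eq_of_mul_eq_mul_right (Nat.pos_of_ne_zero A.index_ne_zero_of_finite) h5
    have h5 := hmax _ h3 (by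
      rw [h4]
      intro h
      exact (hr.dvd_mul.1 h).elim hrA hrN)
    rw [eq_bot_iff]
    intro x hx
    obtain ⟨g, rfl⟩ := QuotientGroup.mk'_surjective N x
    have h6 : g ∈ A.comap (QuotientGroup.mk' N) := hx
    exact (QuotientGroup.eq_one_iff g).2 (h5 h6)
  obtain ⟨P⟩ : Nonempty (Sylow r (X ⧸ N)) := inferInstance
  have h2q : ¬ r ^ 2 ∣ Nat.card (X ⧸ N) := fun h => h2 (h.trans hqd)
  have hsimp := simple_closure hr hdq h2q hO P
  set S := Subgroup.normalClosure ((P : Subgroup (X ⧸ N)) : Set (X ⧸ N)) with hSdef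
  have hPS : (P : Subgroup (X ⧸ N)) ≤ S := Subgroup.le_normalClosure
  have hPc := sylow_card hr hdq h2q P
  have hrS : r ∣ Nat.card S := hPc ▸ Subgroup.card_dvd_of_le hPS
  have hcomm : ∀ a b : S, a * b = b * a := by
    by_contra hcon
    exact hS S hsimp hcon ((Subgroup.card_subgroup_dvd_card S).trans hqd) hrS
  have hScard : Nat.card S = r := by
    have : IsMulCommutative S := ⟨⟨hcomm⟩⟩
    have h3 : (Nat.card S).Prime := by
      let _ : CommGroup S := { (inferInstance : Group S) with mul_comm := hcomm }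
      exact IsSimpleGroup.prime_card
    exact ((Nat.prime_dvd_prime_iff_eq hr h3).1 hrS).symm
  have hidx : ¬ r ∣ S.index := by
    intro h
    apply h2q
    rw [← S.card_mul_index, hScard, pow_two]
    exact Nat.mul_dvd_mul_left r h
  have hSn : S.Normal := Subgroup.normalClosure_normal
  have hmem : ∀ y : X, y ^ r = 1 → (QuotientGroup.mk y : X ⧸ N) ∈ S := by
    intro y hy
    refine mem_of_pow hr S hidx ?_
    rw [← QuotientGroup.mk_pow, hy, QuotientGroup.mk_one]
  have hxr : x ^ r = 1 := by rw [← hx, pow_orderOf_eq_one]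
  -- `S` is generated by the image of `x`
  have hx1 : (QuotientGroup.mk x : X ⧸ N) ≠ 1 := by
    intro h
    have h3 : x ∈ N := (QuotientGroup.eq_one_iff x).1 h
    apply hrN
    have h4 := orderOf_dvd_natCard (⟨x, h3⟩ : N)
    rwa [Subgroup.orderOf_mk, hx] at h4
  have hgen : zpowers (QuotientGroup.mk x : X ⧸ N) = S := by
    apply Subgroup.eq_of_le_of_card_ge (Subgroup.zpowers_le.2 (hmem x hxr))
    rw [hScard, Nat.card_zpowers]
    have h3 : orderOf (QuotientGroup.mk x : X ⧸ N) ∣ r := orderOf_dvd_of_pow_eq_one (by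
      rw [← QuotientGroup.mk_pow, hxr, QuotientGroup.mk_one])
    rcases (Nat.dvd_prime hr).1 h3 with h4 | h4
    · exact absurd (orderOf_eq_one_iff.1 h4) hx1
    · exact h4.ge
  have hgr : (g * x * g⁻¹) ^ r = 1 := by rw [conj_pow, hxr, mul_one, mul_inv_cancel]
  have h3 := hmem _ hgr
  rw [← hgen] at h3
  obtain ⟨i, hi⟩ := Subgroup.mem_zpowers_iff.1 h3
  have h4 : (x ^ i)⁻¹ * (g * x * g⁻¹) ∈ N := by
    rw [← QuotientGroup.eq]
    rw [← hi]
    rfl
  obtain ⟨n, hn⟩ : ∃ n, n = (x ^ i)⁻¹ * (g * x * g⁻¹) := ⟨_, rfl⟩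
  rw [← hn] at h4
  have h5 : g * x * g⁻¹ = x ^ i * n := by rw [hn]; group
  have h6 : Commute (x ^ i) n := (show Commute x n from centralizes hr hc N hrN hx n h4).zpow_left i
  have h7 : n ^ r = 1 := by
    rw [h5, h6.mul_pow, ← zpow_natCast, ← zpow_mul, mul_comm, zpow_mul, zpow_natCast, hxr, one_zpow, one_mul] at hgr
    exact hgr
  have h8 : n = 1 := by
    have h9 : orderOf (⟨n, h4⟩ : N) ∣ r := by
      rw [Subgroup.orderOf_mk]
      exact orderOf_dvd_of_pow_eq_one h7
    rcases (Nat.dvd_prime hr).1 h9 with h10 | h10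
    · rw [Subgroup.orderOf_mk, orderOf_eq_one_iff] at h10
      exact h10
    · exact absurd (h10 ▸ orderOf_dvd_natCard (⟨n, h4⟩ : N)) hrN
  rw [h5, h8, mul_one]
  exact Subgroup.zpow_mem_zpowers x i

end gen


section sieve

variable {G : Type u} [Group G] [Finite G] {r : ℕ} [hr : Fact r.Prime] {x : G}

theorem mem_norm_of {g : G} (h : g * x * g⁻¹ ∈ zpowers x) : g ∈ normalizer (zpowers x : Set G) := by
  have h1 : (zpowers x).map (MulAut.conj g).toMonoidHom = zpowers x := by
    apply Subgroup.eq_of_le_of_card_ge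
    · rw [MonoidHom.map_zpowers]
      exact Subgroup.zpowers_le.2 h
    · rw [Subgroup.card_map_of_injective (MulAut.conj g).injective]
  rw [mem_normalizer_iff]
  intro y
  constructor
  · intro hy
    have h2 : (MulAut.conj g) y ∈ (zpowers x).map (MulAut.conj g).toMonoidHom := ⟨y, hy, rfl⟩
    rw [h1] at h2
    exact h2
  · intro hy
    have h2 : g * y * g⁻¹ ∈ (zpowers x).map (MulAut.conj g).toMonoidHom := by rw [h1]; exact hy
    obtain ⟨z, hz, hzy⟩ := h2
    have h3 : g * z * g⁻¹ = g * y * g⁻¹ := hzy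
    have h4 : z = y := mul_left_cancel (mul_right_cancel h3)
    rwa [← h4]

/-- the elements of order `r` of `N(⟨x⟩)` -/
theorem mem_of_mem_norm (h2 : ¬ r ^ 2 ∣ Nat.card G) (hx : orderOf x = r) {v : G}
    (hv : v ∈ normalizer (zpowers x : Set G)) (hvr : v ^ r = 1) : v ∈ zpowers x := by
  set M := normalizer (zpowers x : Set G) with hM
  have hn : ((zpowers x).subgroupOf M).Normal := Subgroup.normal_in_normalizer
  have hle : zpowers x ≤ M := le_normalizer
  have hidx : ¬ r ∣ ((zpowers x).subgroupOf M).index := by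
    intro h
    apply h2
    have h3 := ((zpowers x).subgroupOf M).card_mul_index
    rw [Nat.card_congr (Subgroup.subgroupOfEquivOfLe hle).toEquiv, Nat.card_zpowers, hx] at h3
    refine dvd_trans ?_ (Subgroup.card_subgroup_dvd_card M)
    rw [← h3, pow_two]
    exact Nat.mul_dvd_mul_left r h
  have h3 := mem_of_pow hr.1 ((zpowers x).subgroupOf M) hidx (x := (⟨v, hv⟩ : M)) (Subtype.ext hvr)
  exact Subgroup.mem_subgroupOf.1 h3

theorem norm_le (h2 : ¬ r ^ 2 ∣ Nat.card G) (hx : orderOf x = r)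
    (hC : ∀ y : G, y ≠ 1 → y * x = x * y → centralizer ({y} : Set G) ≤ normalizer (zpowers x : Set G))
    {y : G} (hy1 : y ≠ 1) (hyx : y * x = x * y) :
    normalizer (zpowers y : Set G) ≤ normalizer (zpowers x : Set G) := by
  intro g hg
  have h3 : g⁻¹ * y * g ∈ zpowers y := by
    have h4 := (mem_normalizer_iff.1 (inv_mem hg) y).1 (mem_zpowers y)
    rwa [inv_inv] at h4
  obtain ⟨i, hi⟩ := Subgroup.mem_zpowers_iff.1 h3
  have h4 : (g * x * g⁻¹) * y = y * (g * x * g⁻¹) := by
    have h5 : x * (g⁻¹ * y * g) = (g⁻¹ * y * g) * x := by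
      rw [← hi]
      exact ((show Commute x y from hyx.symm).zpow_right i).eq
    calc (g * x * g⁻¹) * y = g * (x * (g⁻¹ * y * g)) * g⁻¹ := by group
      _ = g * ((g⁻¹ * y * g) * x) * g⁻¹ := by rw [h5]
      _ = y * (g * x * g⁻¹) := by group
  have h5 := hC y hy1 hyx (mem_centralizer_singleton_iff.2 h4)
  have h6 : (g * x * g⁻¹) ^ r = 1 := by rw [conj_pow, ← hx, pow_orderOf_eq_one, mul_one, mul_inv_cancel]
  exact mem_norm_of (mem_of_mem_norm h2 hx h5 h6)

/-- **Sylow arithmetic at a prime dividing `|C(x)|`.** -/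
theorem index_mod_other (h2 : ¬ r ^ 2 ∣ Nat.card G) (hx : orderOf x = r)
    (hC : ∀ y : G, y ≠ 1 → y * x = x * y → centralizer ({y} : Set G) ≤ normalizer (zpowers x : Set G))
    {q : ℕ} (hq : q.Prime) (hq2 : ¬ q ^ 2 ∣ Nat.card G) (hqC : q ∣ Nat.card ↥(centralizer ({x} : Set G))) :
    (normalizer (zpowers x : Set G)).index ≡ 1 [MOD q] := by
  have : Fact q.Prime := ⟨hq⟩
  obtain ⟨⟨y, hyC⟩, hy⟩ := exists_prime_orderOf_dvd_card' q hqC
  rw [Subgroup.orderOf_mk] at hy
  have hyx : y * x = x * y := mem_centralizer_singleton_iff.1 hyC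
  have hy1 : y ≠ 1 := by
    rintro rfl
    rw [orderOf_one] at hy
    exact hq.one_lt.ne hy
  set M := normalizer (zpowers x : Set G) with hM
  have hle : normalizer (zpowers y : Set G) ≤ M := norm_le h2 hx hC hy1 hyx
  have hyM : y ∈ M := hle (le_normalizer (mem_zpowers y))
  have h3 := H568.OddPair.index_mod hq2 hy
  have h4 := H568.OddPair.index_mod (l := q) (G := M) (fun h => hq2 (h.trans (Subgroup.card_subgroup_dvd_card M)))
    (x := ⟨y, hyM⟩) (by rw [Subgroup.orderOf_mk, hy])
  have h5 : normalizer (zpowers (⟨y, hyM⟩ : M) : Set M) = (normalizer (zpowers y : Set G)).subgroupOf M := by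
    ext g
    rw [Subgroup.mem_subgroupOf, mem_normalizer_iff, mem_normalizer_iff]
    have key : ∀ z : M, z ∈ zpowers (⟨y, hyM⟩ : M) ↔ (z : G) ∈ zpowers y := by
      intro z
      rw [Subgroup.mem_zpowers_iff, Subgroup.mem_zpowers_iff]
      constructor
      · rintro ⟨i, rfl⟩
        exact ⟨i, rfl⟩
      · rintro ⟨i, hi⟩
        exact ⟨i, Subtype.ext hi⟩
    constructor
    · intro h z
      constructor
      · intro hz
        have hzM : z ∈ M := (Subgroup.zpowers_le.2 hyM) hz
        exact (key (g * ⟨z, hzM⟩ * g⁻¹)).1 ((h ⟨z, hzM⟩).1 ((key ⟨z, hzM⟩).2 hz))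
      · intro hz
        have hzM' : (g : G) * z * (g : G)⁻¹ ∈ M := (Subgroup.zpowers_le.2 hyM) hz
        have hzM : z ∈ M := by
          have h6 := M.mul_mem (M.mul_mem (M.inv_mem g.2) hzM') g.2
          have h7 : (g : G)⁻¹ * ((g : G) * z * (g : G)⁻¹) * g = z := by group
          rwa [h7] at h6
        exact (key ⟨z, hzM⟩).1 ((h ⟨z, hzM⟩).2 ((key (g * ⟨z, hzM⟩ * g⁻¹)).2 hz))
    · intro h z
      rw [key, key]
      exact h z
  rw [h5] at h4
  have h6 : (normalizer (zpowers y : Set G)).relIndex M * M.index = (normalizer (zpowers y : Set G)).index :=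
    Subgroup.relIndex_mul_index hle
  have h7 : (normalizer (zpowers y : Set G)).relIndex M ≡ 1 [MOD q] := h4
  rw [← h6] at h3
  have h8 := (h7.mul_right M.index).symm.trans h3
  rwa [one_mul] at h8

/-- **Full Sylow subgroups**: a prime dividing `|C(x)|` and not `|N : C|`. -/
theorem pow_dvd_norm (hC : ∀ y : G, y ≠ 1 → y * x = x * y → centralizer ({y} : Set G) ≤ normalizer (zpowers x : Set G))
    {q : ℕ} (hq : q.Prime) (hqC : q ∣ Nat.card ↥(centralizer ({x} : Set G)))
    (hqe : ¬ q ∣ ((centralizer ({x} : Set G)).subgroupOf (normalizer (zpowers x : Set G))).index) {k : ℕ}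
    (hk : q ^ k ∣ Nat.card G) : q ^ k ∣ Nat.card ↥(normalizer (zpowers x : Set G)) := by
  have : Fact q.Prime := ⟨hq⟩
  obtain ⟨⟨y, hyC⟩, hy⟩ := exists_prime_orderOf_dvd_card' q hqC
  rw [Subgroup.orderOf_mk] at hy
  have hyx : y * x = x * y := mem_centralizer_singleton_iff.1 hyC
  have hy1 : y ≠ 1 := by
    rintro rfl
    rw [orderOf_one] at hy
    exact hq.one_lt.ne hy
  set M := normalizer (zpowers x : Set G) with hM
  have hyP : IsPGroup q (zpowers y) := IsPGroup.of_card (n := 1) (by rw [Nat.card_zpowers, hy, pow_one])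
  obtain ⟨T, hT⟩ := hyP.exists_le_sylow
  have hyT : y ∈ T := hT (mem_zpowers y)
  have hnt : Nontrivial (T : Subgroup G) := ⟨⟨⟨y, hyT⟩, 1, fun h => hy1 (congrArg Subtype.val h)⟩⟩
  have hcn := T.2.center_nontrivial
  have hcq : q ∣ Nat.card (center (T : Subgroup G)) := by
    obtain ⟨n, hn⟩ := IsPGroup.iff_card.1 (T.2.to_subgroup (center (T : Subgroup G)))
    rw [hn]
    refine dvd_pow_self q ?_
    rintro rfl
    rw [pow_zero] at hn
    exact (Finite.one_lt_card (α := center (T : Subgroup G))).ne' hn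
  obtain ⟨⟨⟨z, hzT⟩, hzc⟩, hz⟩ := exists_prime_orderOf_dvd_card' q hcq
  rw [Subgroup.orderOf_mk, Subgroup.orderOf_mk] at hz
  have hz1 : z ≠ 1 := by
    rintro rfl
    rw [orderOf_one] at hz
    exact hq.one_lt.ne hz
  have hzc' : ∀ t ∈ T, t * z = z * t := fun t ht => congrArg Subtype.val (mem_center_iff.1 hzc ⟨t, ht⟩)
  have hzM : z ∈ M := hC y hy1 hyx (mem_centralizer_singleton_iff.2 (hzc' y hyT).symm)
  have hn : ((centralizer ({x} : Set G)).subgroupOf M).Normal := by
    constructor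
    rintro ⟨c, hcM⟩ hc ⟨g, hg⟩
    rw [Subgroup.mem_subgroupOf] at hc ⊢
    have hc' : c * x = x * c := mem_centralizer_singleton_iff.1 hc
    have h3 : g⁻¹ * x * g ∈ zpowers x := by
      have h4 := (mem_normalizer_iff.1 (inv_mem hg) x).1 (mem_zpowers x)
      rwa [inv_inv] at h4
    obtain ⟨i, hi⟩ := Subgroup.mem_zpowers_iff.1 h3
    have h5 : c * (g⁻¹ * x * g) = (g⁻¹ * x * g) * c := by
      rw [← hi]
      exact ((show Commute c x from hc').zpow_right i).eq
    refine mem_centralizer_singleton_iff.2 ?_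
    show g * c * g⁻¹ * x = x * (g * c * g⁻¹)
    calc g * c * g⁻¹ * x = g * (c * (g⁻¹ * x * g)) * g⁻¹ := by group
      _ = g * ((g⁻¹ * x * g) * c) * g⁻¹ := by rw [h5]
      _ = x * (g * c * g⁻¹) := by group
  have h3 := mem_of_pow hq ((centralizer ({x} : Set G)).subgroupOf M) hqe (x := (⟨z, hzM⟩ : M))
    (Subtype.ext (by rw [SubgroupClass.coe_pow, ← hz, pow_orderOf_eq_one]; rfl))
  have h4 : z * x = x * z := mem_centralizer_singleton_iff.1 (Subgroup.mem_subgroupOf.1 h3)
  have h5 : (T : Subgroup G) ≤ M := by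
    refine le_trans ?_ (hC z hz1 h4)
    intro t ht
    exact mem_centralizer_singleton_iff.2 (hzc' t ht)
  refine dvd_trans ?_ (Subgroup.card_dvd_of_le h5)
  rw [Sylow.card_eq_multiplicity]
  exact pow_dvd_pow q ((hq.pow_dvd_iff_le_factorization Nat.card_pos.ne').1 hk)

end sieve


/-! ### The Lyons group -/

section ly

open Cfsg.Agent.SporRec Cfsg.Agent.SporRec.TwoAn Cfsg.Agent.SporRec.LyType Cfsg.Agent.SporRec.LyFiveCore
open Cfsg.Agent.H513.NilpTools Cfsg.Agent.H513.NilpLy Cfsg.Agent.OrdDiv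

theorem chk_one : chkOne H568.RowLy.fac 51765179004000000 67 0 = true := by decide +kernel

/-- the test for `|C(x)| = c`, `|N : C| = e` -/
def test (c e : ℕ) : Bool :=
  let k := 51765179004000000 / (c * e)
  !Nat.beq (k % 67) 1 || (Nat.beq (c % 7) 0 && !Nat.beq (k % 7) 1) || (Nat.beq (c % 11) 0 && !Nat.beq (k % 11) 1) ||
    (Nat.beq (c % 31) 0 && !Nat.beq (k % 31) 1) || (Nat.beq (c % 37) 0 && !Nat.beq (k % 37) 1) ||
    (Nat.beq (c % 3) 0 && !Nat.beq (e % 3) 0 && !Nat.beq ((c * e) % 2187) 0) || Nat.beq c 67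

theorem arith : allDiv [(3, 7), (7, 1), (11, 1), (31, 1), (37, 1)] 67 (fun c =>
    [1, 2, 3, 6, 11, 22, 33, 66].all fun e => test c e) = true := by decide +kernel

/-- the elements of order 67 are isolated -/
theorem cent_le_norm (hK : AllKnown.{u}) {G : Type u} [Group G] [Finite G] (h : Spor.IsoLy G) {x : G}
    (hx : orderOf x = 67) (y : G) (hy1 : y ≠ 1) (hyx : y * x = x * y) :
    centralizer ({y} : Set G) ≤ normalizer (zpowers x : Set G) := by
  obtain ⟨-, hsimp, hcard, -⟩ := TypeM.FactsLy.facts h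
  have hX : centralizer ({y} : Set G) ≠ ⊤ := by
    intro ht
    have h1 : y ∈ center G := by
      rw [mem_center_iff]
      intro g
      have h2 : g ∈ centralizer ({y} : Set G) := by rw [ht]; trivial
      exact mem_centralizer_singleton_iff.1 h2
    rcases (inferInstance : (center G).Normal).eq_bot_or_eq_top with h2 | h2
    · rw [h2, mem_bot] at h1
      exact hy1 h1
    · have h3 : ∀ a b : G, a * b = b * a := fun a b =>
        (mem_center_iff.1 (show b ∈ center G by rw [h2]; trivial)) a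
      have h4 : (Nat.card G).Prime := by
        let _ : CommGroup G := { (inferInstance : Group G) with mul_comm := h3 }
        exact IsSimpleGroup.prime_card
      rw [hcard] at h4
      exact absurd (h4.eq_one_or_self_of_dvd 2 (by norm_num)) (by norm_num)
  have hxX : x ∈ centralizer ({y} : Set G) := mem_centralizer_singleton_iff.2 hyx.symm
  have hdX : Nat.card (centralizer ({y} : Set G)) ∣ 51765179004000000 := hcard ▸ Subgroup.card_subgroup_dvd_card _
  intro g hg
  have key := normal_of (X := centralizer ({y} : Set G)) (r := 67) (by norm_num)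
    (fun h => by have := h.trans hdX; revert this; norm_num) ?_
    (fun p hp hpr i hi hd => H568.RowLy.ndvd H568.RowLy.valid (by decide +kernel) p i hp hpr (by omega)
      (hd.trans hdX)) (x := ⟨x, hxX⟩) (by rw [Subgroup.orderOf_mk, hx]) ⟨g, hg⟩
  · obtain ⟨i, hi⟩ := Subgroup.mem_zpowers_iff.1 key
    have : Fact (Nat.Prime 67) := ⟨by norm_num⟩
    exact mem_norm_of (Subgroup.mem_zpowers_iff.2 ⟨i, congrArg Subtype.val hi⟩)
  · intro S _ _ hs hna hSX h67
    have hne : Nat.card S ≠ 51765179004000000 := by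
      intro h1
      apply hX
      apply Subgroup.eq_top_of_card_eq
      apply Nat.dvd_antisymm (Subgroup.card_subgroup_dvd_card _)
      rw [hcard, ← h1]
      exact hSX
    exact (Nat.card_pos (α := S)).ne' (card_of_chk hK hna H568.RowLy.valid (hSX.trans hdX) h67 hne chk_one)

/-- **Elements of order 67 of the Lyons group.** -/
theorem card_centralizer (hK : AllKnown.{u}) {G : Type u} [Group G] [Finite G] (h : Spor.IsoLy G) {x : G}
    (hx : orderOf x = 67) : Nat.card (centralizer ({x} : Set G)) = 67 := by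
  have hC := cent_le_norm hK h hx
  obtain ⟨-, hsimp, hcard, ⟨M⟩⟩ := TypeM.FactsLy.facts h
  let L : LyType G := { t := M.t, K := M.K, hz := M.hz, one := M.one }
  obtain ⟨f, hf, hbig⟩ := exists_f L (by rw [hcard]; norm_num)
  have h5F : Fact (Nat.Prime 5) := ⟨Nat.prime_five⟩
  have h67F : Fact (Nat.Prime 67) := ⟨by norm_num⟩
  have h2F : Fact (Nat.Prime 2) := ⟨Nat.prime_two⟩
  have h67q : ¬ 67 ^ 2 ∣ Nat.card G := by rw [hcard]; norm_num
  have hC2 : ¬ 2 ∣ Nat.card ↥(centralizer ({x} : Set G)) := by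
    intro hd
    obtain ⟨t, ht⟩ := exists_prime_orderOf_dvd_card' 2 hd
    exact H393.Iso.na_ly h x t hx (by rw [Subgroup.orderOf_coe, ht]) (mem_centralizer_singleton_iff.1 t.2).symm
  have e5 : ¬ 5 ^ 4 ∣ Nat.card ↥(centralizer ({x} : Set G)) := not_dvd_cent hbig hx (by rw [hf]; norm_num)
  set N := normalizer ((zpowers x : Subgroup G) : Set G) with hN
  set C := centralizer ({x} : Set G) with hCdef
  have hcn : Nat.card ↥N ∣ Nat.card ↥C * (67 - 1) := H568.OddPair.card_normalizer hx
  have hCN : C ≤ N := by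
    intro g hg
    apply mem_norm_of
    have h1 : g * x = x * g := mem_centralizer_singleton_iff.1 hg
    rw [h1, mul_inv_cancel_right]
    exact mem_zpowers x
  have hcc : Nat.card (C.subgroupOf N) = Nat.card C := Nat.card_congr (Subgroup.subgroupOfEquivOfLe hCN).toEquiv
  have hcm := (C.subgroupOf N).card_mul_index
  rw [hcc] at hcm
  set e := (C.subgroupOf N).index with he
  have he66 : e ∣ 66 := by
    rw [← hcm] at hcn
    exact Nat.dvd_of_mul_dvd_mul_left Nat.card_pos hcn
  have hmod : N.index ≡ 1 [MOD 67] := H568.OddPair.index_mod h67q hx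
  have hNi : 51765179004000000 / (Nat.card C * e) = N.index := by
    rw [hcm, ← hcard, ← N.card_mul_index]
    exact Nat.mul_div_cancel_left _ Nat.card_pos
  have hxc : 67 ∣ Nat.card C := by
    have h1 := orderOf_dvd_natCard (⟨x, mem_centralizer_singleton_iff.2 rfl⟩ : C)
    rwa [Subgroup.orderOf_mk, hx] at h1
  -- the prime five
  have h5C : ¬ 5 ∣ Nat.card C := by
    intro h5
    have h1 : 5 ^ 6 ∣ Nat.card ↥N := pow_dvd_norm hC Nat.prime_five h5
      (fun h => by have := h.trans he66; revert this; norm_num) (by rw [hcard]; norm_num)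
    apply e5
    exact Nat.Coprime.dvd_of_dvd_mul_right (by norm_num) ((pow_dvd_pow 5 (by norm_num : 4 ≤ 6)).trans (h1.trans hcn))
  have hother : ∀ q : ℕ, q.Prime → ¬ q ^ 2 ∣ Nat.card G → q ∣ Nat.card C → N.index % q = 1 := by
    intro q hq hq2 hqC
    have h1 : N.index % q = 1 % q := index_mod_other h67q hx hC hq hq2 hqC
    rwa [Nat.mod_eq_of_lt hq.one_lt] at h1
  have h3 : 3 ∣ Nat.card C → ¬ 3 ∣ e → 2187 ∣ Nat.card C * e := by
    intro h3 h3e
    rw [hcm]
    exact pow_dvd_norm hC Nat.prime_three h3 h3e (k := 7) (by rw [hcard]; norm_num)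
  -- the divisor
  obtain ⟨m, hm⟩ := hxc
  have hcd := card_subgroup_dvd_card C
  rw [hcard, show (51765179004000000 : ℕ) = 2 ^ 8 * (5 ^ 6 * (67 * (3 ^ 7 * 7 * 11 * 31 * 37))) by norm_num] at hcd
  have hcd2 := dvd_drop Nat.prime_five h5C (dvd_drop Nat.prime_two hC2 hcd)
  have hm2 : m ∣ prodL [(3, 7), (7, 1), (11, 1), (31, 1), (37, 1)] := by
    rw [hm] at hcd2
    exact (Nat.dvd_of_mul_dvd_mul_left (by norm_num) hcd2).trans (dvd_of_eq (by norm_num [prodL]))
  have ht := List.all_eq_true.1 (allDiv_spec (by norm_num) arith hm2) e (by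
    have h6 : e ∈ Nat.divisors 66 := Nat.mem_divisors.2 ⟨he66, by norm_num⟩
    have h7 : Nat.divisors 66 = {1, 2, 3, 6, 11, 22, 33, 66} := by decide +kernel
    rw [h7] at h6
    simpa using h6)
  rw [← hm] at ht
  unfold test at ht
  rw [hNi] at ht
  simp only [Bool.or_eq_true, Bool.and_eq_true, Bool.not_eq_true', ← Bool.not_eq_true, Nat.beq_eq, ← Nat.dvd_iff_mod_eq_zero] at ht
  have hmod' : N.index % 67 = 1 := hmod
  rcases ht with (((((ht | ht) | ht) | ht) | ht) | ht) | ht
  · exact absurd hmod' ht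
  · exact absurd (hother 7 (by norm_num) (by rw [hcard]; norm_num) ht.1) ht.2
  · exact absurd (hother 11 (by norm_num) (by rw [hcard]; norm_num) ht.1) ht.2
  · exact absurd (hother 31 (by norm_num) (by rw [hcard]; norm_num) ht.1) ht.2
  · exact absurd (hother 37 (by norm_num) (by rw [hcard]; norm_num) ht.1) ht.2
  · exact absurd (h3 ht.1.1 ht.1.2) ht.2
  · exact ht

/-- **The row of the Lyons group.** -/
theorem sc_ly (hK : AllKnown.{u}) {G : Type u} [Group G] [Finite G] (h : Spor.IsoLy G) : H537.Cop.SC 67 G :=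
  fun _ hx => card_centralizer hK h hx

theorem sc (hK : AllKnown.{0}) : H537.Cop.SC 67 Spor.Ly := by
  have h : Spor.IsoLy Spor.Ly := ⟨MulEquiv.refl _⟩
  have hfin : Finite Spor.Ly := Nat.finite_of_card_ne_zero (by rw [NotCT.Orders.ly h]; norm_num)
  exact sc_ly hK h

end ly

end Cfsg.Agent.H655.LySixtySeven

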