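import Cfsg.Agent.OrdDiv.Main
import Cfsg.Agent.H167.HasSt
import Cfsg.Prelude.Def_LieTypeChar

/-!
# The known simple groups, with the prime divisors of their orders (helper655)

`cases` : a known nonabelian simple group is alternating, sporadic (or the Tits group), `PSL_2`, `PSL_3`, `PSU_3`,
`Sz`, or `Big`: it has a Steinberg character whose degree exceeds `(p - 2) ^ 2` for each other prime divisor `p` of
the order.
-/

set_option autoImplicit false
set_option linter.unusedSectionVars false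

namespace Cfsg.Agent.H655.Cases

open Cfsg
open Cfsg.Agent.OrdDiv (OrderTable Real Grp)
open Cfsg.Agent.H167.StChar (HasSt)

universe u

/-- The generic groups of Lie type. -/
structure Big (S : Type u) [Group S] (r q N : ℕ) : Prop where
  prime : r.Prime
  pow : ∃ f, 1 ≤ f ∧ q = r ^ f
  st : HasSt r S
  two_le : 2 ≤ N
  dvd : q ^ N ∣ Nat.card S
  lt : ∀ p, p.Prime → p ∣ Nat.card S → p ≠ r → (p - 2) ^ 2 < q ^ N

theorem sq_lt {p q i N : ℕ} (hq : 2 ≤ q) (hp : 2 ≤ p) (hi : 2 * i ≤ N) (h : p ≤ q ^ i + 1) : (p - 2) ^ 2 < q ^ N := by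
  have h1 : p - 2 < q ^ i := by omega
  calc (p - 2) ^ 2 < (q ^ i) ^ 2 := Nat.pow_lt_pow_left h1 (by norm_num)
    _ = q ^ (2 * i) := by rw [← pow_mul, mul_comm]
    _ ≤ q ^ N := Nat.pow_le_pow_right (by omega) hi

theorem Big.mk' {S : Type u} [Group S] {r q N : ℕ} (prime : r.Prime) (pow : ∃ f, 1 ≤ f ∧ q = r ^ f) (st : HasSt r S)
    (two_le : 2 ≤ N) (dvd : q ^ N ∣ Nat.card S)
    (le : ∀ p, p.Prime → p ∣ Nat.card S → p ≠ r → ∃ i, 1 ≤ i ∧ 2 * i ≤ N ∧ p ≤ q ^ i + 1) : Big S r q N := by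
  refine ⟨prime, pow, st, two_le, dvd, fun p hp hpS hpr => ?_⟩
  obtain ⟨i, -, h1, h2⟩ := le p hp hpS hpr
  obtain ⟨f, hf, hq⟩ := pow
  exact sq_lt (by rw [hq]; exact prime.two_le.trans (Nat.le_self_pow (by omega) r)) hp.two_le h1 h2

theorem of_eq {d c q N X : ℕ} (hcop : d.Coprime q) (h : d * c = q ^ N * X) :
    q ^ N ∣ c ∧ ∀ p, p.Prime → p ∣ c → ¬ p ∣ q → p ∣ X := by
  constructor
  · exact (Nat.Coprime.dvd_of_dvd_mul_left (hcop.symm.pow_left N) (h ▸ dvd_mul_right _ _))
  · intro p hp hpc hpq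
    have h1 : p ∣ q ^ N * X := h ▸ dvd_mul_of_dvd_right hpc d
    rcases hp.dvd_mul.1 h1 with h2 | h2
    · exact absurd (hp.dvd_of_dvd_pow h2) hpq
    · exact h2

theorem le_add {p q i : ℕ} (h : p ∣ q ^ i + 1) : p ≤ q ^ i + 1 := Nat.le_of_dvd (Nat.succ_pos _) h

theorem le_sub {p q i : ℕ} (hq : 2 ≤ q) (hi : 1 ≤ i) (h : p ∣ q ^ i - 1) : p ≤ q ^ i + 1 := by
  have h1 : 2 ≤ q ^ i := hq.trans (Nat.le_self_pow (by omega) q)
  have := Nat.le_of_dvd (by omega) h
  omega

theorem le_sub_two {p q i : ℕ} (hp : p.Prime) (hq : 2 ≤ q) (hi : 1 ≤ i) (h : p ∣ q ^ (2 * i) - 1) : p ≤ q ^ i + 1 := by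
  have h1 : q ^ (2 * i) - 1 = (q ^ i + 1) * (q ^ i - 1) := by
    rw [two_mul, pow_add]
    have := Nat.sq_sub_sq (q ^ i) 1
    rw [one_pow, sq] at this
    exact this
  rw [h1] at h
  rcases hp.dvd_mul.1 h with h2 | h2
  · exact le_add h2
  · exact le_sub hq hi h2

theorem dvd_prod {p : ℕ} (hp : p.Prime) (s : Finset ℕ) (f : ℕ → ℕ) (h : p ∣ ∏ i ∈ s, f i) : ∃ i ∈ s, p ∣ f i :=
  (Prime.dvd_finsetProd_iff hp.prime f).1 h

/-- The characteristic. -/
theorem exists_char (F : Type) [Field F] [Fintype F] :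
    ∃ r f, r.Prime ∧ CharP F r ∧ 1 ≤ f ∧ Fintype.card F = r ^ f := by
  obtain ⟨r, hr⟩ := CharP.exists F
  have := hr
  obtain ⟨n, h1, h2⟩ := FiniteField.card F r
  exact ⟨r, n, h1, hr, n.2, h2⟩

theorem exists_root {r f q k : ℕ} (hr : r.Prime) (hf : 1 ≤ f) (hk : k ≠ 0) (h : q ^ k = r ^ f) :
    ∃ f', 1 ≤ f' ∧ q = r ^ f' := by
  have h1 : q ∣ r ^ f := h ▸ dvd_pow_self q hk
  obtain ⟨j, -, hj⟩ := (Nat.dvd_prime_pow hr).1 h1
  refine ⟨j, ?_, hj⟩
  rcases Nat.eq_zero_or_pos j with rfl | h2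
  · rw [pow_zero] at hj
    rw [hj, one_pow] at h
    exact absurd h.symm (Nat.one_lt_pow (by omega) hr.one_lt).ne'
  · exact h2

theorem not_dvd {r q f p : ℕ} (hr : r.Prime) (hq : q = r ^ f) (hp : p.Prime) (h : p ≠ r) : ¬ p ∣ q := by
  rw [hq]
  intro h1
  exact h ((Nat.prime_dvd_prime_iff_eq hp hr).1 (hp.dvd_of_dvd_pow h1))

/-- The outcome. -/
inductive Out (S : Type u) [Group S] : Prop
  | alt (n : ℕ) (hn : 5 ≤ n) (e : Nonempty (S ≃* alternatingGroup (Fin n))) : Out S
  | spor (x : Grp × ℕ) (hx : x ∈ OrdDiv.spor) (h : Real x.1 S) (hc : Nat.card S = x.2) : Out S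
  | psl2 (F : Type) (instF : Field F) (instFF : Fintype F) (hF : 4 ≤ Fintype.card F) (r f : ℕ) (hr : r.Prime)
      (hf : 1 ≤ f) (hq : Fintype.card F = r ^ f) (hch : CharP F r) (st : HasSt r S)
      (e : Nonempty (S ≃* Matrix.ProjectiveSpecialLinearGroup (Fin 2) F))
      (hc : Nat.gcd 2 (Fintype.card F - 1) * Nat.card S = Fintype.card F * ((Fintype.card F) ^ 2 - 1)) : Out S
  | psl3 (F : Type) (instF : Field F) (instFF : Fintype F) (r f : ℕ) (hr : r.Prime)
      (hf : 1 ≤ f) (hq : Fintype.card F = r ^ f) (hch : CharP F r) (st : HasSt r S)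
      (e : Nonempty (S ≃* Matrix.ProjectiveSpecialLinearGroup (Fin 3) F))
      (hc : Nat.gcd 3 (Fintype.card F - 1) * Nat.card S = Fintype.card F ^ 3 * ((Fintype.card F ^ 2 - 1) *
        (Fintype.card F ^ 3 - 1))) : Out S
  | psu3 (F : Type) (instF : Field F) (instFF : Fintype F) (q r f : ℕ) (hq3 : 3 ≤ q) (hr : r.Prime)
      (hf : 1 ≤ f) (hq : q = r ^ f) (hF : Fintype.card F = q ^ 2) (hch : CharP F r) (st : HasSt r S)
      (e : Nonempty (S ≃* PSU 3 F q))
      (hc : Nat.gcd 3 (q + 1) * Nat.card S = q ^ 3 * ((q ^ 2 - 1) * (q ^ 3 + 1))) : Out S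
  | sz (F : Type) (instF : Field F) (instFF : Fintype F) (m : ℕ) (hm : 1 ≤ m) (hF : Fintype.card F = 2 ^ (2 * m + 1))
      (st : HasSt 2 S) (e : Nonempty (S ≃* Lie.Sz F (2 ^ (m + 1))))
      (hc : Nat.card S = (2 ^ (2 * m + 1)) ^ 2 * (2 ^ (2 * m + 1) - 1) * ((2 ^ (2 * m + 1)) ^ 2 + 1)) : Out S
  | big (r q N : ℕ) (h : Big S r q N) : Out S

section families

variable {S : Type u} [Group S] (hSt : ∀ r : ℕ, r.Prime → IsLieTypeChar r S → HasSt r S)

theorem cop_sub' {q : ℕ} (hq : 1 ≤ q) (k : ℕ) (n : ℕ) (hk : 1 ≤ k) : (Nat.gcd n (q ^ k - 1)).Coprime q :=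
  Nat.Coprime.coprime_dvd_left (Nat.gcd_dvd_right _ _) (OrdDiv.cop_sub hq hk)

theorem cop_add' {q : ℕ} (k : ℕ) (n : ℕ) (hk : 1 ≤ k) : (Nat.gcd n (q ^ k + 1)).Coprime q :=
  Nat.Coprime.coprime_dvd_left (Nat.gcd_dvd_right _ _) (OrdDiv.cop_add hk)

include hSt

theorem psl_out {F : Type} [Field F] [Fintype F] {n : ℕ} (hn : 2 ≤ n) (hn2 : n = 2 → 4 ≤ Fintype.card F)
    (e : S ≃* Matrix.ProjectiveSpecialLinearGroup (Fin n) F) : Out S := by
  obtain ⟨r, f, hr, hch, hf, hq⟩ := exists_char F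
  have hF1 : 1 < Fintype.card F := Fintype.one_lt_card
  have h := S0243.result (F := F) rfl n hn
  rw [← Nat.card_congr e.toEquiv] at h
  have hst : HasSt r S := hSt r hr (Or.inl ⟨F, inferInstance, inferInstance, hch, n, hn, hn2, ⟨e⟩⟩)
  have hQ0 : 0 < Fintype.card F - 1 := by omega
  rcases (show n = 2 ∨ n = 3 ∨ 4 ≤ n by omega) with rfl | rfl | h4
  · refine .psl2 F inferInstance inferInstance (hn2 rfl) r f hr hf hq hch hst ⟨e⟩ ?_
    rw [Fin.prod_univ_two] at h
    apply Nat.eq_of_mul_eq_mul_left hQ0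
    have h1 : Fintype.card F ^ 2 - Fintype.card F ^ ((1 : Fin 2) : ℕ) = (Fintype.card F - 1) * Fintype.card F := by
      rw [Fin.val_one, pow_one, sq, Nat.sub_mul, one_mul]
    rw [h1, Fin.val_zero, pow_zero] at h
    calc (Fintype.card F - 1) * (Nat.gcd 2 (Fintype.card F - 1) * Nat.card S)
        = Nat.gcd 2 (Fintype.card F - 1) * ((Fintype.card F - 1) * Nat.card S) := by ring
      _ = _ := by rw [h]; ring
  · refine .psl3 F inferInstance inferInstance r f hr hf hq hch hst ⟨e⟩ ?_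
    rw [Fin.prod_univ_three] at h
    apply Nat.eq_of_mul_eq_mul_left hQ0
    have h1 : Fintype.card F ^ 3 - Fintype.card F ^ ((1 : Fin 3) : ℕ) = (Fintype.card F ^ 2 - 1) * Fintype.card F := by
      rw [Fin.val_one, pow_one, Nat.sub_mul, one_mul, ← pow_succ]
    have h2 : Fintype.card F ^ 3 - Fintype.card F ^ ((2 : Fin 3) : ℕ) = (Fintype.card F - 1) * Fintype.card F ^ 2 := by
      rw [Fin.val_two, Nat.sub_mul, one_mul, ← pow_succ']
    rw [h1, h2, Fin.val_zero, pow_zero] at h
    calc (Fintype.card F - 1) * (Nat.gcd 3 (Fintype.card F - 1) * Nat.card S)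
        = Nat.gcd 3 (Fintype.card F - 1) * ((Fintype.card F - 1) * Nat.card S) := by ring
      _ = _ := by rw [h]; ring
  · refine .big r (Fintype.card F) (n * (n - 1) / 2) (Big.mk' hr ⟨f, hf, hq⟩ hst ?_ ?_ ?_)
    · have : 4 * (n - 1) ≤ n * (n - 1) := Nat.mul_le_mul_right _ h4
      omega
    · have hcop : (Nat.gcd n (Fintype.card F - 1) * (Fintype.card F - 1)).Coprime (Fintype.card F) := by
        have h1 := OrdDiv.cop_sub (q := Fintype.card F) (k := 1) (by omega) le_rfl
        rw [pow_one] at h1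
        exact Nat.Coprime.mul_left (Nat.Coprime.coprime_dvd_left (Nat.gcd_dvd_right _ _) h1) h1
      have h1 := OrdDiv.pow_dvd_glN n (Fintype.card F)
      unfold OrdDiv.glN at h1
      rw [OrdDiv.prod_list, ← Fin.prod_univ_eq_prod_range (fun i => Fintype.card F ^ n - Fintype.card F ^ i) n, ← h,
        ← mul_assoc] at h1
      exact Nat.Coprime.dvd_of_dvd_mul_left (hcop.symm.pow_left _) h1
    · intro p hp hpS hpr
      have hpq := not_dvd hr hq hp hpr
      have h1 : p ∣ ∏ i : Fin n, (Fintype.card F ^ n - Fintype.card F ^ (i : ℕ)) := by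
        rw [← h]
        exact dvd_mul_of_dvd_right (dvd_mul_of_dvd_right hpS _) _
      obtain ⟨i, -, hi⟩ := (Prime.dvd_finsetProd_iff hp.prime _).1 h1
      have h2 : Fintype.card F ^ n - Fintype.card F ^ (i : ℕ) =
          Fintype.card F ^ (i : ℕ) * (Fintype.card F ^ (n - i) - 1) := by
        rw [Nat.mul_sub, mul_one, ← pow_add, Nat.add_sub_cancel' i.2.le]
      rw [h2] at hi
      rcases hp.dvd_mul.1 hi with h3 | h3
      · exact absurd (hp.dvd_of_dvd_pow h3) hpq
      have hj : 1 ≤ n - i := by omega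
      rcases (show n = 4 ∨ 5 ≤ n by omega) with rfl | h5
      · rcases (show 4 - (i : ℕ) = 4 ∨ 4 - (i : ℕ) ≤ 3 by omega) with h6 | h6
        · rw [h6] at h3
          exact ⟨2, by omega, by omega, le_sub_two hp (by omega) (by omega) h3⟩
        · refine ⟨3, by omega, by omega, (le_sub (by omega) hj h3).trans ?_⟩
          have := Nat.pow_le_pow_right (n := Fintype.card F) (by omega) h6
          omega
      · refine ⟨n, by omega, ?_, (le_sub (by omega) hj h3).trans ?_⟩
        · have : 4 * n ≤ n * (n - 1) := by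
            rw [mul_comm 4]
            exact Nat.mul_le_mul_left _ (by omega)
          omega
        · have := Nat.pow_le_pow_right (n := Fintype.card F) (by omega) (show n - (i : ℕ) ≤ n by omega)
          omega

theorem psp_out {F : Type} [Field F] [Fintype F] {m : ℕ} (hm : 2 ≤ m) (hm2 : m = 2 → 3 ≤ Fintype.card F)
    (e : S ≃* PSp m F) : Out S := by
  obtain ⟨r, f, hr, hch, hf, hq⟩ := exists_char F
  have hF1 : 1 < Fintype.card F := Fintype.one_lt_card
  have hst : HasSt r S := hSt r hr (Or.inr (Or.inl ⟨F, inferInstance, inferInstance, hch, m, hm, hm2, ⟨e⟩⟩))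
  have h3 := Subgroup.card_eq_card_quotient_mul_card_subgroup
    (Subgroup.center (Matrix.symplecticGroup (Fin m) F))
  have h3' : Nat.card (Matrix.symplecticGroup (Fin m) F ⧸ Subgroup.center (Matrix.symplecticGroup (Fin m) F)) =
    Nat.card S := (Nat.card_congr e.toEquiv).symm
  rw [h3', S0245.result (F := F) rfl m, S0246.result (F := F) rfl m (by omega), mul_comm (Nat.card S)] at h3
  have hcop : (Nat.gcd 2 (Fintype.card F - 1)).Coprime (Fintype.card F) := by
    have h1 := OrdDiv.cop_sub (q := Fintype.card F) (k := 1) (by omega) le_rfl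
    rw [pow_one] at h1
    exact Nat.Coprime.coprime_dvd_left (Nat.gcd_dvd_right _ _) h1
  obtain ⟨h4, h5⟩ := of_eq hcop h3.symm
  refine .big r (Fintype.card F) (m ^ 2) (Big.mk' hr ⟨f, hf, hq⟩ hst (by nlinarith) h4 ?_)
  intro p hp hpS hpr
  obtain ⟨i, hi, h6⟩ := dvd_prod hp _ _ (h5 p hp hpS (not_dvd hr hq hp hpr))
  rw [Finset.mem_range] at hi
  refine ⟨i + 1, by omega, by nlinarith, le_sub_two hp (by omega) (by omega) h6⟩

theorem psu_out {F : Type} [Field F] [Fintype F] {n q : ℕ} (hF : Fintype.card F = q ^ 2) (hn : 3 ≤ n)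
    (hn2 : ¬ (n = 3 ∧ q = 2)) (e : S ≃* PSU n F q) : Out S := by
  obtain ⟨r, f, hr, hch, hf, hq⟩ := exists_char F
  have hF1 : 1 < Fintype.card F := Fintype.one_lt_card
  have hst : HasSt r S := hSt r hr (Or.inr (Or.inr (Or.inl
    ⟨F, inferInstance, inferInstance, hch, n, q, hF, hn, hn2, ⟨e⟩⟩)))
  obtain ⟨f', hf', hqr⟩ := exists_root hr hf (by norm_num) (hF.symm.trans hq)
  have hq2 : 2 ≤ q := by
    rw [hqr]
    exact hr.two_le.trans (Nat.le_self_pow (by omega) r)
  have h := S0280.result hF n (by omega)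
  rw [← Nat.card_congr e.toEquiv] at h
  rcases (show n = 3 ∨ 4 ≤ n by omega) with rfl | h4
  · have hq3 : 3 ≤ q := by
      have : q ≠ 2 := fun h => hn2 ⟨rfl, h⟩
      omega
    refine .psu3 F inferInstance inferInstance q r f' hq3 hr hf' hqr hF hch hst ⟨e⟩ ?_
    apply Nat.eq_of_mul_eq_mul_left (show 0 < q + 1 by omega)
    rw [Finset.prod_range_succ, Finset.prod_range_succ, Finset.prod_range_succ, Finset.prod_range_zero,
      if_pos (by decide), if_neg (by decide), if_pos (by decide)] at h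
    calc (q + 1) * (Nat.gcd 3 (q + 1) * Nat.card S) = Nat.gcd 3 (q + 1) * ((q + 1) * Nat.card S) := by ring
      _ = _ := by rw [h]; ring
  · have hcop : (Nat.gcd n (q + 1) * (q + 1)).Coprime q := by
      have h1 := OrdDiv.cop_add (q := q) (k := 1) le_rfl
      rw [pow_one] at h1
      exact Nat.Coprime.mul_left (Nat.Coprime.coprime_dvd_left (Nat.gcd_dvd_right _ _) h1) h1
    rw [← mul_assoc] at h
    obtain ⟨h6, h5⟩ := of_eq hcop h
    have hnn : 4 * (n - 1) ≤ n * (n - 1) := Nat.mul_le_mul_right _ h4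
    refine .big r q (n * (n - 1) / 2) (Big.mk' hr ⟨f', hf', hqr⟩ hst (by omega) h6 ?_)
    intro p hp hpS hpr
    obtain ⟨i, hi, h7⟩ := dvd_prod hp _ _ (h5 p hp hpS (not_dvd hr hqr hp hpr))
    rw [Finset.mem_range] at hi
    have h8 : p ≤ q ^ (i + 1) + 1 := by
      split_ifs at h7
      · exact le_add h7
      · exact le_sub hq2 (by omega) h7
    rcases (show n = 4 ∨ 5 ≤ n by omega) with rfl | h5
    · rcases (show i = 3 ∨ i ≤ 2 by omega) with rfl | h9
      · rw [if_neg (by decide)] at h7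
        exact ⟨2, by omega, by omega, le_sub_two hp hq2 (by omega) h7⟩
      · refine ⟨3, by omega, by omega, h8.trans ?_⟩
        have := Nat.pow_le_pow_right (n := q) (by omega) (show i + 1 ≤ 3 by omega)
        omega
    · refine ⟨n, by omega, ?_, h8.trans ?_⟩
      · have : n * 4 ≤ n * (n - 1) := Nat.mul_le_mul_left _ (by omega)
        omega
      · have := Nat.pow_le_pow_right (n := q) (by omega) (show i + 1 ≤ n by omega)
        omega

theorem oodd_out {F : Type} [Field F] [Fintype F] {m : ℕ} (hm : 3 ≤ m) (ho : Odd (Fintype.card F))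
    (e : S ≃* POmega F (quadFormOdd m F)) : Out S := by
  obtain ⟨r, f, hr, hch, hf, hq⟩ := exists_char F
  have hF1 : 1 < Fintype.card F := Fintype.one_lt_card
  have hst : HasSt r S := hSt r hr (Or.inr (Or.inr (Or.inr (Or.inl
    ⟨F, inferInstance, inferInstance, hch, m, hm, ho, ⟨e⟩⟩))))
  have h := S0292.result (F := F) rfl ho m hm
  rw [← Nat.card_congr e.toEquiv] at h
  obtain ⟨h4, h5⟩ := of_eq (Nat.coprime_two_left.2 ho) h
  refine .big r (Fintype.card F) (m ^ 2) (Big.mk' hr ⟨f, hf, hq⟩ hst (by nlinarith) h4 ?_)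
  intro p hp hpS hpr
  obtain ⟨i, hi, h6⟩ := dvd_prod hp _ _ (h5 p hp hpS (not_dvd hr hq hp hpr))
  rw [Finset.mem_range] at hi
  refine ⟨i + 1, by omega, by nlinarith, le_sub_two hp (by omega) (by omega) h6⟩

theorem oplus_out {F : Type} [Field F] [Fintype F] {m : ℕ} (hm : 4 ≤ m)
    (e : S ≃* POmega F (quadFormPlus m F)) : Out S := by
  obtain ⟨r, f, hr, hch, hf, hq⟩ := exists_char F
  have hF1 : 1 < Fintype.card F := Fintype.one_lt_card
  have hst : HasSt r S := hSt r hr (Or.inr (Or.inr (Or.inr (Or.inr (Or.inl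
    ⟨F, inferInstance, inferInstance, hch, m, hm, ⟨e⟩⟩)))))
  have h := S0293.result (F := F) rfl m hm
  rw [← Nat.card_congr e.toEquiv, mul_assoc] at h
  have hmm : m * 3 ≤ m * (m - 1) := Nat.mul_le_mul_left _ (by omega)
  obtain ⟨h4, h5⟩ := of_eq (cop_sub' (by omega) m 4 (by omega)) h
  refine .big r (Fintype.card F) (m * (m - 1)) (Big.mk' hr ⟨f, hf, hq⟩ hst (by omega) h4 ?_)
  intro p hp hpS hpr
  rcases hp.dvd_mul.1 (h5 p hp hpS (not_dvd hr hq hp hpr)) with h6 | h6
  · exact ⟨m, by omega, by omega, le_sub (by omega) (by omega) h6⟩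
  obtain ⟨i, hi, h6⟩ := dvd_prod hp _ _ h6
  rw [Finset.mem_range] at hi
  exact ⟨i + 1, by omega, by omega, le_sub_two hp (by omega) (by omega) h6⟩

theorem ominus_out {F : Type} [Field F] [Fintype F] {m : ℕ} (hm : 4 ≤ m) {a b : F}
    (hab : ∀ z₁ z₂ : F, z₁ ^ 2 + a * z₁ * z₂ + b * z₂ ^ 2 = 0 → z₁ = 0 ∧ z₂ = 0)
    (e : S ≃* POmega F (quadFormMinus (m - 1) F a b)) : Out S := by
  obtain ⟨r, f, hr, hch, hf, hq⟩ := exists_char F
  have hF1 : 1 < Fintype.card F := Fintype.one_lt_card
  have hst : HasSt r S := hSt r hr (Or.inr (Or.inr (Or.inr (Or.inr (Or.inr (Or.inl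
    ⟨F, inferInstance, inferInstance, hch, m, a, b, hm, hab, ⟨e⟩⟩))))))
  have h := S0294.result (F := F) rfl m hm a b hab
  rw [← Nat.card_congr e.toEquiv, mul_assoc] at h
  have hmm : m * 3 ≤ m * (m - 1) := Nat.mul_le_mul_left _ (by omega)
  obtain ⟨h4, h5⟩ := of_eq (cop_add' m 4 (by omega)) h
  refine .big r (Fintype.card F) (m * (m - 1)) (Big.mk' hr ⟨f, hf, hq⟩ hst (by omega) h4 ?_)
  intro p hp hpS hpr
  rcases hp.dvd_mul.1 (h5 p hp hpS (not_dvd hr hq hp hpr)) with h6 | h6
  · exact ⟨m, by omega, by omega, le_add h6⟩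
  obtain ⟨i, hi, h6⟩ := dvd_prod hp _ _ h6
  rw [Finset.mem_range] at hi
  exact ⟨i + 1, by omega, by omega, le_sub_two hp (by omega) (by omega) h6⟩

omit hSt in
/-- One-parameter families. -/
theorem one_out {d q N X r f B : ℕ} (hr : r.Prime) (hf : 1 ≤ f) (hq : q = r ^ f) (hst : HasSt r S)
    (hcop : d.Coprime q) (h : d * Nat.card S = q ^ N * X) (hN : 2 ≤ N) (hB : 1 ≤ B) (hBN : 2 * B ≤ N)
    (hX : ∀ p, p.Prime → p ∣ X → ∃ i, 1 ≤ i ∧ i ≤ B ∧ p ≤ q ^ i + 1) : Out S := by
  obtain ⟨h4, h5⟩ := of_eq hcop h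
  refine .big r q N (Big.mk' hr ⟨f, hf, hq⟩ hst hN h4 ?_)
  intro p hp hpS hpr
  obtain ⟨i, h1, h2, h3⟩ := hX p hp (h5 p hp hpS (not_dvd hr hq hp hpr))
  exact ⟨i, h1, by omega, h3⟩

end families

theorem gcd_cop_sub {q n : ℕ} (hq : 1 ≤ q) : (Nat.gcd n (q - 1)).Coprime q := by
  have := cop_sub' hq 1 n le_rfl
  rwa [pow_one] at this

theorem gcd_cop_add {q n : ℕ} : (Nat.gcd n (q + 1)).Coprime q := by
  have := cop_add' (q := q) 1 n le_rfl
  rwa [pow_one] at this

theorem ree_lt {q s p : ℕ} (hq : 27 ≤ q) (hs : 3 * q = s ^ 2) (hsq : s ≤ q) (hp : p.Prime)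
    (h : p ∣ (q - 1) * (q ^ 3 + 1)) : (p - 2) ^ 2 < q ^ 3 := by
  have h1 : q ^ 3 + 1 = (q + 1) * ((q + 1 + s) * (q + 1 - s)) := by
    have h2 : (q + 1 + s) * (q + 1 - s) = (q + 1) ^ 2 - s ^ 2 := (Nat.sq_sub_sq (q + 1) s).symm
    have h3 : s ^ 2 ≤ (q + 1) ^ 2 := Nat.pow_le_pow_left (by omega) 2
    rw [h2]
    zify [h3]
    have hs' : 3 * (q : ℤ) = (s : ℤ) ^ 2 := by exact_mod_cast hs
    rw [← hs']
    ring
  have h2 : p ≤ q + 1 + s := by
    rw [h1] at h
    simp only [hp.dvd_mul] at h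
    rcases h with h | h | h | h
    · have := Nat.le_of_dvd (by omega) h
      omega
    · have := Nat.le_of_dvd (by omega) h
      omega
    · exact Nat.le_of_dvd (by omega) h
    · have := Nat.le_of_dvd (by omega) h
      omega
  have h3 : p - 2 ≤ 2 * q := by omega
  calc (p - 2) ^ 2 ≤ (2 * q) ^ 2 := Nat.pow_le_pow_left h3 2
    _ < q ^ 3 := by nlinarith

/-- **The case list.** -/
theorem cases (T : OrderTable.{u}) {S : Type u} [Group S] (h : IsKnownSimple' S)
    (hna : ¬ ∀ a b : S, a * b = b * a) (hSt : ∀ r : ℕ, r.Prime → IsLieTypeChar r S → HasSt r S) : Out S := by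
  have key : ∀ (g : Grp), g ∈ OrdDiv.spor.map (fun x => x.1) → Real g S → Out S := fun g hg hr => by
    obtain ⟨x, hx, rfl⟩ := List.mem_map.1 hg
    exact .spor x hx hr (T.spor S x hx hr)
  rcases h with h | h | h | h | h | h | h | h | h | h
  · exfalso
    have : Fact (Nat.card S).Prime := ⟨h⟩
    have : IsCyclic S := isCyclic_of_prime_card (p := Nat.card S) rfl
    exact hna fun a b => (IsCyclic.isMulCommutative (α := S)).is_comm.comm a b
  · obtain ⟨n, hn, e⟩ := h
    exact .alt n hn e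
  · obtain ⟨F, _, _, n, hn, hn2, ⟨e⟩⟩ := h
    exact psl_out hSt hn hn2 e
  · obtain ⟨F, _, _, n, hn, hn2, ⟨e⟩⟩ := h
    exact psp_out hSt hn hn2 e
  · obtain ⟨F, _, _, n, q, hF, hn, hn2, ⟨e⟩⟩ := h
    exact psu_out hSt hF hn hn2 e
  · obtain ⟨F, _, _, n, hn, ho, ⟨e⟩⟩ := h
    exact oodd_out hSt hn ho e
  · obtain ⟨F, _, _, n, hn, ⟨e⟩⟩ := h
    exact oplus_out hSt hn e
  · obtain ⟨F, _, _, n, a, b, hn, hab, ⟨e⟩⟩ := h
    exact ominus_out hSt hn hab e
  · rcases h with h | h | h | h | h | h | h | h | h | h | h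
    · obtain ⟨F, _, _, hq3, ⟨e⟩⟩ := h
      obtain ⟨r, f, hr, hch, hf, hq⟩ := exists_char F
      have hF1 : 1 < Fintype.card F := Fintype.one_lt_card
      have hst : HasSt r S := hSt r hr (by
        right; right; right; right; right; right; left
        exact ⟨F, inferInstance, inferInstance, hch, Or.inl ⟨hq3, ⟨e⟩⟩⟩)
      refine one_out (d := 1) (N := 6) (B := 3) hr hf hq hst (Nat.coprime_one_left _)
        (X := (Fintype.card F ^ 2 - 1) * (Fintype.card F ^ 6 - 1))
        (by rw [Nat.card_congr e.toEquiv, T.g2 F]; ring) (by norm_num) (by norm_num) (by norm_num) ?_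
      intro p hp hpX
      rcases hp.dvd_mul.1 hpX with h | h
      · exact ⟨2, by norm_num, by norm_num, le_sub (by omega) (by norm_num) h⟩
      · exact ⟨3, by norm_num, by norm_num, le_sub_two (i := 3) hp (by omega) (by norm_num) h⟩
    · obtain ⟨F, _, _, ⟨e⟩⟩ := h
      obtain ⟨r, f, hr, hch, hf, hq⟩ := exists_char F
      have hF1 : 1 < Fintype.card F := Fintype.one_lt_card
      have hst : HasSt r S := hSt r hr (by
        right; right; right; right; right; right; left
        exact ⟨F, inferInstance, inferInstance, hch, Or.inr (Or.inl ⟨e⟩)⟩)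
      refine one_out (d := 1) (N := 24) (B := 12) hr hf hq hst (Nat.coprime_one_left _)
        (X := (Fintype.card F ^ 2 - 1) * (Fintype.card F ^ 6 - 1) * (Fintype.card F ^ 8 - 1) * (Fintype.card F ^ 12 - 1))
        (by rw [Nat.card_congr e.toEquiv, T.f4 F _ rfl]; ring) (by norm_num) (by norm_num) (by norm_num) ?_
      intro p hp hpX
      simp only [hp.dvd_mul] at hpX
      rcases hpX with ((h | h) | h) | h
      · exact ⟨2, by norm_num, by norm_num, le_sub (by omega) (by norm_num) h⟩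
      · exact ⟨6, by norm_num, by norm_num, le_sub (by omega) (by norm_num) h⟩
      · exact ⟨8, by norm_num, by norm_num, le_sub (by omega) (by norm_num) h⟩
      · exact ⟨12, by norm_num, by norm_num, le_sub (by omega) (by norm_num) h⟩
    · obtain ⟨F, _, _, ⟨e⟩⟩ := h
      obtain ⟨r, f, hr, hch, hf, hq⟩ := exists_char F
      have hF1 : 1 < Fintype.card F := Fintype.one_lt_card
      have hst : HasSt r S := hSt r hr (by
        right; right; right; right; right; right; left
        exact ⟨F, inferInstance, inferInstance, hch, Or.inr (Or.inr (Or.inl ⟨e⟩))⟩)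
      refine one_out (d := Nat.gcd 3 (Fintype.card F - 1)) (N := 36) (B := 12) hr hf hq hst
        (gcd_cop_sub (by omega))
        (X := (Fintype.card F ^ 2 - 1) * (Fintype.card F ^ 5 - 1) * (Fintype.card F ^ 6 - 1) *
          (Fintype.card F ^ 8 - 1) * (Fintype.card F ^ 9 - 1) * (Fintype.card F ^ 12 - 1))
        (by rw [Nat.card_congr e.toEquiv, T.e6 F _ rfl]; ring) (by norm_num) (by norm_num) (by norm_num) ?_
      intro p hp hpX
      simp only [hp.dvd_mul] at hpX
      rcases hpX with ((((h | h) | h) | h) | h) | h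
      · exact ⟨2, by norm_num, by norm_num, le_sub (by omega) (by norm_num) h⟩
      · exact ⟨5, by norm_num, by norm_num, le_sub (by omega) (by norm_num) h⟩
      · exact ⟨6, by norm_num, by norm_num, le_sub (by omega) (by norm_num) h⟩
      · exact ⟨8, by norm_num, by norm_num, le_sub (by omega) (by norm_num) h⟩
      · exact ⟨9, by norm_num, by norm_num, le_sub (by omega) (by norm_num) h⟩
      · exact ⟨12, by norm_num, by norm_num, le_sub (by omega) (by norm_num) h⟩
    · obtain ⟨F, _, _, ⟨e⟩⟩ := h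
      obtain ⟨r, f, hr, hch, hf, hq⟩ := exists_char F
      have hF1 : 1 < Fintype.card F := Fintype.one_lt_card
      have hst : HasSt r S := hSt r hr (by
        right; right; right; right; right; right; left
        exact ⟨F, inferInstance, inferInstance, hch, Or.inr (Or.inr (Or.inr (Or.inl ⟨e⟩)))⟩)
      refine one_out (d := Nat.gcd 2 (Fintype.card F - 1)) (N := 63) (B := 18) hr hf hq hst
        (gcd_cop_sub (by omega))
        (X := (Fintype.card F ^ 2 - 1) * (Fintype.card F ^ 6 - 1) * (Fintype.card F ^ 8 - 1) *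
          (Fintype.card F ^ 10 - 1) * (Fintype.card F ^ 12 - 1) * (Fintype.card F ^ 14 - 1) *
          (Fintype.card F ^ 18 - 1))
        (by rw [Nat.card_congr e.toEquiv, T.e7 F _ rfl]; ring) (by norm_num) (by norm_num) (by norm_num) ?_
      intro p hp hpX
      simp only [hp.dvd_mul] at hpX
      rcases hpX with (((((h | h) | h) | h) | h) | h) | h
      · exact ⟨2, by norm_num, by norm_num, le_sub (by omega) (by norm_num) h⟩
      · exact ⟨6, by norm_num, by norm_num, le_sub (by omega) (by norm_num) h⟩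
      · exact ⟨8, by norm_num, by norm_num, le_sub (by omega) (by norm_num) h⟩
      · exact ⟨10, by norm_num, by norm_num, le_sub (by omega) (by norm_num) h⟩
      · exact ⟨12, by norm_num, by norm_num, le_sub (by omega) (by norm_num) h⟩
      · exact ⟨14, by norm_num, by norm_num, le_sub (by omega) (by norm_num) h⟩
      · exact ⟨18, by norm_num, by norm_num, le_sub (by omega) (by norm_num) h⟩
    · obtain ⟨F, _, _, ⟨e⟩⟩ := h
      obtain ⟨r, f, hr, hch, hf, hq⟩ := exists_char F
      have hF1 : 1 < Fintype.card F := Fintype.one_lt_card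
      have hst : HasSt r S := hSt r hr (by
        right; right; right; right; right; right; left
        exact ⟨F, inferInstance, inferInstance, hch, Or.inr (Or.inr (Or.inr (Or.inr ⟨e⟩)))⟩)
      refine one_out (d := 1) (N := 120) (B := 30) hr hf hq hst (Nat.coprime_one_left _)
        (X := (Fintype.card F ^ 2 - 1) * (Fintype.card F ^ 8 - 1) * (Fintype.card F ^ 12 - 1) *
          (Fintype.card F ^ 14 - 1) * (Fintype.card F ^ 18 - 1) * (Fintype.card F ^ 20 - 1) *
          (Fintype.card F ^ 24 - 1) * (Fintype.card F ^ 30 - 1))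
        (by rw [Nat.card_congr e.toEquiv, T.e8 F _ rfl]; ring) (by norm_num) (by norm_num) (by norm_num) ?_
      intro p hp hpX
      simp only [hp.dvd_mul] at hpX
      rcases hpX with ((((((h | h) | h) | h) | h) | h) | h) | h
      · exact ⟨2, by norm_num, by norm_num, le_sub (by omega) (by norm_num) h⟩
      · exact ⟨8, by norm_num, by norm_num, le_sub (by omega) (by norm_num) h⟩
      · exact ⟨12, by norm_num, by norm_num, le_sub (by omega) (by norm_num) h⟩
      · exact ⟨14, by norm_num, by norm_num, le_sub (by omega) (by norm_num) h⟩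
      · exact ⟨18, by norm_num, by norm_num, le_sub (by omega) (by norm_num) h⟩
      · exact ⟨20, by norm_num, by norm_num, le_sub (by omega) (by norm_num) h⟩
      · exact ⟨24, by norm_num, by norm_num, le_sub (by omega) (by norm_num) h⟩
      · exact ⟨30, by norm_num, by norm_num, le_sub (by omega) (by norm_num) h⟩
    · obtain ⟨F, _, _, q, hqp, hF, ⟨e⟩⟩ := h
      obtain ⟨r, f, hr, hch, hf, hq⟩ := exists_char F
      have hst : HasSt r S := hSt r hr (by
        right; right; right; right; right; right; right; left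
        exact ⟨F, inferInstance, inferInstance, hch, q, hqp, Or.inl ⟨hF, ⟨e⟩⟩⟩)
      obtain ⟨f', hf', hqr⟩ := exists_root hr hf (by norm_num) (hF.symm.trans hq)
      have hq2 := hqp.two_le
      refine one_out (d := Nat.gcd 3 (q + 1)) (N := 36) (B := 12) hr hf' hqr hst gcd_cop_add
        (X := (q ^ 2 - 1) * (q ^ 5 + 1) * (q ^ 6 - 1) * (q ^ 8 - 1) * (q ^ 9 + 1) * (q ^ 12 - 1))
        (by rw [Nat.card_congr e.toEquiv, T.te6 F q hqp hF]; ring) (by norm_num) (by norm_num) (by norm_num) ?_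
      intro p hp hpX
      simp only [hp.dvd_mul] at hpX
      rcases hpX with ((((h | h) | h) | h) | h) | h
      · exact ⟨2, by norm_num, by norm_num, le_sub hq2 (by norm_num) h⟩
      · exact ⟨5, by norm_num, by norm_num, le_add h⟩
      · exact ⟨6, by norm_num, by norm_num, le_sub hq2 (by norm_num) h⟩
      · exact ⟨8, by norm_num, by norm_num, le_sub hq2 (by norm_num) h⟩
      · exact ⟨9, by norm_num, by norm_num, le_add h⟩
      · exact ⟨12, by norm_num, by norm_num, le_sub hq2 (by norm_num) h⟩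
    · obtain ⟨F, _, _, q, hqp, hF, ⟨e⟩⟩ := h
      obtain ⟨r, f, hr, hch, hf, hq⟩ := exists_char F
      have hst : HasSt r S := hSt r hr (by
        right; right; right; right; right; right; right; left
        exact ⟨F, inferInstance, inferInstance, hch, q, hqp, Or.inr ⟨hF, ⟨e⟩⟩⟩)
      obtain ⟨f', hf', hqr⟩ := exists_root hr hf (by norm_num) (hF.symm.trans hq)
      have hq2 := hqp.two_le
      refine one_out (d := 1) (N := 12) (B := 6) hr hf' hqr hst (Nat.coprime_one_left _)
        (X := (q ^ 2 - 1) * (q ^ 6 - 1) * (q ^ 8 + q ^ 4 + 1))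
        (by rw [Nat.card_congr e.toEquiv, T.td4 F q hqp hF]; ring) (by norm_num) (by norm_num) (by norm_num) ?_
      intro p hp hpX
      simp only [hp.dvd_mul] at hpX
      rcases hpX with (h | h) | h
      · exact ⟨2, by norm_num, by norm_num, le_sub hq2 (by norm_num) h⟩
      · exact ⟨6, by norm_num, by norm_num, le_sub hq2 (by norm_num) h⟩
      · refine ⟨6, by norm_num, by norm_num, ?_⟩
        have h1 : q ^ 2 ≤ q ^ 4 := Nat.pow_le_pow_right (by omega) (by norm_num)
        have h2 : q ^ 8 + q ^ 4 + 1 = (q ^ 4 + q ^ 2 + 1) * (q ^ 4 - q ^ 2 + 1) := by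
          zify [h1]
          ring
        have h3 : q ^ 4 + q ^ 2 ≤ q ^ 6 := by
          have h4 : q ^ 6 = q ^ 4 * q ^ 2 := by ring
          have h5 : 2 ^ 2 ≤ q ^ 2 := Nat.pow_le_pow_left hq2 2
          nlinarith
        rw [h2] at h
        rcases hp.dvd_mul.1 h with h | h
        · have := Nat.le_of_dvd (Nat.succ_pos _) h
          omega
        · have := Nat.le_of_dvd (Nat.succ_pos _) h
          omega
    · obtain ⟨F, _, _, m, hm, hF, ⟨e⟩⟩ := h
      refine .sz F inferInstance inferInstance m hm hF (hSt 2 Nat.prime_two ?_) ⟨e⟩ ?_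
      · right; right; right; right; right; right; right; right; left
        exact ⟨rfl, F, inferInstance, inferInstance, m, hm, hF, ⟨e⟩⟩
      · rw [Nat.card_congr e.toEquiv, T.sz F m hm hF]
    · obtain ⟨F, _, _, m, hm, hF, ⟨e⟩⟩ := h
      have hq27 : 27 ≤ 3 ^ (2 * m + 1) := by
        calc 27 = 3 ^ 3 := by norm_num
          _ ≤ _ := Nat.pow_le_pow_right (by norm_num) (by omega)
      have hst : HasSt 3 S := hSt 3 Nat.prime_three (by
        right; right; right; right; right; right; right; right; right; right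
        exact ⟨rfl, F, inferInstance, inferInstance, m, hm, hF, ⟨e⟩⟩)
      have hX : Nat.card S = (3 ^ (2 * m + 1)) ^ 3 * ((3 ^ (2 * m + 1) - 1) * ((3 ^ (2 * m + 1)) ^ 3 + 1)) := by
        rw [Nat.card_congr e.toEquiv, T.ree F m hm hF]; ring
      have h3q : 3 * 3 ^ (2 * m + 1) = (3 ^ (m + 1)) ^ 2 := by ring
      have h3m : 3 ^ (m + 1) ≤ 3 ^ (2 * m + 1) := Nat.pow_le_pow_right (by norm_num) (by omega)
      obtain ⟨h4, h5⟩ := of_eq (d := 1) (Nat.coprime_one_left _) ((one_mul _).trans hX)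
      refine .big 3 (3 ^ (2 * m + 1)) 3 ⟨Nat.prime_three, ⟨2 * m + 1, by omega, rfl⟩, hst, by norm_num, h4, ?_⟩
      intro p hp hpS hp3
      exact ree_lt hq27 h3q h3m hp (h5 p hp hpS (not_dvd Nat.prime_three rfl hp hp3))
    · obtain ⟨F, _, _, m, hm, hF, ⟨e⟩⟩ := h
      have hq2 : 2 ≤ 2 ^ (2 * m + 1) := Nat.le_self_pow (by omega) 2
      have hst : HasSt 2 S := hSt 2 Nat.prime_two (by
        right; right; right; right; right; right; right; right; right; left
        exact ⟨rfl, F, inferInstance, inferInstance, m, hm, hF, ⟨e⟩⟩)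
      refine one_out (d := 1) (q := 2 ^ (2 * m + 1)) (N := 12) (B := 6) Nat.prime_two (show 1 ≤ 2 * m + 1 by omega) rfl hst
        (Nat.coprime_one_left _)
        (X := (2 ^ (2 * m + 1) - 1) * ((2 ^ (2 * m + 1)) ^ 3 + 1) * ((2 ^ (2 * m + 1)) ^ 4 - 1) *
          ((2 ^ (2 * m + 1)) ^ 6 + 1))
        (by rw [Nat.card_congr e.toEquiv, T.tf4 F m hm hF]; ring) (by norm_num) (by norm_num) (by norm_num) ?_
      intro p hp hpX
      simp only [hp.dvd_mul] at hpX
      rcases hpX with ((h | h) | h) | h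
      · exact ⟨1, by norm_num, by norm_num, le_sub (q := 2 ^ (2 * m + 1)) (i := 1) hq2 (by norm_num) (by rw [pow_one]; exact h)⟩
      · exact ⟨3, by norm_num, by norm_num, le_add h⟩
      · exact ⟨4, by norm_num, by norm_num, le_sub hq2 (by norm_num) h⟩
      · exact ⟨6, by norm_num, by norm_num, le_add h⟩
    · exact key .tits (by decide) h
  · rcases h with h | h | h | h | h | h | h | h | h | h | h | h | h | h | h | h | h | h | h | h | h | h | h | h | h | h
    · exact key .m11 (by decide) h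
    · exact key .m12 (by decide) h
    · exact key .m22 (by decide) h
    · exact key .m23 (by decide) h
    · exact key .m24 (by decide) h
    · exact key .j1 (by decide) h
    · exact key .j2 (by decide) h
    · exact key .j3 (by decide) h
    · exact key .j4 (by decide) h
    · exact key .co1 (by decide) h
    · exact key .co2 (by decide) h
    · exact key .co3 (by decide) h
    · exact key .mcl (by decide) h
    · exact key .hs (by decide) h
    · exact key .suz (by decide) h
    · exact key .he (by decide) h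
    · exact key .ru (by decide) h
    · exact key .on (by decide) h
    · exact key .ly (by decide) h
    · exact key .fi22 (by decide) h
    · exact key .fi23 (by decide) h
    · exact key .fi24 (by decide) h
    · exact key .hn (by decide) h
    · exact key .th (by decide) h
    · exact key .b (by decide) h
    · exact key .m (by decide) h

end Cfsg.Agent.H655.Cases
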