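import Cfsg.Agent.H655.Cases
import Cfsg.Agent.H655.Numbers

/-!
# The numerical conditions for the known simple groups (helper655)
-/

set_option autoImplicit false
set_option linter.unusedSectionVars false

namespace Cfsg.Agent.H655.Elim

open Cfsg
open Cfsg.Agent.H167.StChar (HasSt)
open Cfsg.Agent.H655.Cases Cfsg.Agent.H655.Numbers

universe u

variable {S : Type u} [Group S] {p E t : ℕ}

theorem E_le (h : Num S p E t) : 2 * E ≤ p - 1 := by
  rw [← h.het, mul_comm 2]
  exact Nat.mul_le_mul_left _ h.two_le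

theorem five_le (h : Num S p E t) : 5 ≤ p := by
  have h1 := E_le h
  have h2 := h.two_le_E
  omega

theorem finite (h : Num S p E t) : Finite S := by
  obtain ⟨k, hk⟩ := h.card
  apply Nat.finite_of_card_ne_zero
  rw [hk]
  have h1 := h.prime.pos
  have h2 := h.two_le_E
  positivity

theorem dvd_card (h : Num S p E t) : p ∣ Nat.card S := by
  obtain ⟨k, hk⟩ := h.card
  rw [hk, mul_assoc]
  exact dvd_mul_right _ _

theorem not_sq_dvd (h : Num S p E t) : ¬ p ^ 2 ∣ Nat.card S := by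
  obtain ⟨k, hk⟩ := h.card
  intro h1
  rw [hk, sq, mul_assoc] at h1
  have h2 := Nat.dvd_of_mul_dvd_mul_left h.prime.pos h1
  have hE := E_le h
  have hE2 := h.two_le_E
  rcases h.prime.dvd_mul.1 h2 with h3 | h3
  · have := Nat.le_of_dvd (by omega) h3
    omega
  · have h4 : p ∣ 1 := by
      have h5 : p ∣ k * p := dvd_mul_left p k
      exact (Nat.dvd_add_left h5).1 h3
    exact h.prime.one_lt.ne' (Nat.dvd_one.1 h4)

theorem st_le (h : Num S p E t) {r q f N : ℕ} (hr : r.Prime) (hrp : r ≠ p) (hq : q = r ^ f) (hst : HasSt r S)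
    (hdvd : q ^ N ∣ Nat.card S) : q ^ N ≤ (p - E) ^ 2 := by
  have := finite h
  refine le_trans ?_ (h.st r hr hrp hst)
  rw [hq, ← pow_mul] at hdvd ⊢
  exact Nat.pow_le_pow_right hr.pos ((hr.pow_dvd_iff_le_factorization Nat.card_pos.ne').1 hdvd)

theorem st_le' (h : Num S p E t) {r q f N : ℕ} (hr : r.Prime) (hrp : r ≠ p) (hq : q = r ^ f) (hst : HasSt r S)
    (hdvd : q ^ N ∣ Nat.card S) : q ^ N ≤ (p - 2) ^ 2 := by
  refine (st_le h hr hrp hq hst hdvd).trans (Nat.pow_le_pow_left ?_ 2)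
  have := h.two_le_E
  omega

/-- The generic groups are excluded. -/
theorem not_big (h : Num S p E t) {r q N : ℕ} (hb : Big S r q N) : False := by
  obtain ⟨f, hf, hq⟩ := hb.pow
  by_cases hpr : p = r
  · subst hpr
    apply not_sq_dvd h
    refine dvd_trans ?_ hb.dvd
    rw [hq, ← pow_mul]
    exact pow_dvd_pow _ (by nlinarith [hb.two_le])
  · have h1 := st_le' h hb.prime (Ne.symm hpr) hq hb.st hb.dvd
    have h2 := hb.lt p h.prime (dvd_card h) hpr
    omega

/-- `|S| = p c` implies `c ≡ E`. -/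
theorem modEq (h : Num S p E t) {g X : ℕ} (hX : g * Nat.card S = p * X) : ((g * E : ℕ) : ZMod p) = (X : ZMod p) := by
  obtain ⟨k, hk⟩ := h.card
  have h1 : X = g * (E * (1 + k * p)) := by
    apply Nat.eq_of_mul_eq_mul_left h.prime.pos
    rw [← hX, hk]
    ring
  rw [h1]
  push_cast
  rw [CharP.cast_eq_zero (ZMod p) p]
  ring

/-- Suzuki groups. -/
theorem not_sz (h : Num S p E t) {m : ℕ} (hm : 1 ≤ m) (hst : HasSt 2 S)
    (hc : Nat.card S = (2 ^ (2 * m + 1)) ^ 2 * (2 ^ (2 * m + 1) - 1) * ((2 ^ (2 * m + 1)) ^ 2 + 1)) : False := by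
  have hp := h.prime
  have hp5 := five_le h
  have hE := E_le h
  have hE2 := h.two_le_E
  have h1 := st_le h (q := 2 ^ (2 * m + 1)) (N := 2) Nat.prime_two (by omega) rfl hst
    (by rw [hc, mul_assoc]; exact dvd_mul_right _ _)
  have h2 : 2 ^ (2 * m + 1) ≤ p - E := by
    by_contra h3
    exact absurd h1 (not_le.2 (Nat.pow_lt_pow_left (not_le.1 h3) (by norm_num)))
  have hs2 : 2 * 2 ^ (2 * m + 1) = (2 ^ (m + 1)) ^ 2 := by ring
  have hs4 : 4 ≤ 2 ^ (m + 1) := by
    calc 4 = 2 ^ 2 := by norm_num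
      _ ≤ _ := Nat.pow_le_pow_right (by norm_num) (by omega)
  have hq2 : 2 ∣ 2 ^ (2 * m + 1) := dvd_pow_self 2 (by omega)
  obtain ⟨s', hs'⟩ : ∃ s', 2 ^ (m + 1) = 2 * s' := ⟨2 ^ m, by ring⟩
  have hsl : s' * 4 ≤ 2 ^ (2 * m + 1) := by
    have h4 : 2 * 2 ^ (2 * m + 1) = (2 * s') * (2 * s') := by rw [hs2, hs']; ring
    nlinarith
  have hpd := dvd_card h
  have hpow2 : p.Coprime (2 ^ (2 * m + 1)) := by
    rw [Nat.Prime.coprime_iff_not_dvd hp]
    intro h3
    have := (Nat.prime_dvd_prime_iff_eq hp Nat.prime_two).1 (hp.dvd_of_dvd_pow h3)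
    omega
  have hqodd : ∀ l : ℕ, l.Prime → l ≠ 2 → l.Coprime (2 ^ (2 * m + 1)) := fun l hl hl2 =>
    ((Nat.coprime_primes hl Nat.prime_two).2 hl2).pow_right _
  generalize 2 ^ (2 * m + 1) = q at *
  generalize 2 ^ (m + 1) = s at *
  have hfac : q ^ 2 + 1 = (q + s + 1) * (q - s + 1) := by
    have : s ≤ q := by omega
    zify [this]
    have hs2' : 2 * (q : ℤ) = (s : ℤ) ^ 2 := by exact_mod_cast hs2
    linear_combination -hs2'
  rw [hfac] at hc
  rw [hc] at hpd
  have hpeq : p = q + s + 1 := by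
    rcases hp.dvd_mul.1 hpd with h3 | h3
    · rcases hp.dvd_mul.1 h3 with h4 | h4
      · exact absurd h4 (fun h5 => hp.one_lt.ne' (Nat.Coprime.eq_one_of_dvd (hpow2.pow_right 2) h5))
      · have := Nat.le_of_dvd (by omega) h4
        omega
    · rcases hp.dvd_mul.1 h3 with h4 | h4
      · obtain ⟨c, hc⟩ := h4
        have : c = 1 := by
          rcases (show c = 0 ∨ c = 1 ∨ 2 ≤ c by omega) with h5 | h5 | h5
          · rw [h5, mul_zero] at hc
            omega
          · exact h5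
          · have : p * 2 ≤ p * c := Nat.mul_le_mul_left _ h5
            omega
        rw [this, mul_one] at hc
        exact hc.symm
      · have := Nat.le_of_dvd (by omega) h4
        omega
  -- `E = 4`
  have hE4 : E = 4 := by
    have h3 := modEq h (g := 1) (X := q ^ 2 * (q - 1) * (q - s + 1)) (by rw [one_mul, hc, hpeq]; ring)
    rw [one_mul] at h3
    have h4 : ((q ^ 2 * (q - 1) * (q - s + 1) : ℕ) : ZMod p) = ((4 : ℕ) : ZMod p) := by
      have h5 : s ≤ q := by omega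
      have h6 : 1 ≤ q := by omega
      have h7 : ((q : ZMod p) + s + 1) = 0 := by
        have h8 : ((q + s + 1 : ℕ) : ZMod p) = 0 := by rw [← hpeq, CharP.cast_eq_zero]
        simpa using h8
      have h9 : 2 * (q : ZMod p) = (s : ZMod p) ^ 2 := by exact_mod_cast congrArg (Nat.cast : ℕ → ZMod p) hs2
      have h10 : (s : ZMod p) = - q - 1 := by linear_combination h7
      push_cast [h5, h6]
      rw [h10] at h9 ⊢
      -- `q ^ 2 = -1`
      have h11 : (q : ZMod p) ^ 2 = -1 := by linear_combination -h9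
      linear_combination (2 * (q : ZMod p) ^ 2 - 4) * h11
    rw [h4] at h3
    have h5 := (ZMod.natCast_eq_natCast_iff' _ _ _).1 h3
    rwa [Nat.mod_eq_of_lt (by omega), Nat.mod_eq_of_lt (by omega)] at h5
  -- `q + s - 3` is coprime to the order
  have hd := h.dvd
  rw [hE4, hpeq, hc] at hd
  have hd3 : q + s + 1 - 4 = q + s - 3 := by omega
  rw [hd3] at hd
  have hodd : (q + s - 3) % 2 = 1 := by omega
  have hone : q + s - 3 = 1 := by
    by_contra hne
    obtain ⟨l, hl, hld⟩ := Nat.exists_prime_and_dvd hne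
    have hl2 : l ≠ 2 := by
      rintro rfl
      omega
    have hlp : ¬ l ∣ 2 := fun h3 => hl2 ((Nat.prime_dvd_prime_iff_eq hl Nat.prime_two).1 h3)
    have h0 : ((q : ZMod l) + s - 3) = 0 := by
      have h8 : ((q + s - 3 : ℕ) : ZMod l) = 0 := (ZMod.natCast_eq_zero_iff _ _).2 hld
      rw [Nat.cast_sub (by omega)] at h8
      simpa using h8
    have h9 : 2 * (q : ZMod l) = (s : ZMod l) ^ 2 := by exact_mod_cast congrArg (Nat.cast : ℕ → ZMod l) hs2
    have := Fact.mk hl
    have h2l : (2 : ZMod l) ≠ 0 := by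
      intro h10
      apply hlp
      rw [← ZMod.natCast_eq_zero_iff]
      exact_mod_cast h10
    rcases hl.dvd_mul.1 (hld.trans hd) with h3 | h3
    · rcases hl.dvd_mul.1 h3 with h4 | h4
      · exact hl.one_lt.ne' (Nat.Coprime.eq_one_of_dvd (hqodd l hl hl2) (hl.dvd_of_dvd_pow h4))
      · have h6 : (q : ZMod l) = 1 := by
          have h7 : ((q - 1 : ℕ) : ZMod l) = 0 := (ZMod.natCast_eq_zero_iff _ _).2 h4
          rw [Nat.cast_sub (by omega)] at h7
          linear_combination h7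
        rw [h6] at h0 h9
        have h7 : (s : ZMod l) = 2 := by linear_combination h0
        rw [h7] at h9
        exact h2l (by linear_combination -h9)
    · rcases hl.dvd_mul.1 h3 with h4 | h4
      · have h6 : ((q + s + 1 : ℕ) : ZMod l) = 0 := (ZMod.natCast_eq_zero_iff _ _).2 h4
        push_cast at h6
        have h7 : (2 : ZMod l) * 2 = 0 := by linear_combination h6 - h0
        rcases mul_eq_zero.1 h7 with h8 | h8 <;> exact h2l h8
      · have h6 : ((q - s + 1 : ℕ) : ZMod l) = 0 := (ZMod.natCast_eq_zero_iff _ _).2 h4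
        rw [Nat.cast_add, Nat.cast_sub (by omega), Nat.cast_one] at h6
        have h7 : (2 : ZMod l) * (s - 2) = 0 := by linear_combination h0 - h6
        have h8 : (s : ZMod l) = 2 := by
          rcases mul_eq_zero.1 h7 with h8 | h8
          · exact absurd h8 h2l
          · linear_combination h8
        rw [h8] at h0 h9
        exact h2l (by linear_combination 2 * h0 - h9)
  omega

/-- `PSL_3(q)`. -/
theorem psl3 (h : Num S p E t) {q r f : ℕ} (hr : r.Prime) (hf : 1 ≤ f) (hq : q = r ^ f) (hst : HasSt r S)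
    (hc : Nat.gcd 3 (q - 1) * Nat.card S = q ^ 3 * ((q ^ 2 - 1) * (q ^ 3 - 1))) :
    q ^ 3 ≤ (p - E) ^ 2 ∧ ∃ m, p * m = q ^ 2 + q + 1 ∧ Nat.gcd 3 (q - 1) * E = 3 * m := by
  have hp := h.prime
  have hp5 := five_le h
  have hE := E_le h
  have hE2 := h.two_le_E
  have hq2 : 2 ≤ q := by
    rw [hq]
    exact hr.two_le.trans (Nat.le_self_pow (by omega) r)
  obtain ⟨h4, h5⟩ := of_eq (gcd_cop_sub (by omega)) hc
  have hpr : p ≠ r := by
    intro hpr
    apply not_sq_dvd h
    refine dvd_trans ?_ h4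
    rw [hq, ← pow_mul, hpr]
    exact pow_dvd_pow _ (by omega)
  have h1 := st_le h hr (Ne.symm hpr) hq hst h4
  refine ⟨h1, ?_⟩
  have hpq : ¬ p ∣ q := not_dvd hr hq hp hpr
  have hfac : (q ^ 2 - 1) * (q ^ 3 - 1) = (q - 1) * (q - 1) * (q + 1) * (q ^ 2 + q + 1) := by
    have h6 : 1 ≤ q ^ 2 := Nat.one_le_pow _ _ (by omega)
    have h7 : 1 ≤ q ^ 3 := Nat.one_le_pow _ _ (by omega)
    have h8 : 1 ≤ q := by omega
    zify [h6, h7, h8]
    ring
  have hlt : q + 1 < p := by
    by_contra h6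
    have h7 : p - E ≤ q - 1 := by omega
    have h8 : (p - E) ^ 2 < q ^ 3 := by
      calc (p - E) ^ 2 ≤ (q - 1) ^ 2 := Nat.pow_le_pow_left h7 2
        _ < q ^ 2 := Nat.pow_lt_pow_left (by omega) (by norm_num)
        _ ≤ q ^ 3 := Nat.pow_le_pow_right (by omega) (by norm_num)
    omega
  have h6 := h5 p hp (dvd_card h) hpq
  rw [hfac] at h6
  have h7 : p ∣ q ^ 2 + q + 1 := by
    simp only [hp.dvd_mul] at h6
    rcases h6 with ((h6 | h6) | h6) | h6
    · have := Nat.le_of_dvd (by omega) h6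
      omega
    · have := Nat.le_of_dvd (by omega) h6
      omega
    · have := Nat.le_of_dvd (by omega) h6
      omega
    · exact h6
  obtain ⟨m, hm⟩ := h7
  refine ⟨m, hm.symm, ?_⟩
  have h8 := modEq h (g := Nat.gcd 3 (q - 1)) (X := q ^ 3 * ((q - 1) * (q - 1) * (q + 1) * m))
    (by rw [hc, hfac, hm]; ring)
  have hQ : (q : ZMod p) ^ 2 + q + 1 = 0 := by
    have h9 : ((q ^ 2 + q + 1 : ℕ) : ZMod p) = 0 := by rw [hm, Nat.cast_mul, CharP.cast_eq_zero, zero_mul]
    exact_mod_cast h9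
  have h9 : ((q ^ 3 * ((q - 1) * (q - 1) * (q + 1) * m) : ℕ) : ZMod p) = ((3 * m : ℕ) : ZMod p) := by
    push_cast [show 1 ≤ q by omega]
    linear_combination (m : ZMod p) * ((q : ZMod p) ^ 4 - 2 * (q : ZMod p) ^ 3 + 3 * q - 3) * hQ
  rw [h9] at h8
  have h10 := (ZMod.natCast_eq_natCast_iff' _ _ _).1 h8
  have hg : Nat.gcd 3 (q - 1) = 1 ∨ Nat.gcd 3 (q - 1) = 3 := (Nat.dvd_prime Nat.prime_three).1 (Nat.gcd_dvd_left _ _)
  -- `3 m < p + g E`
  by_contra hne
  have hcmp : 3 * m < p := by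
    by_contra h11
    have h12 : p * p ≤ 3 * (q ^ 2 + q + 1) := by
      rw [hm]
      calc p * p ≤ p * (3 * m) := Nat.mul_le_mul_left _ (not_lt.1 h11)
        _ = _ := by ring
    have h13 : q ^ 3 + 4 * (p - 1) ≤ p * p := by
      have h14 : (p - E) ^ 2 ≤ (p - 2) ^ 2 := Nat.pow_le_pow_left (by omega) 2
      have h15 : (p - 2) ^ 2 + 4 * (p - 1) = p * p := by
        obtain ⟨p', rfl⟩ : ∃ p', p = p' + 2 := ⟨p - 2, by omega⟩
        simp only [Nat.add_sub_cancel]
        rw [show p' + 2 - 1 = p' + 1 by omega]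
        ring
      omega
    have h14 : q ≤ 3 := by
      by_contra h15
      nlinarith
    have h15 : q = 2 ∨ q = 3 := by omega
    rcases h15 with rfl | rfl
    · norm_num at hm
      have h16 : p ≤ 7 := Nat.le_of_dvd (by norm_num) ⟨m, hm⟩
      have h17 : p = 7 := by
        interval_cases p
        · omega
        · omega
        · rfl
      subst h17
      omega
    · norm_num at hm
      have h16 : p ∣ 13 := ⟨m, hm⟩
      have h17 : p = 13 := (Nat.prime_dvd_prime_iff_eq hp (by norm_num)).1 h16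
      subst h17
      omega
  rw [Nat.mod_eq_of_lt hcmp] at h10
  rcases hg with hg | hg
  · rw [hg, one_mul] at h10 hne
    rw [Nat.mod_eq_of_lt (by omega)] at h10
    exact hne h10
  · rw [hg] at h10 hne
    rcases lt_or_ge (3 * E) p with h11 | h11
    · rw [Nat.mod_eq_of_lt h11] at h10
      exact hne h10
    · rw [Nat.mod_eq_sub_mod h11, Nat.mod_eq_of_lt (by omega)] at h10
      have h12 : 3 ∣ p := by omega
      have := (Nat.prime_dvd_prime_iff_eq Nat.prime_three hp).1 h12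
      omega

/-- `PSU_3(q)`. -/
theorem psu3 (h : Num S p E t) {q r f : ℕ} (hq3 : 3 ≤ q) (hr : r.Prime) (hf : 1 ≤ f) (hq : q = r ^ f) (hst : HasSt r S)
    (hc : Nat.gcd 3 (q + 1) * Nat.card S = q ^ 3 * ((q ^ 2 - 1) * (q ^ 3 + 1))) :
    q ^ 3 ≤ (p - E) ^ 2 ∧ ∃ m, p * m = q ^ 2 - q + 1 ∧ Nat.gcd 3 (q + 1) * E = 3 * m := by
  have hp := h.prime
  have hp5 := five_le h
  have hE := E_le h
  have hE2 := h.two_le_E
  obtain ⟨h4, h5⟩ := of_eq gcd_cop_add hc
  have hpr : p ≠ r := by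
    intro hpr
    apply not_sq_dvd h
    refine dvd_trans ?_ h4
    rw [hq, ← pow_mul, hpr]
    exact pow_dvd_pow _ (by omega)
  have h1 := st_le h hr (Ne.symm hpr) hq hst h4
  refine ⟨h1, ?_⟩
  have hpq : ¬ p ∣ q := not_dvd hr hq hp hpr
  have hqq : q ≤ q ^ 2 := Nat.le_self_pow (by norm_num) q
  have hfac : (q ^ 2 - 1) * (q ^ 3 + 1) = (q - 1) * (q + 1) * (q + 1) * (q ^ 2 - q + 1) := by
    have h6 : 1 ≤ q ^ 2 := Nat.one_le_pow _ _ (by omega)
    have h8 : 1 ≤ q := by omega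
    zify [h6, h8, hqq]
    ring
  have hlt : q + 1 < p := by
    by_contra h6
    have h7 : p - E ≤ q - 1 := by omega
    have h8 : (p - E) ^ 2 < q ^ 3 := by
      calc (p - E) ^ 2 ≤ (q - 1) ^ 2 := Nat.pow_le_pow_left h7 2
        _ < q ^ 2 := Nat.pow_lt_pow_left (by omega) (by norm_num)
        _ ≤ q ^ 3 := Nat.pow_le_pow_right (by omega) (by norm_num)
    omega
  have h6 := h5 p hp (dvd_card h) hpq
  rw [hfac] at h6
  have h7 : p ∣ q ^ 2 - q + 1 := by
    simp only [hp.dvd_mul] at h6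
    rcases h6 with ((h6 | h6) | h6) | h6
    · have := Nat.le_of_dvd (by omega) h6
      omega
    · have := Nat.le_of_dvd (by omega) h6
      omega
    · have := Nat.le_of_dvd (by omega) h6
      omega
    · exact h6
  obtain ⟨m, hm⟩ := h7
  refine ⟨m, hm.symm, ?_⟩
  have h8 := modEq h (g := Nat.gcd 3 (q + 1)) (X := q ^ 3 * ((q - 1) * (q + 1) * (q + 1) * m))
    (by rw [hc, hfac, hm]; ring)
  have hQ : (q : ZMod p) ^ 2 - q + 1 = 0 := by
    have h9 : ((q ^ 2 - q + 1 : ℕ) : ZMod p) = 0 := by rw [hm, Nat.cast_mul, CharP.cast_eq_zero, zero_mul]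
    push_cast [hqq] at h9
    exact h9
  have h9 : ((q ^ 3 * ((q - 1) * (q + 1) * (q + 1) * m) : ℕ) : ZMod p) = ((3 * m : ℕ) : ZMod p) := by
    push_cast [show 1 ≤ q by omega]
    linear_combination (m : ZMod p) * ((q : ZMod p) ^ 4 + 2 * (q : ZMod p) ^ 3 - 3 * q - 3) * hQ
  rw [h9] at h8
  have h10 := (ZMod.natCast_eq_natCast_iff' _ _ _).1 h8
  have hg : Nat.gcd 3 (q + 1) = 1 ∨ Nat.gcd 3 (q + 1) = 3 := (Nat.dvd_prime Nat.prime_three).1 (Nat.gcd_dvd_left _ _)
  by_contra hne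
  have hcmp : 3 * m < p := by
    by_contra h11
    have h12 : p * p ≤ 3 * (q ^ 2 - q + 1) := by
      rw [hm]
      calc p * p ≤ p * (3 * m) := Nat.mul_le_mul_left _ (not_lt.1 h11)
        _ = _ := by ring
    have h13 : q ^ 3 + 4 * (p - 1) ≤ p * p := by
      have h14 : (p - E) ^ 2 ≤ (p - 2) ^ 2 := Nat.pow_le_pow_left (by omega) 2
      have h15 : (p - 2) ^ 2 + 4 * (p - 1) = p * p := by
        obtain ⟨p', rfl⟩ : ∃ p', p = p' + 2 := ⟨p - 2, by omega⟩
        simp only [Nat.add_sub_cancel]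
        rw [show p' + 2 - 1 = p' + 1 by omega]
        ring
      omega
    have h14 : 3 * q ^ 2 ≤ q ^ 3 := by
      rw [pow_succ q 2, mul_comm]
      exact Nat.mul_le_mul_left _ hq3
    omega
  rw [Nat.mod_eq_of_lt hcmp] at h10
  rcases hg with hg | hg
  · rw [hg, one_mul] at h10 hne
    rw [Nat.mod_eq_of_lt (by omega)] at h10
    exact hne h10
  · rw [hg] at h10 hne
    rcases lt_or_ge (3 * E) p with h11 | h11
    · rw [Nat.mod_eq_of_lt h11] at h10
      exact hne h10
    · rw [Nat.mod_eq_sub_mod h11, Nat.mod_eq_of_lt (by omega)] at h10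
      have h12 : 3 ∣ p := by omega
      have := (Nat.prime_dvd_prime_iff_eq Nat.prime_three hp).1 h12
      omega

/-- `PSL_2(q)`. -/
theorem psl2 (h : Num S p E t) {q r f : ℕ} (hq4 : 4 ≤ q) (hr : r.Prime) (hf : 1 ≤ f) (hq : q = r ^ f) (hst : HasSt r S)
    (hc : Nat.gcd 2 (q - 1) * Nat.card S = q * (q ^ 2 - 1)) :
    (q = p ∧ 2 * E = p - 1) ∨ (q ≤ (p - E) ^ 2 ∧ r ≠ p ∧ ∃ m, (p * m = q - 1 ∨ p * m = q + 1) ∧
      (Nat.gcd 2 (q - 1) * E = 2 * m ∨ Nat.gcd 2 (q - 1) * E + p = 2 * m)) := by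
  have hp := h.prime
  have hp5 := five_le h
  have hE := E_le h
  have hE2 := h.two_le_E
  have hc' : Nat.gcd 2 (q - 1) * Nat.card S = q ^ 1 * (q ^ 2 - 1) := by rw [pow_one, hc]
  obtain ⟨h4, h5⟩ := of_eq (gcd_cop_sub (by omega)) hc'
  have hqq : q ≤ q ^ 2 := Nat.le_self_pow (by norm_num) q
  have hfac : q ^ 2 - 1 = (q - 1) * (q + 1) := by
    zify [show 1 ≤ q by omega, show 1 ≤ q ^ 2 by omega]
    ring
  have hg : Nat.gcd 2 (q - 1) = 1 ∨ Nat.gcd 2 (q - 1) = 2 := (Nat.dvd_prime Nat.prime_two).1 (Nat.gcd_dvd_left _ _)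
  by_cases hpr : r = p
  · left
    have hf1 : f = 1 := by
      by_contra hf1
      apply not_sq_dvd h
      refine dvd_trans ?_ h4
      rw [pow_one, hq, hpr]
      exact pow_dvd_pow _ (by omega)
    rw [hf1, pow_one, hpr] at hq
    subst hq
    refine ⟨rfl, ?_⟩
    have hodd : q % 2 = 1 := by
      rcases hp.eq_two_or_odd with h6 | h6
      · omega
      · exact h6
    have hg2 : Nat.gcd 2 (q - 1) = 2 := Nat.gcd_eq_left (by omega)
    rw [hg2] at hc
    have h8 := modEq h (g := 2) (X := q ^ 2 - 1) hc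
    have h9 : ((q ^ 2 - 1 : ℕ) : ZMod q) = ((q - 1 : ℕ) : ZMod q) := by
      push_cast [show 1 ≤ q ^ 2 by omega, show 1 ≤ q by omega]
      rw [CharP.cast_eq_zero]
      ring
    rw [h9] at h8
    have h10 := (ZMod.natCast_eq_natCast_iff' _ _ _).1 h8
    rwa [Nat.mod_eq_of_lt (by omega), Nat.mod_eq_of_lt (by omega)] at h10
  · right
    have h1 := st_le h hr hpr hq hst h4
    rw [pow_one] at h1
    refine ⟨h1, hpr, ?_⟩
    have hpq : ¬ p ∣ q := not_dvd hr hq hp (Ne.symm hpr)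
    have h6 := h5 p hp (dvd_card h) hpq
    rw [hfac] at h6
    have hbound : q + 1 < p * p := by
      have h7 : (p - E) ^ 2 ≤ (p - 2) ^ 2 := Nat.pow_le_pow_left (by omega) 2
      have h15 : (p - 2) ^ 2 + 4 * (p - 1) = p * p := by
        obtain ⟨p', rfl⟩ : ∃ p', p = p' + 2 := ⟨p - 2, by omega⟩
        simp only [Nat.add_sub_cancel]
        rw [show p' + 2 - 1 = p' + 1 by omega]
        ring
      omega
    have key : ∀ m, p * m ≤ q + 1 → ((Nat.gcd 2 (q - 1) * E : ℕ) : ZMod p) = ((2 * m : ℕ) : ZMod p) →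
        (Nat.gcd 2 (q - 1) * E = 2 * m ∨ Nat.gcd 2 (q - 1) * E + p = 2 * m) := by
      intro m hm h8
      have hmp : m < p := by
        by_contra h9
        have : p * p ≤ p * m := Nat.mul_le_mul_left _ (not_lt.1 h9)
        omega
      have h10 := (ZMod.natCast_eq_natCast_iff' _ _ _).1 h8
      have hgE : Nat.gcd 2 (q - 1) * E < p := by
        rcases hg with hg | hg
        · rw [hg]; omega
        · rw [hg]; omega
      rw [Nat.mod_eq_of_lt hgE] at h10
      rcases lt_or_ge (2 * m) p with h11 | h11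
      · rw [Nat.mod_eq_of_lt h11] at h10
        exact Or.inl h10
      · rw [Nat.mod_eq_sub_mod h11, Nat.mod_eq_of_lt (by omega)] at h10
        right
        omega
    rcases hp.dvd_mul.1 h6 with h7 | h7
    · obtain ⟨m, hm⟩ := h7
      refine ⟨m, Or.inl hm.symm, key m (by omega) ?_⟩
      have h8 := modEq h (g := Nat.gcd 2 (q - 1)) (X := q * (m * (q + 1)))
        (by rw [hc, hfac, hm]; ring)
      rw [h8]
      have hQ : (q : ZMod p) = 1 := by
        have h9 : ((q - 1 : ℕ) : ZMod p) = 0 := by rw [hm, Nat.cast_mul, CharP.cast_eq_zero, zero_mul]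
        rw [Nat.cast_sub (by omega)] at h9
        linear_combination h9
      push_cast
      rw [hQ]
      ring
    · obtain ⟨m, hm⟩ := h7
      refine ⟨m, Or.inr hm.symm, key m (by omega) ?_⟩
      have h8 := modEq h (g := Nat.gcd 2 (q - 1)) (X := q * ((q - 1) * m))
        (by rw [hc, hfac, hm]; ring)
      rw [h8]
      have hQ : (q : ZMod p) = -1 := by
        have h9 : ((q + 1 : ℕ) : ZMod p) = 0 := by rw [hm, Nat.cast_mul, CharP.cast_eq_zero, zero_mul]
        push_cast at h9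
        linear_combination h9
      push_cast [show 1 ≤ q by omega]
      rw [hQ]
      ring

end Cfsg.Agent.H655.Elim
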