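import Cfsg.Agent.H655.HeisBound
import Cfsg.Agent.Ly.Index
import Cfsg.Agent.Ly.Final
import Cfsg.Agent.H264.CoverOver
import Cfsg.Agent.S2050

/-!
# Faithful complex representations of the Lyons group have degree at least `100` (helper655)

`G₂(5) = ⟨a, b, c, d⟩ ≤ Ly` has a subgroup `5^{1+4} : 4`; the relations are checked in `GL₇(5)`.
-/

set_option autoImplicit false
set_option maxRecDepth 100000

namespace Cfsg.Agent.H655.LyBound

open Module
open Cfsg.Agent.Ly.Mat7 Cfsg.Agent.Ly.Upper Cfsg.Agent.Ly.Index Cfsg.Agent.Ly.Pres Cfsg.Agent.Ly.WalkCtx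
open Cfsg.Agent.Lib.PackMat Cfsg.Agent.Ly.Data111 Cfsg.Agent.Ly.Rep111 Cfsg.Agent.Ly.Final

/-- word in `a, b, c, d` -/
noncomputable def wd (l : List ℕ) : Cfsg.Spor.Ly := ev (X4 gens) l

theorem wd_append (l m : List ℕ) : wd (l ++ m) = wd l * wd m := ev_append _ _ _

theorem wd_eq {v w : List ℕ} (h : eqW v w = true) : wd v = wd w := data.wp v w h

/-- power of a word -/
def pw (w : List ℕ) : ℕ → List ℕ
  | 0 => []
  | n + 1 => w ++ pw w n

theorem wd_pw (w : List ℕ) (n : ℕ) : wd (pw w n) = wd w ^ n := by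
  induction n with
  | zero => rw [pow_zero]; rfl
  | succ n ih => rw [pw, wd_append, ih, pow_succ']

def z : List ℕ := [6, 4, 6, 0, 2, 4, 2, 0]
def g : List ℕ := [0, 1]
def x₁ : List ℕ := [2, 4, 6, 6, 0, 5, 6, 6, 1, 1, 6, 5, 4, 6, 0, 6, 4, 2, 0, 2, 4, 6, 0, 6, 4, 2, 0, 2]
def x₂ : List ℕ := [4, 2, 0, 5, 2, 1, 1, 6, 6, 5]
def y₁ : List ℕ := [6, 6, 4, 2, 2, 0, 1, 2, 2, 5, 6, 4, 6, 0, 2, 4, 2, 0]
def y₂ : List ℕ := [2, 4, 2, 2, 0, 5, 6, 1, 1, 6, 5, 6, 4, 6, 0, 2, 4, 2, 0]

theorem ez5 : eqW (pw z 5) [] = true := by decide +kernel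
theorem ezg : eqW (z ++ g) (g ++ pw z 2) = true := by decide +kernel
theorem e1g : eqW (x₁ ++ g) (g ++ pw x₁ 4) = true := by decide +kernel
theorem e2g : eqW (x₂ ++ g) (g ++ pw x₂ 2) = true := by decide +kernel
theorem e11 : eqW (x₁ ++ y₁) (y₁ ++ (x₁ ++ z)) = true := by decide +kernel
theorem e22 : eqW (x₂ ++ y₂) (y₂ ++ (x₂ ++ z)) = true := by decide +kernel
theorem e12 : eqW (x₁ ++ y₂) (y₂ ++ x₁) = true := by decide +kernel
theorem e21 : eqW (x₂ ++ y₁) (y₁ ++ x₂) = true := by decide +kernel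
theorem exx : eqW (x₁ ++ x₂) (x₂ ++ x₁) = true := by decide +kernel
theorem ez1 : eqW (z ++ x₁) (x₁ ++ z) = true := by decide +kernel
theorem ez2 : eqW (z ++ x₂) (x₂ ++ z) = true := by decide +kernel
theorem ez3 : eqW (z ++ y₁) (y₁ ++ z) = true := by decide +kernel
theorem ez4 : eqW (z ++ y₂) (y₂ ++ z) = true := by decide +kernel

/-- the word `z` in the letters of the presentation -/
def zw : List (Fin 5 × Bool) := [(2, false), (0, false), (2, false), (0, true), (2, true), (0, false), (2, true), (0, true)]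

theorem el_zw : el zw = wd z := by
  rw [el, FreeGroup.lift_mk]
  rfl

theorem cz : Nat.beq (run C (zw.map code) (unitRow C 1 0)) (unitRow C 1 0) = false := by decide +kernel

theorem z_ne : wd z ≠ 1 := by
  intro h0
  have h : word zw = 1 := by rw [← rho_el, el_zw, h0, map_one]
  have hv : OkR C (unitRow C 1 0) := (unitRow_ok (good_of_check good) (by decide) (by decide)).1
  obtain ⟨h1, h2⟩ := run_spec (good_of_check good) (zw.map code) (ok_map _) hv
  have h3 : ((zw.map code).map (mat C)).prod = 1 := by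
    rw [← coe_word, h]
    rfl
  rw [h3, Matrix.vecMul_one] at h2
  have h4 := rowVec_injOn h1 hv h2
  have h5 := cz
  rw [h4, Nat.beq_refl] at h5
  exact absurd h5 (by simp)

/-- **Degrees of the faithful representations of the Lyons group.** -/
theorem hundred_le {V : Type*} [AddCommGroup V] [Module ℂ V] [FiniteDimensional ℂ V]
    (ρ : Representation ℂ Cfsg.Spor.Ly V) (hρ : Function.Injective ρ) : 100 ≤ finrank ℂ V := by
  have h : ∀ {v w : List ℕ}, eqW v w = true → wd v = wd w := fun h => wd_eq h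
  have hz5 := h ez5
  have hzg := h ezg
  have h1g := h e1g
  have h2g := h e2g
  have h11 := h e11
  have h22 := h e22
  have h12 := h e12
  have h21 := h e21
  have hxx := h exx
  have hz1 := h ez1
  have hz2 := h ez2
  have hz3 := h ez3
  have hz4 := h ez4
  simp only [wd_append, wd_pw] at hz5 hzg h1g h2g h11 h22 h12 h21 hxx hz1 hz2 hz3 hz4
  refine HeisBound.hundred_le (ρ := ρ) hz5 hzg h1g h2g h11 h22 h12 h21 hxx hz1 hz2 hz3 hz4 ?_
  intro h1
  exact z_ne (hρ (by rw [h1, map_one]))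

/-- **Perfect groups `M` with `M / Z(M) ≅ Ly`.** -/
theorem hundred_le_of_quotient {M : Type*} [Group M] [Finite M] (hperf : commutator M = ⊤)
    (h : Spor.IsoLy (M ⧸ Subgroup.center M)) {V : Type*} [AddCommGroup V] [Module ℂ V] [FiniteDimensional ℂ V]
    (ρ : Representation ℂ M V) (hρ : Function.Injective ρ) : 100 ≤ finrank ℂ V := by
  obtain ⟨e⟩ := h
  let π : M →* Cfsg.Spor.Ly := e.toMonoidHom.comp (QuotientGroup.mk' (Subgroup.center M))
  have hs : Function.Surjective π := e.surjective.comp (QuotientGroup.mk'_surjective _)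
  have hk : π.ker ≤ Subgroup.center M := by
    intro x hx
    have h1 : e ((QuotientGroup.mk' (Subgroup.center M)) x) = 1 := hx
    rwa [MulEquiv.map_eq_one_iff, QuotientGroup.mk'_apply, QuotientGroup.eq_one_iff] at h1
  have h2 := H264.CoverOver.card_ker_dvd S2050.result hperf π hs hk
  rw [Nat.card_congr (Multiplicative.toAdd (α := ZMod 1)), Nat.card_zmod] at h2
  have h3 : π.ker = ⊥ := Subgroup.card_eq_one.1 (Nat.dvd_one.1 h2)
  let e' : M ≃* Cfsg.Spor.Ly := MulEquiv.ofBijective π ⟨(MonoidHom.ker_eq_bot_iff π).1 h3, hs⟩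
  let ρ' : Representation ℂ Cfsg.Spor.Ly V := MonoidHom.comp ρ e'.symm.toMonoidHom
  exact hundred_le ρ' (hρ.comp e'.symm.injective)

end Cfsg.Agent.H655.LyBound
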