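import Cfsg.Agent.H655.ElimTwo

/-!
# The normal closure in the minus case, and the case of degree `p - 2` (helper655)
-/

set_option autoImplicit false
set_option linter.unusedSectionVars false
open Cfsg
open scoped ComplexConjugate commutatorElement

namespace Cfsg.Agent.H655.MinusMain

open Subgroup
open Cfsg.Agent.Characters.Core
open Cfsg.Agent.SmallSimple.PrimeDual Cfsg.Agent.SmallSimple.ThetaSetup
open Cfsg.Agent.SmallSimple.ThetaOrtho Cfsg.Agent.SmallSimple.ThetaGroup
open Cfsg.Agent.SmallSimple.ThetaCount Cfsg.Agent.SmallSimple.TheoremC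
open Cfsg.Agent.SmallSimple.TheoremCCor
open Cfsg.Agent.H655.Basic Cfsg.Agent.H655.Closure Cfsg.Agent.H655.Dichotomy Cfsg.Agent.H655.MinusCase
open Cfsg.Agent.H655.Numbers
open Cfsg.Agent.OrdDiv (OrderTable)
open Cfsg.Agent.H167.StChar (HasSt)

universe u

variable {G : Type u} [Group G] [Finite G] {p : ℕ} [Fact p.Prime] {P : Sylow p G}

/-- **The minus case.** -/
theorem minus_main (hP : Nat.card P = p) (hnn : ¬ (P : Subgroup G).Normal) {ζ : IrrCharacter G}
    (hfaith : ∀ g : G, (ζ : G → ℂ) g = (ζ : G → ℂ) 1 → g = 1) {K : Subgroup G} (hK : IsComp p (P : Subgroup G) K)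
    {E t : ℕ} (h : Minus P K ζ E t) :
    commutator (normalClosure ((P : Subgroup G) : Set G)) = ⊤ ∧
      IsSimpleGroup (normalClosure ((P : Subgroup G) : Set G) ⧸ center (normalClosure ((P : Subgroup G) : Set G))) ∧
      normalClosure ((P : Subgroup G) : Set G) ⊔ center G = ⊤ ∧
      Num (normalClosure ((P : Subgroup G) : Set G) ⧸ center (normalClosure ((P : Subgroup G) : Set G))) p E t := by
  have hp : p.Prime := Fact.out
  obtain ⟨n, ρ, hρirr, hρ, hρζ, hn⟩ := exists_rep ζ.2 hfaith
  have hnE : n = p - E := by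
    have h1 := hn.symm.trans h.deg
    exact_mod_cast h1
  have hE2 := h.two_le_E
  have hn1 : n + 1 < p := by
    have := hp.two_le
    have h2 := h.het
    have h3 := h.two_le
    have h4 : E * 2 ≤ p - 1 := by rw [← h2]; exact Nat.mul_le_mul_left _ h3
    omega
  have hperf := commutator_eq ρ hρ P hP hn1 hnn
  have hsimple := isSimpleGroup_quotient ρ hρ P hP hn1 hnn
  have hPM : (P : Subgroup G) ≤ normalClosure ((P : Subgroup G) : Set G) := subset_normalClosure
  set M := normalClosure ((P : Subgroup G) : Set G) with hM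
  have hMn : M.Normal := normalClosure_normal
  have hPMc : Nat.card (P.subtype hPM : Sylow p M) = p :=
    (Nat.card_congr (Subgroup.subgroupOfEquivOfLe hPM).toEquiv).trans hP
  obtain ⟨KM, hKM⟩ := exists_isComp (P.subtype hPM : Sylow p M) hPMc
  obtain ⟨ζM, hζM, hminus⟩ := restrict hP h hfaith hM hPM hKM
  have hnnM : ¬ ((P.subtype hPM : Sylow p M) : Subgroup M).Normal := by
    intro h1
    apply hnn
    have h2 : ((P.subtype hPM : Sylow p M) : Subgroup M) = (P : Subgroup G).subgroupOf M := rfl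
    rw [h2] at h1
    exact normal_of_le_normalizer hMn hPM ((Subgroup.normal_subgroupOf_iff_le_normalizer hPM).1 h1)
  have hfaithM : ∀ m : M, (ζM : M → ℂ) m = (ζM : M → ℂ) 1 → m = 1 := by
    intro m hm
    rw [hζM, hζM] at hm
    exact Subtype.ext (hfaith _ hm)
  refine ⟨hperf, hsimple, ?_, num hperf hKM hPMc hnnM hminus hfaithM⟩
  have hKZ := K_le_center h hfaith
  have h1 := sup_eq_top hMn hPM (by rw [hminus.relIndex, h.relIndex])
  rw [eq_top_iff, ← h1]
  exact sup_le le_sup_left (MinusCase.centralizer_le hK hP hPM hKZ)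

/-- The characters of type `Plus` with `E = 1` do not exist. -/
theorem relIndex_ne_one' (hP : Nat.card P = p) (hnn : ¬ (P : Subgroup G).Normal) {ζ : IrrCharacter G}
    (hfaith : ∀ g : G, (ζ : G → ℂ) g = (ζ : G → ℂ) 1 → g = 1) {n : ℕ} (hn : (ζ : G → ℂ) 1 = n) (hn1 : n + 1 < p) :
    (centralizer ((P : Subgroup G) : Set G)).relIndex (normalizer ((P : Subgroup G) : Set G)) ≠ 1 := by
  obtain ⟨n', ρ, hρirr, hρ, hρζ, hn'⟩ := exists_rep ζ.2 hfaith
  have hnn' : n' = n := by exact_mod_cast hn'.symm.trans hn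
  subst hnn'
  have hperf := commutator_eq ρ hρ P hP hn1 hnn
  have hPM : (P : Subgroup G) ≤ normalClosure ((P : Subgroup G) : Set G) := subset_normalClosure
  set M := normalClosure ((P : Subgroup G) : Set G) with hM
  have hPMc : Nat.card (P.subtype hPM : Sylow p M) = p :=
    (Nat.card_congr (Subgroup.subgroupOfEquivOfLe hPM).toEquiv).trans hP
  have h1 := relIndex_ne_one hperf (P.subtype hPM : Sylow p M) hPMc
  intro h2
  have h3 := relIndex_le (P := P) hPM
  rw [h2] at h3
  have h4 : (centralizer (((P.subtype hPM : Sylow p M) : Subgroup M) : Set M)).relIndex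
      (normalizer (((P.subtype hPM : Sylow p M) : Subgroup M) : Set M)) ≠ 0 := relIndex_ne_zero'
  omega

/-- Degree `p - 2`. -/
theorem degree_sub_two (hp5 : 5 < p) (hP : Nat.card P = p) (hnn : ¬ (P : Subgroup G).Normal) {ζ : IrrCharacter G}
    (hfaith : ∀ g : G, (ζ : G → ℂ) g = (ζ : G → ℂ) 1 → g = 1) {K : Subgroup G} (hK : IsComp p (P : Subgroup G) K)
    (hn : (ζ : G → ℂ) 1 = ((p - 2 : ℕ) : ℂ)) : ∃ t, Minus P K ζ 2 t := by
  have hp : p.Prime := Fact.out
  rcases dichotomy hK hP hn (by omega) with h | ⟨E, t, h | h⟩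
  · exfalso
    obtain ⟨x, hx, hx1⟩ := Closure.exists_ne_one hP
    exact hx1 (hfaith x (h x hx))
  · have h1 := hn.symm.trans h.deg
    have h2 : p - 2 = p - E := by exact_mod_cast h1
    have h3 := h.het
    have h4 := h.two_le
    have h5 : E * 2 ≤ p - 1 := by rw [← h3]; exact Nat.mul_le_mul_left _ h4
    have h6 : E = 2 := by omega
    subst h6
    exact ⟨t, h⟩
  · exfalso
    obtain ⟨θ, hθ, -⟩ := h.theta
    obtain ⟨f, -, hf⟩ := isIrr_apply_one θ.2
    rw [hn, hf] at hθ
    have h1 : p - 2 = E * f := by exact_mod_cast hθ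
    have h2 := h.het
    have h3 : E ∣ 1 := by
      have h4 : p - 1 = (p - 2) + 1 := by omega
      rw [h4] at h2
      exact (Nat.dvd_add_right (h1 ▸ dvd_mul_right E f)).1 (h2 ▸ dvd_mul_right E t)
    have h4 := h.relIndex
    rw [Nat.dvd_one.1 h3] at h4
    exact relIndex_ne_one' hP hnn hfaith hn (by omega) h4

/-- `G = M × Z(G)` if `M Z(G) = G` and `Z(M) = 1`. -/
theorem exists_prod_equiv {G : Type*} [Group G] {M : Subgroup G} (hMn : M.Normal) (h : M ⊔ center G = ⊤)
    (hZ : center M = ⊥) : Nonempty (G ≃* M × center G) := by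
  have hdis : ∀ x : G, x ∈ M → x ∈ center G → x = 1 := by
    intro x hx hxc
    have h1 : (⟨x, hx⟩ : M) ∈ center M := by
      rw [mem_center_iff]
      intro g
      exact Subtype.ext (mem_center_iff.1 hxc g)
    rw [hZ, mem_bot] at h1
    exact congrArg Subtype.val h1
  let f : M × center G →* G :=
    { toFun := fun x => x.1 * x.2
      map_one' := by simp
      map_mul' := fun x y => by
        have h1 : (x.2 : G) * y.1 = y.1 * x.2 := (mem_center_iff.1 x.2.2 y.1).symm
        simp only [Prod.fst_mul, Prod.snd_mul, Subgroup.coe_mul]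
        rw [mul_assoc, mul_assoc, ← mul_assoc (x.2 : G), h1, mul_assoc] }
  have hf : Function.Bijective f := by
    constructor
    · rw [injective_iff_map_eq_one]
      rintro ⟨m, z⟩ hmz
      have h1 : (m : G) * z = 1 := hmz
      have h2 : (m : G) = (z : G)⁻¹ := eq_inv_of_mul_eq_one_left h1
      have h3 : (m : G) = 1 := hdis m m.2 (h2 ▸ inv_mem z.2)
      rw [h3, one_mul] at h1
      exact Prod.ext (Subtype.ext h3) (Subtype.ext h1)
    · intro g
      have h1 : g ∈ M ⊔ center G := h ▸ mem_top g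
      obtain ⟨m, hm, z, hz, hmz⟩ := mem_sup_of_normal_left.1 h1
      exact ⟨(⟨m, hm⟩, ⟨z, hz⟩), hmz⟩
  exact ⟨(MulEquiv.ofBijective f hf).symm⟩

/-- `SL_2 = PSL_2` in characteristic two. -/
theorem psl_equiv_sl {F : Type} [Field F] [CharP F 2] :
    Nonempty (Matrix.ProjectiveSpecialLinearGroup (Fin 2) F ≃* Matrix.SpecialLinearGroup (Fin 2) F) := by
  have h : center (Matrix.SpecialLinearGroup (Fin 2) F) = ⊥ := by
    rw [eq_bot_iff]
    intro A hA
    obtain ⟨r, hr, hA⟩ := Matrix.SpecialLinearGroup.mem_center_iff.1 hA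
    rw [Fintype.card_fin] at hr
    have h1 : (r - 1) ^ 2 = 0 := by
      have h2 : (2 : F) = 0 := CharTwo.two_eq_zero
      linear_combination hr + (1 - r) * h2
    have h2 : r = 1 := sub_eq_zero.1 (pow_eq_zero_iff (two_ne_zero) |>.1 h1)
    rw [mem_bot]
    apply Subtype.ext
    rw [← hA, h2, map_one]
    rfl
  exact ⟨(QuotientGroup.quotientMulEquivOfEq h).trans QuotientGroup.quotientBot⟩

end Cfsg.Agent.H655.MinusMain
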