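import Cfsg.Agent.H655.PlusCase
import Cfsg.Agent.H655.MinusMain
import Cfsg.Agent.H607.Ordinary

/-!
# The case `d = E θ(1)`: conclusion (helper655)
-/

set_option autoImplicit false
set_option linter.unusedSectionVars false
open Cfsg
open scoped ComplexConjugate commutatorElement

namespace Cfsg.Agent.H655.PlusMain

open Subgroup
open Cfsg.Agent.Characters.Core
open Cfsg.Agent.SmallSimple.PrimeDual Cfsg.Agent.SmallSimple.ThetaSetup
open Cfsg.Agent.SmallSimple.ThetaOrtho Cfsg.Agent.SmallSimple.ThetaGroup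
open Cfsg.Agent.SmallSimple.ThetaCount Cfsg.Agent.SmallSimple.TheoremC
open Cfsg.Agent.SmallSimple.TheoremCCor
open Cfsg.Agent.H655.Basic Cfsg.Agent.H655.Closure Cfsg.Agent.H655.Dichotomy Cfsg.Agent.H655.MinusCase
open Cfsg.Agent.LieRecognition.FT61

universe u

variable {G : Type u} [Group G] [Finite G] {p : ℕ} [Fact p.Prime] {P : Sylow p G}

theorem not_sq_dvd (hP : Nat.card P = p) : ¬ p ^ 2 ∣ Nat.card G := by
  have hp : p.Prime := Fact.out
  intro h
  have h1 := P.card_eq_multiplicity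
  have h2 : Nat.card (P : Subgroup G) = p := hP
  have h3 : 2 ≤ (Nat.card G).factorization p := (hp.pow_dvd_iff_le_factorization Nat.card_pos.ne').1 h
  have h4 : Nat.card P = Nat.card (P : Subgroup G) := rfl
  rw [h4, h2] at h1
  have h5 : p ^ 1 < p ^ (Nat.card G).factorization p := Nat.pow_lt_pow_right hp.one_lt (by omega)
  rw [pow_one] at h5
  omega

/-- Conjugate powers bound the index. -/
theorem card_le_relIndex (hP : Nat.card P = p) {x : G} (hx : x ∈ (P : Subgroup G)) (hx1 : x ≠ 1) (A : Finset ℕ)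
    (hA : ∀ a ∈ A, a < p ∧ ∃ g : G, g * x * g⁻¹ = x ^ a) :
    A.card ≤ (centralizer ((P : Subgroup G) : Set G)).relIndex (normalizer ((P : Subgroup G) : Set G)) := by
  classical
  have hPx := ThmC1.zpowers_eq P hP hx hx1
  have hxo : orderOf x = p := orderOf_eq_prime (ThmC1.pow_eq_one_of_mem P hP hx) hx1
  choose g hg using fun a : A => (hA a a.2).2
  have hgN : ∀ a : A, g a ∈ normalizer ((P : Subgroup G) : Set G) := by
    intro a
    rw [mem_normalizer_iff_map_conj_eq]
    apply Subgroup.eq_of_le_of_card_ge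
    · rintro _ ⟨y, hy, rfl⟩
      rw [SetLike.mem_coe, ← hPx] at hy
      obtain ⟨j, rfl⟩ := hy
      show g a * x ^ j * (g a)⁻¹ ∈ (P : Subgroup G)
      rw [← conj_zpow, hg a, ← hPx]
      exact zpow_mem (pow_mem (mem_zpowers x) _) j
    · rw [card_map_of_injective (MulEquiv.injective _)]
  let f : A → normalizer ((P : Subgroup G) : Set G) ⧸
      (centralizer ((P : Subgroup G) : Set G)).subgroupOf (normalizer ((P : Subgroup G) : Set G)) :=
    fun a => QuotientGroup.mk ⟨g a, hgN a⟩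
  have hf : Function.Injective f := by
    intro a b hab
    have h1 := QuotientGroup.eq.1 hab
    rw [mem_subgroupOf] at h1
    have h2 : (g a)⁻¹ * g b ∈ centralizer ((P : Subgroup G) : Set G) := h1
    rw [mem_centralizer_iff] at h2
    have h3 := h2 x hx
    have h4 : g b * x * (g b)⁻¹ = g a * x * (g a)⁻¹ := by
      calc g b * x * (g b)⁻¹ = g a * (((g a)⁻¹ * g b) * x) * (g b)⁻¹ := by group
        _ = g a * (x * ((g a)⁻¹ * g b)) * (g b)⁻¹ := by rw [h3]
        _ = _ := by group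
    rw [hg, hg] at h4
    apply Subtype.ext
    have h5 := pow_injOn_Iio_orderOf (x := x) (show ((b : A) : ℕ) ∈ Set.Iio (orderOf x) by
      rw [hxo]; exact (hA b b.2).1) (show ((a : A) : ℕ) ∈ Set.Iio (orderOf x) by
      rw [hxo]; exact (hA a a.2).1) h4
    exact h5.symm
  have h1 := Nat.card_le_card_of_injective f hf
  rw [Nat.card_eq_fintype_card, Fintype.card_coe] at h1
  exact h1

/-- **The case `d = E θ(1)`.** -/
theorem plus_main (hp7 : 7 ≤ p) (hP : Nat.card P = p) (hnn : ¬ (P : Subgroup G).Normal)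
    {ζ : IrrCharacter G} (hfaith : ∀ g : G, (ζ : G → ℂ) g = (ζ : G → ℂ) 1 → g = 1) {n : ℕ}
    (hn : (ζ : G → ℂ) 1 = n) (hn1 : n + 1 < p) {K : Subgroup G} {E t : ℕ} (h : Plus P K ζ E t) :
    2 * E = p - 1 ∧ t = 2 ∧ 2 * n = p - 1 ∧
      Nonempty (G ⧸ center G ≃* Matrix.ProjectiveSpecialLinearGroup (Fin 2) (ZMod p)) := by
  have hp : p.Prime := Fact.out
  obtain ⟨n', σ, hσirr, hσ, hσζ, hn'⟩ := exists_rep ζ.2 hfaith
  obtain rfl : n' = n := by exact_mod_cast hn'.symm.trans hn
  obtain ⟨F, _, _, _, ρ, hρ, hpoly⟩ := RedPoly.exists_modular p σ hσ P hP hnn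
  obtain ⟨x, hx, hx1⟩ := Closure.exists_ne_one hP
  obtain ⟨S, hSE, hS, hSx⟩ := PlusCase.exists_poly hP h σ hσζ hx
  have h1 := hpoly x S hS hSx
  have hm : (ρ x - 1 : Module.End F (Fin n' → F)) ^ E = 0 := by
    rw [← Nat.sub_add_cancel hSE, pow_add, h1, mul_zero]
  have het := h.het
  have ht2 := h.two_le
  have hE2 : E * 2 ≤ p - 1 := by rw [← het]; exact Nat.mul_le_mul_left _ ht2
  obtain ⟨d, A, N, hN, hdA, hA, hNx, hiso⟩ := ModGen.modular p ρ hρ hp7
    (by rw [Module.finrank_fintype_fun_eq_card, Fintype.card_fin]; exact hn1) P hP (not_sq_dvd hP) hx hx1 hm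
    (by omega) hnn
  have hAE := card_le_relIndex hP hx hx1 A hA
  rw [h.relIndex] at hAE
  have h2E : 2 * E = p - 1 := by
    rcases hiso with ⟨h2, -⟩ | ⟨h2, -⟩ <;> omega
  have ht : t = 2 := by
    have h2 : E * t = E * 2 := by rw [het, ← h2E, mul_comm]
    exact Nat.eq_of_mul_eq_mul_left (by omega) h2
  -- the degree
  obtain ⟨θ, hθ, -⟩ := h.theta
  obtain ⟨f, hf0, hf⟩ := isIrr_apply_one θ.2
  rw [hn, hf] at hθ
  have h2 : n' = E * f := by exact_mod_cast hθ
  have hf1 : f = 1 := by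
    by_contra hne
    have h3 : E * 2 ≤ E * f := Nat.mul_le_mul_left _ (by omega)
    omega
  rw [hf1, mul_one] at h2
  have h3 := H607.Ordinary.main p σ hσ (not_sq_dvd hP) P hP hnn (by omega)
  exact ⟨h2E, ht, by omega, h3.2⟩

end Cfsg.Agent.H655.PlusMain
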