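import Cfsg.Agent.H655.SkewRep
import Cfsg.Agent.H655.MinusMain
import Cfsg.Agent.H655.PlusMain
import Cfsg.Agent.H607.Ordinary

/-!
# The case `d = p - E`, `E = (p - 1) / 2` (helper655)
-/

set_option autoImplicit false
set_option linter.unusedSectionVars false
open Cfsg
open scoped ComplexConjugate commutatorElement

namespace Cfsg.Agent.H655.MinusTwo

open Subgroup
open Cfsg.Agent.Characters.Core
open Cfsg.Agent.SmallSimple.PrimeDual Cfsg.Agent.SmallSimple.ThetaSetup
open Cfsg.Agent.SmallSimple.ThetaOrtho Cfsg.Agent.SmallSimple.ThetaGroup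
open Cfsg.Agent.SmallSimple.ThetaCount Cfsg.Agent.SmallSimple.TheoremC
open Cfsg.Agent.SmallSimple.TheoremCCor
open Cfsg.Agent.H655.Basic Cfsg.Agent.H655.Closure Cfsg.Agent.H655.Dichotomy Cfsg.Agent.H655.MinusCase
open Cfsg.Agent.LieRecognition.FT61

universe u

variable {G : Type u} [Group G] [Finite G] {p : ℕ} [Fact p.Prime] {P : Sylow p G}

theorem mem_centralizer_of_comm (hP : Nat.card P = p) {x : G} (hx : x ∈ (P : Subgroup G)) (hx1 : x ≠ 1) {g : G}
    (hg : g * x = x * g) : g ∈ centralizer ((P : Subgroup G) : Set G) := by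
  rw [mem_centralizer_iff, ← ThmC1.zpowers_eq P hP hx hx1]
  rintro _ ⟨j, rfl⟩
  have h1 : Commute x g := hg.symm
  exact (h1.zpow_left j).eq

/-- A normal `p'`-subgroup centralizing `x` is central. -/
theorem le_center (hP : Nat.card P = p) {ζ : IrrCharacter G}
    (hfaith : ∀ g : G, (ζ : G → ℂ) g = (ζ : G → ℂ) 1 → g = 1) {K : Subgroup G} (hK : IsComp p (P : Subgroup G) K)
    {E t : ℕ} (h : Minus P K ζ E t) {x : G} (hx : x ∈ (P : Subgroup G)) (hx1 : x ≠ 1)
    {g : G} (hg : g * x = x * g) (hgp : ¬ p ∣ orderOf g) : g ∈ center G :=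
  K_le_center h hfaith ((hK g).2 ⟨mem_centralizer_of_comm hP hx hx1 hg, hgp⟩)

theorem abelian (hP : Nat.card P = p) {ζ : IrrCharacter G}
    (hfaith : ∀ g : G, (ζ : G → ℂ) g = (ζ : G → ℂ) 1 → g = 1) {K : Subgroup G} (hK : IsComp p (P : Subgroup G) K)
    {E t : ℕ} (h : Minus P K ζ E t) {x : G} (hx : x ∈ (P : Subgroup G)) (hx1 : x ≠ 1) {N₁ : Subgroup G}
    (hc : ¬ p ∣ Nat.card N₁) (hN₁ : ∀ g ∈ N₁, ∃ a : ℕ, g * x * g⁻¹ = x ^ a) :
    ∀ g ∈ N₁, ∀ h ∈ N₁, g * h = h * g := by
  have hp : p.Prime := Fact.out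
  have hxo : orderOf x = p := orderOf_eq_prime (ThmC1.pow_eq_one_of_mem P hP hx) hx1
  obtain ⟨α, hα⟩ := Triple.exists_alpha (k := ZMod p) p hxo N₁ hN₁
  have hker : α.toHomUnits.ker ≤ center N₁ := by
    intro g hg
    obtain ⟨a, ha, hαa⟩ := hα g
    have h1 : α g = 1 := congrArg Units.val (MonoidHom.mem_ker.1 hg)
    rw [h1] at hαa
    have h2 : x ^ a = x ^ 1 := by
      rw [pow_eq_pow_iff_modEq, hxo]
      have h3 : ((a : ℕ) : ZMod p) = ((1 : ℕ) : ZMod p) := by rw [← hαa, Nat.cast_one]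
      exact (ZMod.natCast_eq_natCast_iff a 1 p).1 h3
    rw [h2, pow_one, mul_inv_eq_iff_eq_mul] at ha
    have h3 := le_center hP hfaith hK h hx hx1 ha (fun h4 => hc (h4.trans (Subgroup.orderOf_dvd_natCard _ g.2)))
    rw [mem_center_iff]
    intro y
    exact Subtype.ext (mem_center_iff.1 h3 y)
  have h1 := (α.toHomUnits).isMulCommutative_of_isCyclic_of_ker_le_center hker
  intro g hg y hy
  exact congrArg Subtype.val (h1.is_comm.comm (⟨g, hg⟩ : N₁) ⟨y, hy⟩)

/-- **The end of the proof.** -/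
theorem finish (hp5 : 5 ≤ p) (hP : Nat.card P = p) (hnn : ¬ (P : Subgroup G).Normal) {ζ : IrrCharacter G}
    (hfaith : ∀ g : G, (ζ : G → ℂ) g = (ζ : G → ℂ) 1 → g = 1) {K : Subgroup G} (hK : IsComp p (P : Subgroup G) K)
    {E : ℕ} (h : Minus P K ζ E 2) {x : G} (hx : x ∈ (P : Subgroup G)) (hx1 : x ≠ 1)
    {N : Subgroup G} (hN : N.Normal) (hNx : ∀ g ∈ N, g * x = x * g) {d : ℕ} {A : Finset ℕ} (hdA : d ≤ A.card)
    (hA : ∀ a ∈ A, a < p ∧ ∃ g : G, g * x * g⁻¹ = x ^ a)
    (hiso : (d = p - 1 ∧ Nonempty (G ⧸ N ≃* Matrix.ProjGenLinGroup (Fin 2) (ZMod p))) ∨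
        (2 * d = p - 1 ∧ Nonempty (G ⧸ N ≃* Matrix.ProjectiveSpecialLinearGroup (Fin 2) (ZMod p)))) :
    Nonempty (G ⧸ center G ≃* Matrix.ProjectiveSpecialLinearGroup (Fin 2) (ZMod p)) := by
  classical
  have hp : p.Prime := Fact.out
  have hAE := PlusMain.card_le_relIndex hP hx hx1 A hA
  rw [h.relIndex] at hAE
  have het := h.het
  obtain ⟨e⟩ : Nonempty (G ⧸ N ≃* Matrix.ProjectiveSpecialLinearGroup (Fin 2) (ZMod p)) := by
    rcases hiso with ⟨h1, -⟩ | ⟨-, h1⟩
    · omega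
    · exact h1
  have hcardF : Fintype.card (ZMod p) = p := ZMod.card p
  have hsimple : IsSimpleGroup (Matrix.ProjectiveSpecialLinearGroup (Fin 2) (ZMod p)) :=
    Cfsg.Agent.TwoFusion.SLTwoFacts.isSimpleGroup_psl (by rw [hcardF]; omega)
  have hnt : Nontrivial (G ⧸ N) := e.toEquiv.nontrivial
  have hsimple' : IsSimpleGroup (G ⧸ N) := IsSimpleGroup.isSimpleGroup_of_surjective e.symm.toMonoidHom
    e.symm.surjective
  have hNC : N ≤ normalizer ((P : Subgroup G) : Set G) := fun g hg =>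
    Subgroup.centralizer_le_normalizer _ (mem_centralizer_of_comm hP hx hx1 (hNx g hg))
  have hNp : ¬ p ∣ Nat.card N := by
    intro h1
    exact hnn (normal_of_le_normalizer hN (le_of_dvd hP hN h1) hNC)
  have hNZ : N ≤ center G := by
    intro g hg
    exact le_center hP hfaith hK h hx hx1 (hNx g hg) (fun h4 => hNp (h4.trans (Subgroup.orderOf_dvd_natCard _ hg)))
  have hZN : center G = N := by
    apply le_antisymm _ hNZ
    have h1 : ((center G).map (QuotientGroup.mk' N)).Normal :=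
      (inferInstance : (center G).Normal).map _ (QuotientGroup.mk'_surjective N)
    rcases h1.eq_bot_or_eq_top with h2 | h2
    · intro z hz
      have h3 : (QuotientGroup.mk' N) z ∈ (⊥ : Subgroup (G ⧸ N)) := by
        rw [← h2]
        exact Subgroup.mem_map_of_mem _ hz
      rw [Subgroup.mem_bot] at h3
      exact (QuotientGroup.eq_one_iff z).1 h3
    · exfalso
      have h3 := congrArg (Subgroup.comap (QuotientGroup.mk' N)) h2
      rw [Subgroup.comap_map_eq, Subgroup.comap_top, QuotientGroup.ker_mk', sup_eq_left.2 hNZ] at h3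
      -- `G` is abelian, `P` is normal
      apply hnn
      have h4 : ∀ a b : G, a * b = b * a := by
        intro a b
        have : b ∈ center G := by rw [h3]; trivial
        exact (mem_center_iff.1 this a)
      refine ⟨fun y hy g => ?_⟩
      rw [h4 g y, mul_inv_cancel_right]
      exact hy
  exact ⟨(QuotientGroup.quotientMulEquivOfEq hZN).trans e⟩

theorem exists_faithful_quotient {G : Type*} [Group G] {k V : Type*} [Field k] [AddCommGroup V] [Module k V]
    (ρ : Representation k G V) : ∃ (L : Subgroup G) (_ : L.Normal) (ρ' : Representation k (G ⧸ L) V),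
      (∀ g, g ∈ L ↔ ρ g = 1) ∧ Function.Injective ρ' := by
  let f : G →* Module.End k V := ρ
  refine ⟨f.ker, inferInstance, QuotientGroup.lift f.ker f (fun g hg => hg), fun g => MonoidHom.mem_ker, ?_⟩
  rw [injective_iff_map_eq_one]
  intro g hg
  obtain ⟨g, rfl⟩ := QuotientGroup.mk_surjective g
  exact (QuotientGroup.eq_one_iff g).2 (MonoidHom.mem_ker.2 hg)

/-- **A small representation suffices.** -/
theorem of_small (hp5 : 5 ≤ p) (hP : Nat.card P = p) (hnn : ¬ (P : Subgroup G).Normal) {ζ : IrrCharacter G}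
    (hfaith : ∀ g : G, (ζ : G → ℂ) g = (ζ : G → ℂ) 1 → g = 1) {K : Subgroup G} (hK : IsComp p (P : Subgroup G) K)
    {E : ℕ} (h : Minus P K ζ E 2) {x : G} (hx : x ∈ (P : Subgroup G)) (hx1 : x ≠ 1)
    {k V : Type*} [Field k] [IsAlgClosed k] [CharP k p] [AddCommGroup V] [Module k V] [FiniteDimensional k V]
    (ρ : Representation k G V) (hdim : 2 * Module.finrank k V < p) (hρx : ρ x ≠ 1) :
    Nonempty (G ⧸ center G ≃* Matrix.ProjectiveSpecialLinearGroup (Fin 2) (ZMod p)) := by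
  classical
  have hp : p.Prime := Fact.out
  obtain ⟨L, hLn, ρ', hLρ, hρ'⟩ := exists_faithful_quotient ρ
  have hxL : x ∉ L := fun h1 => hρx ((hLρ x).1 h1)
  have hLp : ¬ p ∣ Nat.card L := fun h1 => hxL (le_of_dvd hP hLn h1 hx)
  obtain ⟨n, σ, hσirr, hσ, hσζ, hn⟩ := exists_rep ζ.2 hfaith
  have hnE : n = p - E := by
    have h1 := hn.symm.trans h.deg
    exact_mod_cast h1
  have het := h.het
  have hLx : ∀ g ∈ L, g * x = x * g := fun g hg => comm_of_pprime σ hσ P hP (by omega) hLn hLp g hg x hx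
  -- the quotient
  let π : G →* G ⧸ L := QuotientGroup.mk' L
  have hπs : Function.Surjective π := QuotientGroup.mk'_surjective L
  let P' : Sylow p (G ⧸ L) := P.mapSurjective hπs
  have hP'c : ((P' : Sylow p (G ⧸ L)) : Subgroup (G ⧸ L)) = (P : Subgroup G).map π := rfl
  have hxp : x ^ p = 1 := ThmC1.pow_eq_one_of_mem P hP hx
  have hπx1 : π x ≠ 1 := fun h1 => hxL ((QuotientGroup.eq_one_iff x).1 h1)
  have hP' : Nat.card P' = p := by
    have h1 : Nat.card ((P : Subgroup G).map π) ∣ p := by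
      have h2 := Subgroup.card_map_dvd (P : Subgroup G) π
      have h3 : Nat.card (P : Subgroup G) = p := hP
      rwa [h3] at h2
    rcases (Nat.dvd_prime hp).1 h1 with h2 | h2
    · exfalso
      have h3 := Subgroup.eq_bot_of_card_eq _ h2
      have h4 : π x ∈ (P : Subgroup G).map π := Subgroup.mem_map_of_mem _ hx
      rw [h3, Subgroup.mem_bot] at h4
      exact hπx1 h4
    · exact h2
  have hcc : ∀ c ∈ L, c ^ p = 1 → c = 1 := by
    intro c hc hcp
    by_contra hc1
    apply hLp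
    rw [← orderOf_eq_prime hcp hc1]
    exact Subgroup.orderOf_dvd_natCard _ hc
  have hlift : ∀ (g : G) (a : ℕ), π g * π x * (π g)⁻¹ = π x ^ a → g * x * g⁻¹ = x ^ a := by
    intro g a hga
    have h3 : (x ^ a)⁻¹ * (g * x * g⁻¹) ∈ L := by
      rw [← QuotientGroup.eq_one_iff]
      show π ((x ^ a)⁻¹ * (g * x * g⁻¹)) = 1
      rw [map_mul, map_inv, map_pow, map_mul, map_mul, map_inv, hga, inv_mul_cancel]
    set c := (x ^ a)⁻¹ * (g * x * g⁻¹) with hc
    have h4 : g * x * g⁻¹ = x ^ a * c := by rw [hc]; group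
    have hcx : Commute c (x ^ a) := (show Commute c x from hLx c h3).pow_right a
    have h5 : c ^ p = 1 := by
      have h6 : (g * x * g⁻¹) ^ p = 1 := by rw [conj_pow, hxp, mul_one, mul_inv_cancel]
      rw [h4, hcx.symm.mul_pow, ← pow_mul, mul_comm a p, pow_mul, hxp, one_pow, one_mul] at h6
      exact h6
    rw [h4, hcc c h3 h5, mul_one]
  have hnn' : ¬ (P' : Subgroup (G ⧸ L)).Normal := by
    intro h1
    apply hnn
    have hPx := ThmC1.zpowers_eq P hP hx hx1
    refine ⟨fun y hy g => ?_⟩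
    rw [← hPx] at hy
    obtain ⟨j, rfl⟩ := hy
    have h2 : π g * π x * (π g)⁻¹ ∈ (P' : Subgroup (G ⧸ L)) := h1.conj_mem _ (Subgroup.mem_map_of_mem _ hx) _
    rw [hP'c] at h2
    obtain ⟨z, hz, hz2⟩ := h2
    rw [SetLike.mem_coe, ← hPx] at hz
    have hfin : ∃ a : ℕ, x ^ a = z := (isOfFinOrder_of_finite x).mem_zpowers_iff_mem_range_orderOf.1 hz |> fun h => by
      obtain ⟨a, -, ha⟩ := Finset.mem_image.1 h
      exact ⟨a, ha⟩
    obtain ⟨a, rfl⟩ := hfin
    have h3 := hlift g a (by rw [← hz2, map_pow])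
    show g * x ^ j * g⁻¹ ∈ (P : Subgroup G)
    rw [← conj_zpow, h3]
    exact zpow_mem (pow_mem hx a) j
  have hsq' : ¬ p ^ 2 ∣ Nat.card (G ⧸ L) := fun h1 =>
    PlusMain.not_sq_dvd hP (h1.trans (Subgroup.card_quotient_dvd_card L))
  obtain ⟨-, d, A, N', hN', hdA, hA, hNx, hiso⟩ := H607.Faithful.modular p ρ' hρ' hdim P' hP' hsq'
    (x := π x) (Subgroup.mem_map_of_mem _ hx) hπx1 hnn'
  let N : Subgroup G := N'.comap π
  have hN : N.Normal := hN'.comap π
  let e : G ⧸ N ≃* (G ⧸ L) ⧸ N' :=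
    (QuotientGroup.quotientMulEquivOfEq (show N = ((QuotientGroup.mk' N').comp π).ker by
      rw [← MonoidHom.comap_ker, QuotientGroup.ker_mk'])).trans
      (QuotientGroup.quotientKerEquivOfSurjective ((QuotientGroup.mk' N').comp π)
        ((QuotientGroup.mk'_surjective N').comp hπs))
  refine finish hp5 hP hnn hfaith hK h hx hx1 hN ?_ hdA ?_ ?_
  · intro g hg
    have h1 := hNx (π g) hg
    have h2 := hlift g 1 (by rw [h1, mul_inv_cancel_right, pow_one])
    rw [pow_one, mul_inv_eq_iff_eq_mul] at h2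
    exact h2
  · intro a ha
    obtain ⟨h1, g, hg⟩ := hA a ha
    obtain ⟨g, rfl⟩ := hπs g
    exact ⟨h1, g, hlift g a hg⟩
  · rcases hiso with ⟨h1, ⟨h2⟩⟩ | ⟨h1, ⟨h2⟩⟩
    · exact Or.inl ⟨h1, ⟨e.trans h2⟩⟩
    · exact Or.inr ⟨h1, ⟨e.trans h2⟩⟩

/-- **The case `d = p - E`, `E = (p - 1) / 2`.** -/
theorem minus_two (hp11 : 11 ≤ p) (hP : Nat.card P = p) (hnn : ¬ (P : Subgroup G).Normal) {ζ : IrrCharacter G}
    (hfaith : ∀ g : G, (ζ : G → ℂ) g = (ζ : G → ℂ) 1 → g = 1) {K : Subgroup G} (hK : IsComp p (P : Subgroup G) K)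
    {E : ℕ} (h : Minus P K ζ E 2) :
    Nonempty (G ⧸ center G ≃* Matrix.ProjectiveSpecialLinearGroup (Fin 2) (ZMod p)) := by
  have hp : p.Prime := Fact.out
  obtain ⟨n, σ, hσirr, hσ, hσζ, hn⟩ := exists_rep ζ.2 hfaith
  have hnE : n = p - E := by
    have h1 := hn.symm.trans h.deg
    exact_mod_cast h1
  have het := h.het
  obtain rfl : n = E + 1 := by omega
  obtain ⟨k, _, _, _, ρ, hρ, hpoly⟩ := RedPoly.exists_modular p σ hσ P hP hnn
  obtain ⟨x, hx, hx1⟩ := Closure.exists_ne_one hP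
  have hxp : x ^ p = 1 := ThmC1.pow_eq_one_of_mem P hP hx
  have hfr : Module.finrank k (Fin (E + 1) → k) = E + 1 := by
    rw [Module.finrank_fintype_fun_eq_card, Fintype.card_fin]
  have hcast : ∀ a b : ℕ, a < p → b < p → ((a : ℕ) : k) = b → a = b := by
    intro a b ha hb hab
    have h1 := (CharP.natCast_eq_natCast k p).1 hab
    exact Nat.ModEq.eq_of_lt_of_lt h1 ha hb
  have h2 : (2 : k) ≠ 0 := by
    intro h1
    have := hcast 2 0 (by omega) (by omega) (by exact_mod_cast h1)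
    omega
  by_cases h0 : (ρ x - 1 : Module.End k (Fin (E + 1) → k)) ^ E = 0
  · obtain ⟨d, A, N, hN, hdA, hA, hNx, hiso⟩ := ModGen.modular p ρ hρ (by omega) (by rw [hfr]; omega) P hP
      (PlusMain.not_sq_dvd hP) hx hx1 h0 (by omega) hnn
    exact finish (by omega) hP hnn hfaith hK h hx hx1 hN hNx hdA hA hiso
  · have h00 : (ρ x - 1 : Module.End k (Fin (E + 1) → k)) ^ (E + 1) = 0 := by
      have h1 := EndRep.sub_one_pow_eq_zero p ρ hxp
      rw [hfr] at h1
      exact h1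
    obtain ⟨R, hR⟩ := SkewRep.exists_matrix h2 ρ x h00 h0
    obtain ⟨h3, a, ha1, ha2, z, hz0, hz1⟩ := Skew.exists_vec (n := E + 1) (by omega) h2
      (by
        intro h1
        have := hcast (E + 1) 0 (by omega) (by omega) (by rw [h1, Nat.cast_zero])
        omega)
      (by
        intro h1
        have := hcast (E + 1) 3 (by omega) (by omega) (by rw [h1]; norm_num)
        omega)
      (by
        intro h1
        have := hcast (E + 1) 4 (by omega) (by omega) (by rw [h1]; norm_num)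
        omega)
      (by
        intro h1
        have := hcast (E + 1 + 1) 0 (by omega) (by omega) (by rw [Nat.cast_add, Nat.cast_one, h1, Nat.cast_zero])
        omega) R x hR
    obtain ⟨N₁, hc, hN₁, hN⟩ := ThmC2.exists_complement P hP hx hx1
    have h4 : 2 * (E + 1) - 2 = p - 1 := by omega
    rw [h4] at h3
    obtain ⟨r, τ, hτ, hτx⟩ := SkewRep.exists_small p (Skew.rep R) P hP hx hx1 h3 hc hN₁
      (abelian hP hfaith hK h hx hx1 hc hN₁) hN ha1 hz0 hz1
    have h5 : 2 * Module.finrank k (Fin r → k) < p := by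
      rw [Module.finrank_fintype_fun_eq_card, Fintype.card_fin]
      omega
    exact of_small (by omega) hP hnn hfaith hK h hx hx1 τ h5 hτx

end Cfsg.Agent.H655.MinusTwo
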