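import Cfsg.Agent.H655.MinusBig
import Cfsg.Agent.H655.LyBound
import Cfsg.Agent.H655.SubTwo
import Cfsg.Agent.H655.MinusTwo

/-!
# Faithful irreducible characters of degree less than `p - 1` (helper655)

`main` : `|P| = p > 7`, `P` not normal: `G / Z(G) ≅ PSL₂(p)` and the degree is `(p ± 1) / 2`, or the degree is `p - 2`
and `|N(P) : C(P)| = 2`.
-/

set_option autoImplicit false
open Cfsg

namespace Cfsg.Agent.H655.MainTheorem

open Subgroup
open Cfsg.Agent.Characters.Core
open Cfsg.Agent.SmallSimple.PrimeDual Cfsg.Agent.SmallSimple.ThetaSetup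
open Cfsg.Agent.SmallSimple.ThetaOrtho Cfsg.Agent.SmallSimple.ThetaGroup
open Cfsg.Agent.SmallSimple.ThetaCount Cfsg.Agent.SmallSimple.TheoremC
open Cfsg.Agent.SmallSimple.TheoremCCor
open Cfsg.Agent.H655.Basic Cfsg.Agent.H655.Closure Cfsg.Agent.H655.Dichotomy Cfsg.Agent.H655.MinusMain

universe u

variable {G : Type u} [Group G] [Finite G] {p : ℕ} [Fact p.Prime] {P : Sylow p G}

/-- **The main theorem.** -/
theorem main (hS : ∀ (X : Type u) [Group X] [Finite X] [IsSimpleGroup X], IsKnownSimple' X)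
    (hp7 : 7 < p) (hP : Nat.card P = p) (hnn : ¬ (P : Subgroup G).Normal) {ζ : IrrCharacter G}
    (hfaith : ∀ g : G, (ζ : G → ℂ) g = (ζ : G → ℂ) 1 → g = 1) {n : ℕ} (hn : (ζ : G → ℂ) 1 = n) (hlt : n < p - 1) :
    ∃ E t : ℕ, E * t = p - 1 ∧
      (centralizer ((P : Subgroup G) : Set G)).relIndex (normalizer ((P : Subgroup G) : Set G)) = E ∧
      ((t = 2 ∧ (2 * n = p + 1 ∨ 2 * n = p - 1) ∧
        Nonempty (G ⧸ center G ≃* Matrix.ProjectiveSpecialLinearGroup (Fin 2) (ZMod p))) ∨ (E = 2 ∧ n = p - 2)) := by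
  have hp : p.Prime := Fact.out
  have hp11 : 11 ≤ p := by
    by_contra hlt
    have h1 : p = 8 ∨ p = 9 ∨ p = 10 := by omega
    rcases h1 with rfl | rfl | rfl <;> revert hp <;> norm_num
  obtain ⟨K, hK⟩ := exists_isComp P hP
  rcases dichotomy hK hP hn hlt with h | ⟨E, t, h | h⟩
  · exfalso
    obtain ⟨x, hx, hx1⟩ := Closure.exists_ne_one hP
    exact hx1 (hfaith x (h x hx))
  · refine ⟨E, t, h.het, h.relIndex, ?_⟩
    have hnE : n = p - E := by
      have h1 := hn.symm.trans h.deg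
      exact_mod_cast h1
    have het := h.het
    have ht2 := h.two_le
    rcases (show t = 2 ∨ 3 ≤ t by omega) with ht | ht
    · subst ht
      exact Or.inl ⟨rfl, Or.inl (by omega), MinusTwo.minus_two hp11 hP hnn hfaith hK h⟩
    · right
      obtain ⟨hperf, hsimple, hsup, hnum⟩ := minus_main hP hnn hfaith hK h
      have := hsimple
      have hna := not_commutative hperf (center (normalClosure ((P : Subgroup G) : Set G)))
      obtain ⟨n', ρ, -, hρ, -, hn'⟩ := exists_rep ζ.2 hfaith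
      obtain rfl : n' = n := by exact_mod_cast hn'.symm.trans hn
      subst hnE
      let ρ' : Representation ℂ (normalClosure ((P : Subgroup G) : Set G)) (Fin (p - E) → ℂ) :=
        MonoidHom.comp ρ (Subgroup.subtype _)
      have hρ' : Function.Injective ρ' := hρ.comp (Subgroup.subtype_injective _)
      rcases MinusBig.minus_big OrdDiv.table hperf (hS _) hna (fun r hr h => StProv.hasSt r hr h) ρ' hρ' hnum hp11 ht with
        hE | ⟨hly, h67, h22⟩
      · exact ⟨hE, by rw [hE]⟩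
      · exfalso
        have h1 := LyBound.hundred_le_of_quotient hperf hly ρ' hρ'
        rw [Module.finrank_fin_fun] at h1
        omega
  · obtain ⟨h1, h2, h3, h4⟩ := PlusMain.plus_main (by omega) hP hnn hfaith hn (by omega) h
    exact ⟨E, t, h.het, h.relIndex, Or.inl ⟨h2, Or.inr h3, h4⟩⟩

/-- The form with a field of order `p`. -/
theorem exists_field {X : Type u} [Group X]
    (h : Nonempty (X ≃* Matrix.ProjectiveSpecialLinearGroup (Fin 2) (ZMod p))) :
    ∃ (F : Type) (_ : Field F) (_ : Fintype F), Fintype.card F = p ∧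
      Nonempty (X ≃* Matrix.ProjectiveSpecialLinearGroup (Fin 2) F) :=
  ⟨ZMod p, inferInstance, inferInstance, ZMod.card p, h⟩

/-- S4703 -/
theorem s4703 (hS : ∀ (X : Type u) [Group X] [Finite X] [IsSimpleGroup X], IsKnownSimple' X)
    (hp : 7 < p) (P : Sylow p G) (hP : Nat.card P = p) (hnn : ¬ (P : Subgroup G).Normal) (ζ : G → ℂ)
    (hζ : Cfsg.IsIrrCharacter G ζ) (hfaith : ∀ g : G, ζ g = ζ 1 → g = 1) :
    ((∃ (F : Type) (_ : Field F) (_ : Fintype F), Fintype.card F = p ∧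
        Nonempty (G ⧸ Subgroup.center G ≃* Matrix.ProjectiveSpecialLinearGroup (Fin 2) F)) ∧
      (2 * Cfsg.charDegree ζ = p + 1 ∨ 2 * Cfsg.charDegree ζ = p - 1)) ∨ p - 2 ≤ Cfsg.charDegree ζ := by
  obtain ⟨n, -, hn⟩ := isIrr_apply_one hζ
  have hd : Cfsg.charDegree ζ = n := by
    unfold Cfsg.charDegree
    rw [hn]
    simp
  rw [hd]
  by_cases hlt : n < p - 1
  · obtain ⟨E, t, -, -, ⟨-, h1, h2⟩ | ⟨-, h1⟩⟩ := main (ζ := ⟨ζ, hζ⟩) hS hp hP hnn hfaith hn hlt
    · exact Or.inl ⟨exists_field h2, h1⟩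
    · exact Or.inr h1.ge
  · right
    omega

end Cfsg.Agent.H655.MainTheorem
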