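import Mathlib
import Cfsg.Agent.LieRecognition.FT61.ThmC1
import Cfsg.Agent.H912.Bd1

/-!
# Cyclic summands (helper655)

* `linearIndependent_iterate` : `z, T z, …, T ^ (a - 1) z` are independent if `T ^ a z = 0 ≠ T ^ (a - 1) z`;
* `exists_proj` : if moreover `T ^ (a - 1) z ∉ range T ^ a` the span of these vectors is the range of an idempotent
  commuting with `T`;
* `exists_weight` : one can choose `z` to be an eigenvector for a commutative group of order prime to the
  characteristic normalising `⟨T⟩`;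
* `exists_sub` : the resulting small `D`-stable summand.
-/

set_option autoImplicit false
set_option linter.unusedSectionVars false

namespace Cfsg.Agent.H655.CycSum

open Module Polynomial

section lin

variable {k M : Type*} [Field k] [AddCommGroup M] [Module k M]

theorem pow_apply_eq_zero (T : Module.End k M) {a i : ℕ} {z : M} (h : (T ^ a) z = 0) (hi : a ≤ i) : (T ^ i) z = 0 := by
  obtain ⟨j, rfl⟩ := Nat.exists_eq_add_of_le hi
  rw [add_comm, pow_add, Module.End.mul_apply, h, map_zero]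

theorem linearIndependent_iterate (T : Module.End k M) {a : ℕ} {z : M} (h0 : (T ^ (a + 1)) z = 0)
    (h1 : (T ^ a) z ≠ 0) : LinearIndependent k (fun i : Fin (a + 1) => (T ^ (i : ℕ)) z) := by
  rw [Fintype.linearIndependent_iff]
  intro g hg
  have key : ∀ m : ℕ, ∀ i : Fin (a + 1), (i : ℕ) = m → g i = 0 := by
    intro m
    induction m using Nat.strong_induction_on with
    | _ m ih =>
      intro i hi
      have h2 := congrArg (T ^ (a - m)) hg
      rw [map_zero, map_sum, Finset.sum_eq_single i] at h2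
      · rw [map_smul, ← Module.End.mul_apply, ← pow_add, show a - m + (i : ℕ) = a by omega] at h2
        exact (smul_eq_zero.1 h2).resolve_right h1
      · intro j _ hj
        rcases lt_trichotomy (j : ℕ) m with h3 | h3 | h3
        · rw [ih j h3 j rfl, zero_smul, map_zero]
        · exact absurd (Fin.ext (h3.trans hi.symm)) hj
        · rw [map_smul, ← Module.End.mul_apply, ← pow_add, pow_apply_eq_zero T h0 (by omega), smul_zero]
      · intro h
        exact absurd (Finset.mem_univ i) h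
  exact fun i => key i i rfl

/-- The functional. -/
theorem exists_functional [FiniteDimensional k M] (T : Module.End k M) {a : ℕ} {z : M} (h0 : (T ^ (a + 1)) z = 0)
    (h1 : (T ^ a) z ∉ LinearMap.range (T ^ (a + 1))) :
    ∃ φ : M →ₗ[k] k, (∀ m, φ ((T ^ (a + 1)) m) = 0) ∧ (∀ i, i < a → φ ((T ^ i) z) = 0) ∧ φ ((T ^ a) z) = 1 := by
  classical
  set R : Submodule k M := LinearMap.range (T ^ (a + 1)) with hR
  have hTR : R ≤ R.comap T := by
    rintro _ ⟨m, rfl⟩
    refine ⟨T m, ?_⟩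
    rw [← Module.End.mul_apply, ← Module.End.mul_apply, ← pow_succ, ← pow_succ']
  let T' : Module.End k (M ⧸ R) := R.mapQ R T hTR
  have hT' : ∀ (i : ℕ) (m : M), (T' ^ i) (R.mkQ m) = R.mkQ ((T ^ i) m) := by
    intro i m
    induction i with
    | zero => rfl
    | succ i ih =>
      rw [pow_succ', Module.End.mul_apply, ih, pow_succ', Module.End.mul_apply]
      rfl
  have hli := linearIndependent_iterate T' (a := a) (z := R.mkQ z) (by rw [hT', h0, map_zero]) (by
    rw [hT']
    intro h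
    exact h1 ((Submodule.Quotient.mk_eq_zero R).1 h))
  -- extend to a basis
  let b := Basis.extend hli.linearIndepOn_id
  let φ' : (M ⧸ R) →ₗ[k] k := b.constr k (fun y => if (y : M ⧸ R) = (T' ^ a) (R.mkQ z) then 1 else 0)
  have hφ' : ∀ i : Fin (a + 1), φ' ((T' ^ (i : ℕ)) (R.mkQ z)) =
      if (T' ^ (i : ℕ)) (R.mkQ z) = (T' ^ a) (R.mkQ z) then 1 else 0 := by
    intro i
    have hmem : (T' ^ (i : ℕ)) (R.mkQ z) ∈ hli.linearIndepOn_id.extend (Set.subset_univ _) :=
      hli.linearIndepOn_id.subset_extend _ ⟨i, rfl⟩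
    have h2 : b ⟨_, hmem⟩ = (T' ^ (i : ℕ)) (R.mkQ z) := Basis.extend_apply_self _ _
    conv_lhs => rw [← h2]
    rw [Basis.constr_basis]
  refine ⟨φ'.comp R.mkQ, fun m => ?_, fun i hi => ?_, ?_⟩
  · have h2 : R.mkQ ((T ^ (a + 1)) m) = 0 := (Submodule.Quotient.mk_eq_zero R).2 ⟨m, rfl⟩
    rw [LinearMap.comp_apply, h2, map_zero]
  · rw [LinearMap.comp_apply, ← hT']
    have h2 := hφ' ⟨i, by omega⟩
    rw [h2, if_neg]
    intro h3
    have h4 := hli.injective (a₁ := ⟨i, by omega⟩) (a₂ := ⟨a, by omega⟩) h3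
    have h5 := congrArg Fin.val h4
    simp only at h5
    omega
  · rw [LinearMap.comp_apply, ← hT']
    have h2 := hφ' ⟨a, by omega⟩
    rw [h2, if_pos rfl]

/-- The projection. -/
theorem exists_proj [FiniteDimensional k M] (T : Module.End k M) {a : ℕ} {z : M} (h0 : (T ^ (a + 1)) z = 0)
    (h1 : (T ^ a) z ∉ LinearMap.range (T ^ (a + 1))) :
    ∃ f : Module.End k M, Commute T f ∧ f z = z ∧
      ∀ m, f m ∈ Submodule.span k (Set.range fun i : Fin (a + 1) => (T ^ (i : ℕ)) z) := by
  classical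
  obtain ⟨φ, hφ1, hφ2, hφ3⟩ := exists_functional T h0 h1
  let f : Module.End k M := ∑ i : Fin (a + 1), (φ ∘ₗ (T ^ (a - i))).smulRight ((T ^ (i : ℕ)) z)
  have hf : ∀ m, f m = ∑ i : Fin (a + 1), φ ((T ^ (a - i)) m) • (T ^ (i : ℕ)) z := by
    intro m
    rw [LinearMap.sum_apply]
    rfl
  refine ⟨f, ?_, ?_, ?_⟩
  · show T * f = f * T
    ext m
    rw [Module.End.mul_apply, Module.End.mul_apply, hf, hf, map_sum, Fin.sum_univ_castSucc,
      Fin.sum_univ_succ (fun i : Fin (a + 1) => φ ((T ^ (a - i)) (T m)) • (T ^ (i : ℕ)) z)]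
    have h2 : T (φ ((T ^ (a - ((Fin.last a : Fin (a + 1)) : ℕ))) m) • (T ^ ((Fin.last a : Fin (a + 1)) : ℕ)) z) = 0 := by
      rw [map_smul, Fin.val_last, ← Module.End.mul_apply, ← pow_succ', h0, smul_zero]
    have h3 : φ ((T ^ (a - ((0 : Fin (a + 1)) : ℕ))) (T m)) = 0 := by
      rw [Fin.val_zero, Nat.sub_zero, ← Module.End.mul_apply, ← pow_succ, hφ1]
    rw [h2, h3, zero_smul, add_zero, zero_add]
    refine Finset.sum_congr rfl fun i _ => ?_
    have hi := i.2
    rw [map_smul, ← Module.End.mul_apply T, ← pow_succ', Fin.val_succ, Fin.val_castSucc, ← Module.End.mul_apply,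
      ← pow_succ, show a - ((i : ℕ) + 1) + 1 = a - (i : ℕ) by omega]
  · rw [hf, Finset.sum_eq_single (0 : Fin (a + 1))]
    · rw [Fin.val_zero, Nat.sub_zero, hφ3, one_smul, pow_zero, Module.End.one_apply]
    · intro i _ hi
      have hi2 := i.2
      have hi0 : (i : ℕ) ≠ 0 := fun h => hi (Fin.ext h)
      rw [hφ2 _ (by omega), zero_smul]
    · intro h
      exact absurd (Finset.mem_univ _) h
  · intro m
    rw [hf]
    exact Submodule.sum_mem _ fun i _ => Submodule.smul_mem _ _ (Submodule.subset_span ⟨i, rfl⟩)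

end lin

section group

variable {k M D : Type*} [Field k] [AddCommGroup M] [Module k M] [FiniteDimensional k M] [Group D]

/-- Restriction to a stable subspace. -/
def resRep (τ : Representation k D M) (N₁ : Subgroup D) (W : Submodule k M) (h : ∀ g ∈ N₁, ∀ w ∈ W, τ g w ∈ W) :
    N₁ →* Module.End k W where
  toFun g := (τ g).restrict (h g g.2)
  map_one' := by
    ext w
    simp
  map_mul' g h' := by
    refine LinearMap.ext fun w => Subtype.ext ?_
    show τ ((g * h' : N₁) : D) w = τ g (τ h' w)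
    rw [Subgroup.coe_mul, map_mul, Module.End.mul_apply]

theorem resRep_apply (τ : Representation k D M) (N₁ : Subgroup D) (W : Submodule k M)
    (h : ∀ g ∈ N₁, ∀ w ∈ W, τ g w ∈ W) (g : N₁) (w : W) : (resRep τ N₁ W h g w : M) = τ g w := rfl

theorem conj_sub_one_pow (τ : Representation k D M) {x g : D} {j : ℕ} (hg : g * x * g⁻¹ = x ^ j) (i : ℕ) :
    τ g * (τ x - 1) ^ i = (τ x ^ j - 1) ^ i * τ g := by
  have h1 : τ g * (τ x - 1) = (τ x ^ j - 1) * τ g := by
    rw [mul_sub, sub_mul, mul_one, one_mul, ← map_mul, ← map_pow, ← map_mul, ← hg]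
    congr 2
    group
  induction i with
  | zero => simp
  | succ i ih => rw [pow_succ', pow_succ', ← mul_assoc, h1, mul_assoc, ih, mul_assoc]

theorem exists_dvd (T : Module.End k M) (j : ℕ) : ∃ r : Module.End k M, Commute r T ∧ (1 + T) ^ j - 1 = r * T := by
  induction j with
  | zero => exact ⟨0, Commute.zero_left _, by simp⟩
  | succ j ih =>
    obtain ⟨r, hr, h⟩ := ih
    refine ⟨r * (1 + T) + 1, (hr.mul_left ((Commute.one_left _).add_left (Commute.refl T))).add_left
      (Commute.one_left _), ?_⟩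
    have h2 : (1 + T) ^ j = r * T + 1 := by rw [← h]; abel
    rw [pow_succ, h2]
    have h3 : (r * T + 1) * (1 + T) - 1 = r * T * (1 + T) + T := by noncomm_ring
    have h4 : T * (1 + T) = (1 + T) * T := by noncomm_ring
    rw [h3, mul_assoc, h4, ← mul_assoc, add_mul, one_mul]

/-- A weight vector. -/
theorem exists_weight [IsAlgClosed k] (p : ℕ) [Fact p.Prime] [CharP k p] (τ : Representation k D M) {x : D}
    {N₁ : Subgroup D} [Finite N₁] (hcard : ¬ p ∣ Nat.card N₁) (hN₁ : ∀ g ∈ N₁, ∃ j : ℕ, g * x * g⁻¹ = x ^ j)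
    (hab : ∀ g ∈ N₁, ∀ h ∈ N₁, g * h = h * g) {a : ℕ} {z₀ : M} (h0 : ((τ x - 1 : Module.End k M) ^ (a + 1)) z₀ = 0)
    (h1 : ((τ x - 1 : Module.End k M) ^ a) z₀ ∉ LinearMap.range ((τ x - 1 : Module.End k M) ^ (a + 1))) :
    ∃ z : M, ((τ x - 1 : Module.End k M) ^ (a + 1)) z = 0 ∧
      ((τ x - 1 : Module.End k M) ^ a) z ∉ LinearMap.range ((τ x - 1 : Module.End k M) ^ (a + 1)) ∧
      ∀ g ∈ N₁, ∃ c : k, τ g z = c • z := by
  classical
  set T : Module.End k M := τ x - 1 with hT
  have hxT : τ x = 1 + T := by rw [hT]; abel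
  let W : Submodule k M := LinearMap.ker (T ^ (a + 1))
  have hstab : ∀ g ∈ N₁, ∀ w ∈ W, τ g w ∈ W := by
    intro g hg w hw
    obtain ⟨j, hj⟩ := hN₁ g⁻¹ (N₁.inv_mem hg)
    have h2 := conj_sub_one_pow τ hj (a + 1)
    rw [← hT] at h2
    obtain ⟨r, hr, hr'⟩ := exists_dvd T j
    rw [hxT, hr'] at h2
    have h3 : T ^ (a + 1) * τ g = τ g * (r * T) ^ (a + 1) := by
      have e1 : τ g * τ g⁻¹ = 1 := by rw [← map_mul, mul_inv_cancel, map_one]
      have e2 : τ g⁻¹ * τ g = 1 := by rw [← map_mul, inv_mul_cancel, map_one]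
      calc T ^ (a + 1) * τ g = τ g * (τ g⁻¹ * T ^ (a + 1)) * τ g := by rw [← mul_assoc, e1, one_mul]
        _ = τ g * ((r * T) ^ (a + 1) * τ g⁻¹) * τ g := by rw [h2]
        _ = τ g * (r * T) ^ (a + 1) * (τ g⁻¹ * τ g) := by simp only [mul_assoc]
        _ = _ := by rw [e2, mul_one]
    show (T ^ (a + 1)) (τ g w) = 0
    rw [← Module.End.mul_apply, h3, hr.mul_pow, Module.End.mul_apply, Module.End.mul_apply,
      show (T ^ (a + 1)) w = 0 from hw, map_zero, map_zero]
  let ρ' := resRep τ N₁ W hstab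
  have hN : ((Nat.card N₁ : ℕ) : k) ≠ 0 := by
    intro h
    exact hcard ((CharP.cast_eq_zero_iff k p _).1 h)
  have htop := H912.Bd.iSup_wt ρ' (A := ⊤) (fun g _ h _ => Subtype.ext (hab g g.2 h h.2)) hN
    (fun g _ => pow_card_eq_one')
  by_contra hcon
  push Not at hcon
  let Y : Submodule k W := (LinearMap.range (T ^ (a + 1))).comap ((T ^ a) ∘ₗ W.subtype)
  have hle : (⨆ χ, H912.Bd.wt ρ' (⊤ : Subgroup N₁) χ) ≤ Y := by
    refine iSup_le fun χ v hv => ?_
    rw [H912.Bd.mem_wt] at hv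
    show (T ^ a) (v : M) ∈ LinearMap.range (T ^ (a + 1))
    by_contra hv2
    obtain ⟨g, hg, h3⟩ := hcon v v.2 hv2
    apply h3 (χ ⟨⟨g, hg⟩, Subgroup.mem_top _⟩)
    have h4 := congrArg Subtype.val (hv ⟨⟨g, hg⟩, Subgroup.mem_top _⟩)
    exact h4
  rw [htop] at hle
  exact h1 (hle (Submodule.mem_top : (⟨z₀, h0⟩ : W) ∈ (⊤ : Submodule k W)))

/-- **The cyclic summand.** -/
theorem exists_sub [IsAlgClosed k] [Finite D] (p : ℕ) [Fact p.Prime] [CharP k p] (τ : Representation k D M)
    (P : Sylow p D) (hP : Nat.card P = p) {x : D} (hx : x ∈ (P : Subgroup D)) (hx1 : x ≠ 1)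
    (htr : (τ x - 1 : Module.End k M) ^ (p - 1) = 0)
    {N₁ : Subgroup D} (hcard : ¬ p ∣ Nat.card N₁) (hN₁ : ∀ g ∈ N₁, ∃ j : ℕ, g * x * g⁻¹ = x ^ j)
    (hab : ∀ g ∈ N₁, ∀ h ∈ N₁, g * h = h * g)
    (hN : Subgroup.normalizer ((P : Subgroup D) : Set D) = Subgroup.zpowers x ⊔ N₁)
    {a : ℕ} (ha : 1 ≤ a) {z₀ : M} (h0 : ((τ x - 1 : Module.End k M) ^ (a + 1)) z₀ = 0)
    (h1 : ((τ x - 1 : Module.End k M) ^ a) z₀ ∉ LinearMap.range ((τ x - 1 : Module.End k M) ^ (a + 1))) :
    ∃ σ : Subrepresentation τ, Module.finrank k σ.toSubmodule ≤ a + 1 ∧ σ.toRepresentation x ≠ 1 := by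
  classical
  have hp : p.Prime := Fact.out
  have hPx := Cfsg.Agent.LieRecognition.FT61.ThmC1.zpowers_eq P hP hx hx1
  have hxo : orderOf x = p :=
    orderOf_eq_prime (Cfsg.Agent.LieRecognition.FT61.ThmC1.pow_eq_one_of_mem P hP hx) hx1
  have : Fintype (Subgroup.zpowers x) := Fintype.ofFinite _
  have : Fintype N₁ := Fintype.ofFinite _
  have hc : ((Nat.card N₁ : ℕ) : k) ≠ 0 := by
    intro h
    exact hcard ((CharP.cast_eq_zero_iff k p _).1 h)
  obtain ⟨z, hz0, hz1, hzN⟩ := exists_weight p τ hcard hN₁ hab h0 h1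
  obtain ⟨f, hTf, hfz, hfspan⟩ := exists_proj (τ x - 1 : Module.End k M) hz0 hz1
  set T : Module.End k M := τ x - 1 with hT
  have hxT : τ x = 1 + T := by rw [hT]; abel
  set Z : Submodule k M := Submodule.span k (Set.range fun i : Fin (a + 1) => (T ^ (i : ℕ)) z) with hZ
  have hTZ : ∀ w ∈ Z, T w ∈ Z := by
    intro w hw
    induction hw using Submodule.span_induction with
    | mem w hw =>
      obtain ⟨i, rfl⟩ := hw
      show T ((T ^ (i : ℕ)) z) ∈ Z
      rw [← Module.End.mul_apply, ← pow_succ']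
      by_cases hi : (i : ℕ) + 1 < a + 1
      · exact Submodule.subset_span ⟨⟨i + 1, hi⟩, rfl⟩
      · rw [pow_apply_eq_zero T hz0 (by omega)]
        exact Z.zero_mem
    | zero => rw [map_zero]; exact Z.zero_mem
    | add u v _ _ hu hv => rw [map_add]; exact Z.add_mem hu hv
    | smul c v _ hv => rw [map_smul]; exact Z.smul_mem _ hv
  have hxZ : ∀ w ∈ Z, τ x w ∈ Z := by
    intro w hw
    rw [hxT, LinearMap.add_apply, Module.End.one_apply]
    exact Z.add_mem hw (hTZ w hw)
  have hxjZ : ∀ (j : ℕ), ∀ w ∈ Z, (τ x ^ j) w ∈ Z := by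
    intro j
    induction j with
    | zero => intro w hw; simpa using hw
    | succ j ih =>
      intro w hw
      rw [pow_succ', Module.End.mul_apply]
      exact hxZ _ (ih w hw)
  have hxjZ' : ∀ (j i : ℕ), ∀ w ∈ Z, ((τ x ^ j - 1) ^ i) w ∈ Z := by
    intro j i
    induction i with
    | zero => intro w hw; simpa using hw
    | succ i ih =>
      intro w hw
      rw [pow_succ', Module.End.mul_apply, LinearMap.sub_apply, Module.End.one_apply]
      exact Z.sub_mem (hxjZ j _ (ih w hw)) (ih w hw)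
  have hzZ : z ∈ Z := Submodule.subset_span ⟨⟨0, by omega⟩, by simp⟩
  have hgZ : ∀ g ∈ N₁, ∀ w ∈ Z, τ g w ∈ Z := by
    intro g hg w hw
    induction hw using Submodule.span_induction with
    | mem w hw =>
      obtain ⟨i, rfl⟩ := hw
      obtain ⟨j, hj⟩ := hN₁ g hg
      obtain ⟨c, hc⟩ := hzN g hg
      have h2 := congrArg (fun S : Module.End k M => S z) (conj_sub_one_pow τ hj (i : ℕ))
      simp only [Module.End.mul_apply] at h2
      show τ g ((T ^ (i : ℕ)) z) ∈ Z
      rw [h2, hc]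
      exact hxjZ' j i _ (Z.smul_mem c hzZ)
    | zero => rw [map_zero]; exact Z.zero_mem
    | add u v _ _ hu hv => rw [map_add]; exact Z.add_mem hu hv
    | smul c v _ hv => rw [map_smul]; exact Z.smul_mem _ hv
  have hfZ : ∀ w ∈ Z, f w = w := by
    intro w hw
    induction hw using Submodule.span_induction with
    | mem w hw =>
      obtain ⟨i, rfl⟩ := hw
      show f ((T ^ (i : ℕ)) z) = (T ^ (i : ℕ)) z
      rw [← Module.End.mul_apply, ← (hTf.pow_left (i : ℕ)).eq, Module.End.mul_apply, hfz]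
    | zero => rw [map_zero]
    | add u v _ _ hu hv => rw [map_add, hu, hv]
    | smul c v _ hv => rw [map_smul, hv]
  -- the average
  let e : Module.End k M := (Nat.card N₁ : k)⁻¹ • ∑ g : N₁, τ g * f * τ (g : D)⁻¹
  have he : ∀ m, e m = (Nat.card N₁ : k)⁻¹ • ∑ g : N₁, τ g (f (τ (g : D)⁻¹ m)) := by
    intro m
    show ((Nat.card N₁ : k)⁻¹ • ∑ g : N₁, τ g * f * τ (g : D)⁻¹) m = _
    rw [LinearMap.smul_apply, LinearMap.sum_apply]
    rfl
  have heZ : ∀ w ∈ Z, e w = w := by
    intro w hw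
    rw [he, Finset.sum_congr rfl (g := fun _ => w), Finset.sum_const, Finset.card_univ,
      ← Nat.card_eq_fintype_card, ← Nat.cast_smul_eq_nsmul k, smul_smul, inv_mul_cancel₀ hc, one_smul]
    intro g _
    rw [hfZ _ (hgZ _ (N₁.inv_mem g.2) w hw), ← Module.End.mul_apply, ← map_mul, mul_inv_cancel, map_one,
      Module.End.one_apply]
  have hemem : ∀ m, e m ∈ Z := by
    intro m
    rw [he]
    exact Z.smul_mem _ (Z.sum_mem fun g _ => hgZ g g.2 _ (hfspan _))
  have hee : e * e = e := by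
    ext m
    rw [Module.End.mul_apply, heZ _ (hemem m)]
  have heN₁ : ∀ h ∈ N₁, Commute (τ h) e := by
    intro h hh
    show τ h * e = e * τ h
    show τ h * ((Nat.card N₁ : k)⁻¹ • ∑ g : N₁, τ g * f * τ (g : D)⁻¹) =
      ((Nat.card N₁ : k)⁻¹ • ∑ g : N₁, τ g * f * τ (g : D)⁻¹) * τ h
    rw [mul_smul_comm, smul_mul_assoc, Finset.mul_sum, Finset.sum_mul]
    congr 1
    refine Fintype.sum_equiv (Equiv.mulLeft (⟨h, hh⟩ : N₁)) _ _ fun g => ?_
    simp only [Equiv.coe_mulLeft, Subgroup.coe_mul, mul_inv_rev, map_mul]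
    have e1 : τ h⁻¹ * τ h = 1 := by rw [← map_mul, inv_mul_cancel, map_one]
    calc τ h * (τ g * f * τ (g : D)⁻¹) = τ h * τ g * f * τ (g : D)⁻¹ * 1 := by simp only [mul_assoc, mul_one]
      _ = τ h * τ g * f * τ (g : D)⁻¹ * (τ h⁻¹ * τ h) := by rw [e1]
      _ = _ := by simp only [mul_assoc]
  have hxf : Commute (τ x) f := by rw [hxT]; exact (Commute.one_left _).add_left hTf
  have hex : Commute (τ x) e := by
    show τ x * ((Nat.card N₁ : k)⁻¹ • ∑ g : N₁, τ g * f * τ (g : D)⁻¹) =
      ((Nat.card N₁ : k)⁻¹ • ∑ g : N₁, τ g * f * τ (g : D)⁻¹) * τ x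
    rw [mul_smul_comm, smul_mul_assoc, Finset.mul_sum, Finset.sum_mul]
    congr 1
    refine Finset.sum_congr rfl fun g _ => ?_
    obtain ⟨j, hj⟩ := hN₁ (g : D)⁻¹ (N₁.inv_mem g.2)
    rw [inv_inv] at hj
    have e1 : τ x * τ g = τ g * τ x ^ j := by
      rw [← map_mul, ← map_pow, ← map_mul, ← hj]
      congr 1
      group
    have e2 : τ x ^ j * τ (g : D)⁻¹ = τ (g : D)⁻¹ * τ x := by
      rw [← map_mul, ← map_pow, ← map_mul, ← hj]
      congr 1
      group
    calc τ x * (τ g * f * τ (g : D)⁻¹) = (τ x * τ g) * f * τ (g : D)⁻¹ := by simp only [mul_assoc]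
      _ = τ g * (τ x ^ j * f) * τ (g : D)⁻¹ := by rw [e1]; simp only [mul_assoc]
      _ = τ g * (f * τ x ^ j) * τ (g : D)⁻¹ := by rw [(hxf.pow_left j).eq]
      _ = τ g * f * (τ x ^ j * τ (g : D)⁻¹) := by simp only [mul_assoc]
      _ = _ := by rw [e2]; simp only [mul_assoc]
  have heN : ∀ g ∈ Subgroup.normalizer ((P : Subgroup D) : Set D), Commute (τ g) e := by
    intro g hg
    let S : Subgroup D :=
      { carrier := {g | Commute (τ g) e}
        mul_mem' := fun {a b} ha hb => by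
          show Commute (τ (a * b)) e
          rw [map_mul]
          exact Commute.mul_left ha hb
        one_mem' := by
          show Commute (τ 1) e
          rw [map_one]
          exact Commute.one_left _
        inv_mem' := fun {a} ha => by
          have ha' : Commute (τ a) e := ha
          show τ a⁻¹ * e = e * τ a⁻¹
          have h1 : τ a * τ a⁻¹ = 1 := by rw [← map_mul, mul_inv_cancel, map_one]
          have h2 : τ a⁻¹ * τ a = 1 := by rw [← map_mul, inv_mul_cancel, map_one]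
          calc τ a⁻¹ * e = τ a⁻¹ * (e * (τ a * τ a⁻¹)) := by rw [h1, mul_one]
            _ = τ a⁻¹ * (e * τ a) * τ a⁻¹ := by simp only [mul_assoc]
            _ = τ a⁻¹ * (τ a * e) * τ a⁻¹ := by rw [ha'.eq]
            _ = (τ a⁻¹ * τ a) * e * τ a⁻¹ := by simp only [mul_assoc]
            _ = e * τ a⁻¹ := by rw [h2, one_mul] }
    have hle : Subgroup.zpowers x ⊔ N₁ ≤ S := by
      refine sup_le ?_ fun g hg => heN₁ g hg
      rw [Subgroup.zpowers_le]
      exact hex
    rw [hN] at hg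
    exact hle hg
  have htr' := Cfsg.Agent.LieRecognition.FT61.TI.sum_zpowers p τ x hxo htr
  obtain ⟨u, f', huN, hfD, hff, huf⟩ := Cfsg.Agent.LieRecognition.FT61.Summand.exists_summand τ
    (Subgroup.zpowers x) (Subgroup.normalizer ((P : Subgroup D) : Set D))
    (Subgroup.mem_zpowers x) le_rfl (by rw [hPx]; exact Subgroup.le_normalizer)
    (by
      intro g hg y hy hyg
      rw [hPx] at hy
      exact Cfsg.Agent.LieRecognition.FT61.EndRep.ti_of_card p P hP g hg y hy hyg) htr' htr e hee heN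
  have hPN : Subgroup.zpowers x ≤ Subgroup.normalizer ((P : Subgroup D) : Set D) := by
    rw [hPx]; exact Subgroup.le_normalizer
  have hfu : ∀ m : M, f' ((u : Module.End k M) m) = (u : Module.End k M) (e m) := by
    intro m
    exact (congrArg (fun T : Module.End k M => T m) huf).symm
  let σ : Subrepresentation τ :=
    { toSubmodule := LinearMap.range f'
      apply_mem_toSubmodule := fun g w hw => by
        obtain ⟨m, rfl⟩ := hw
        refine ⟨τ g m, ?_⟩
        exact (congrArg (fun T : Module.End k M => T m) (hfD g).eq).symm }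
  have huinv : ∀ m : M, (u : Module.End k M) (((u⁻¹ : (Module.End k M)ˣ) : Module.End k M) m) = m := by
    intro m
    rw [← Module.End.mul_apply, Units.mul_inv, Module.End.one_apply]
  have huinv' : ∀ m : M, ((u⁻¹ : (Module.End k M)ˣ) : Module.End k M) ((u : Module.End k M) m) = m := by
    intro m
    rw [← Module.End.mul_apply, Units.inv_mul, Module.End.one_apply]
  refine ⟨σ, ?_, ?_⟩
  · have hle : σ.toSubmodule ≤ Z.map (u : Module.End k M) := by
      rintro _ ⟨m, rfl⟩
      refine ⟨e (((u⁻¹ : (Module.End k M)ˣ) : Module.End k M) m), hemem _, ?_⟩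
      rw [← hfu, huinv]
    refine (Submodule.finrank_mono hle).trans ((Submodule.finrank_map_le _ _).trans ?_)
    have h2 := finrank_range_le_card (R := k) (fun i : Fin (a + 1) => (T ^ (i : ℕ)) z)
    rw [Fintype.card_fin] at h2
    exact h2
  · intro hcon
    have hmem : (u : Module.End k M) z ∈ σ.toSubmodule := ⟨(u : Module.End k M) z, by rw [hfu, heZ z hzZ]⟩
    have h2 := congrArg (fun S : Module.End k σ.toSubmodule => (S ⟨(u : Module.End k M) z, hmem⟩ : M)) hcon
    have h3 : τ x ((u : Module.End k M) z) = (u : Module.End k M) z := h2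
    have h4 : τ x ((u : Module.End k M) z) = (u : Module.End k M) (τ x z) :=
      congrArg (fun T : Module.End k M => T z) (huN x (hPN (Subgroup.mem_zpowers x))).eq
    rw [h4] at h3
    have h5 : τ x z = z := by rw [← huinv' (τ x z), h3, huinv']
    have h6 : T z = 0 := by rw [hT, LinearMap.sub_apply, Module.End.one_apply, h5, sub_self]
    apply hz1
    obtain ⟨b, rfl⟩ : ∃ b, a = b + 1 := ⟨a - 1, by omega⟩
    have h7 : (T ^ (b + 1)) z = 0 := by rw [pow_succ, Module.End.mul_apply, h6, map_zero]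
    rw [h7]
    exact Submodule.zero_mem _

end group

end Cfsg.Agent.H655.CycSum
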