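import Cfsg.Agent.H655.MainTheorem

/-!
# The number of classes of elements of order `p` (helper655)
-/

set_option autoImplicit false
open Cfsg

namespace Cfsg.Agent.H655.ClassCount

open Subgroup
open Cfsg.Agent.LieRecognition.FT61

universe u

variable {G : Type u} [Group G] [Finite G] {p : ℕ} [Fact p.Prime]

/-- the classes of elements of order `p` -/
abbrev Cl (G : Type u) [Group G] (p : ℕ) : Type u := {c : ConjClasses G // ∃ g : G, ConjClasses.mk g = c ∧ orderOf g = p}

/-- the nontrivial elements of `P` -/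
abbrev X (P : Sylow p G) : Type u := {x : G // x ∈ (P : Subgroup G) ∧ x ≠ 1}

/-- the class of an element -/
def cls (P : Sylow p G) (hP : Nat.card P = p) (x : X P) : Cl G p :=
  ⟨ConjClasses.mk (x : G), x, rfl, Blocks.CyclicOrtho.orderOf_eq P hP x.2.1 x.2.2⟩

theorem cls_eq (P : Sylow p G) (hP : Nat.card P = p) (x y : X P) :
    cls P hP x = cls P hP y ↔ ∃ g : G, g * (y : G) * g⁻¹ = x := by
  rw [cls, cls, Subtype.mk.injEq, ConjClasses.mk_eq_mk_iff_isConj, isConj_comm, isConj_iff]

theorem cls_surjective (P : Sylow p G) (hP : Nat.card P = p) : Function.Surjective (cls P hP) := by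
  rintro ⟨c, g, rfl, hg⟩
  have hQ : IsPGroup p (zpowers g) := IsPGroup.of_card (n := 1) (by rw [Nat.card_zpowers, hg, pow_one])
  obtain ⟨P', hP'⟩ := hQ.exists_le_sylow
  obtain ⟨h, hh⟩ := MulAction.exists_smul_eq G P' P
  have h1 : h * g * h⁻¹ ∈ (P : Subgroup G) := by
    rw [← hh, Sylow.coe_subgroup_smul]
    have h2 := Subgroup.smul_mem_pointwise_smul g (MulAut.conj h) (P' : Subgroup G) (hP' (mem_zpowers g))
    simpa using h2
  have h2 : h * g * h⁻¹ ≠ 1 := by
    intro h3
    have h4 : g = 1 := by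
      have : g = h⁻¹ * (h * g * h⁻¹) * h := by group
      rw [this, h3]; group
    rw [h4, orderOf_one] at hg
    exact (Fact.out : p.Prime).one_lt.ne hg
  refine ⟨⟨h * g * h⁻¹, h1, h2⟩, Subtype.ext ?_⟩
  show ConjClasses.mk (h * g * h⁻¹) = ConjClasses.mk g
  rw [ConjClasses.mk_eq_mk_iff_isConj, isConj_comm, isConj_iff]
  exact ⟨h, rfl⟩

theorem card_X (P : Sylow p G) (hP : Nat.card P = p) : Nat.card (X P) = p - 1 := by
  have h1 : Nat.card (X P) = (((P : Subgroup G) : Set G) \ {1}).ncard := by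
    rw [← Nat.card_coe_set_eq]
    rfl
  rw [h1, Set.ncard_sdiff_singleton_of_mem (one_mem _)]
  have h2 : ((P : Subgroup G) : Set G).ncard = p := by
    rw [← Nat.card_coe_set_eq]
    exact hP
  rw [h2]

theorem card_fiber (P : Sylow p G) (hP : Nat.card P = p) (x : X P) :
    Nat.card {y : X P // cls P hP y = cls P hP x} =
      (centralizer ((P : Subgroup G) : Set G)).relIndex (normalizer ((P : Subgroup G) : Set G)) := by
  set N := normalizer ((P : Subgroup G) : Set G) with hN
  set C := (centralizer ((P : Subgroup G) : Set G)).subgroupOf N with hC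
  have hmem : ∀ n : N, (n : G) * x * (n : G)⁻¹ ∈ (P : Subgroup G) ∧ (n : G) * x * (n : G)⁻¹ ≠ 1 := by
    intro n
    refine ⟨(mem_normalizer_iff.1 n.2 x).1 x.2.1, ?_⟩
    intro h
    apply x.2.2
    have : (x : G) = (n : G)⁻¹ * ((n : G) * x * (n : G)⁻¹) * n := by group
    rw [this, h]; group
  let f : N → {y : X P // cls P hP y = cls P hP x} := fun n =>
    ⟨⟨(n : G) * x * (n : G)⁻¹, hmem n⟩, (cls_eq P hP _ _).2 ⟨n, rfl⟩⟩
  have hf : ∀ a b : N, (QuotientGroup.leftRel C) a b ↔ f a = f b := by
    intro a b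
    rw [QuotientGroup.leftRel_apply, hC, mem_subgroupOf]
    constructor
    · intro h
      have h1 := (mem_centralizer_iff.1 h x x.2.1)
      apply Subtype.ext
      apply Subtype.ext
      show (a : G) * x * (a : G)⁻¹ = b * x * (b : G)⁻¹
      rw [Subgroup.coe_mul, Subgroup.coe_inv] at h1
      have h2 : (b : G) * x * (b : G)⁻¹ = a * ((a : G)⁻¹ * b * x) * (b : G)⁻¹ := by group
      rw [h2, ← h1]
      group
    · intro h
      have h1 : (a : G) * x * (a : G)⁻¹ = b * x * (b : G)⁻¹ :=
        congrArg (fun y : {y : X P // cls P hP y = cls P hP x} => ((y : X P) : G)) h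
      refine MinusTwo.mem_centralizer_of_comm hP x.2.1 x.2.2 ?_
      rw [Subgroup.coe_mul, Subgroup.coe_inv]
      calc (a : G)⁻¹ * b * x = (a : G)⁻¹ * (b * x * (b : G)⁻¹) * b := by group
        _ = (a : G)⁻¹ * (a * x * (a : G)⁻¹) * b := by rw [h1]
        _ = x * ((a : G)⁻¹ * b) := by group
  let F : N ⧸ C → {y : X P // cls P hP y = cls P hP x} := Quotient.lift f (fun a b h => (hf a b).1 h)
  have hF : Function.Bijective F := by
    constructor
    · rintro ⟨a⟩ ⟨b⟩ h
      exact Quotient.sound ((hf a b).2 h)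
    · rintro ⟨y, hy⟩
      obtain ⟨g, hg⟩ := (cls_eq P hP _ _).1 hy
      have hgN : g ∈ N := by
        have h1 : zpowers (y : G) = (P : Subgroup G) := ThmC1.zpowers_eq P hP y.2.1 y.2.2
        have h2 : zpowers (x : G) = (P : Subgroup G) := ThmC1.zpowers_eq P hP x.2.1 x.2.2
        have h3 : (P : Subgroup G).map (MulAut.conj g).toMonoidHom = (P : Subgroup G) := by
          conv_lhs => rw [← h2]
          rw [MonoidHom.map_zpowers]
          exact (congrArg zpowers hg).trans h1
        rw [hN, mem_normalizer_iff]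
        intro c
        constructor
        · intro hc
          have h4 := mem_map_of_mem (MulAut.conj g).toMonoidHom hc
          rw [h3] at h4
          exact h4
        · intro hc
          have hc' : g * c * g⁻¹ ∈ (P : Subgroup G) := hc
          rw [← h3] at hc'
          obtain ⟨d, hd, hdc⟩ := mem_map.1 hc'
          have h5 : d = c := (MulAut.conj g).injective hdc
          exact h5 ▸ hd
      exact ⟨QuotientGroup.mk ⟨g, hgN⟩, Subtype.ext (Subtype.ext hg)⟩
  rw [← Nat.card_congr (Equiv.ofBijective F hF)]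
  rfl

/-- **The number of classes of elements of order `p`.** -/
theorem card_classes (P : Sylow p G) (hP : Nat.card P = p) :
    Nat.card (Cl G p) *
      (centralizer ((P : Subgroup G) : Set G)).relIndex (normalizer ((P : Subgroup G) : Set G)) = p - 1 := by
  classical
  have := Fintype.ofFinite (Cl G p)
  rw [← card_X P hP, ← Nat.card_congr (Equiv.sigmaFiberEquiv (cls P hP)), Nat.card_sigma,
    Finset.sum_congr rfl (fun c _ => ?_), Finset.sum_const, Finset.card_univ, ← Nat.card_eq_fintype_card, smul_eq_mul]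
  obtain ⟨x, rfl⟩ := cls_surjective P hP c
  exact card_fiber P hP x

/-- S4704 -/
theorem s4704 (hS : ∀ (X : Type u) [Group X] [Finite X] [IsSimpleGroup X], IsKnownSimple' X)
    (hp : 7 < p) (P : Sylow p G) (hP : Nat.card P = p) (hnn : ¬ (P : Subgroup G).Normal) (ζ : G → ℂ)
    (hζ : Cfsg.IsIrrCharacter G ζ) (hfaith : ∀ g : G, ζ g = ζ 1 → g = 1) (t : ℕ)
    (ht : Nat.card {c : ConjClasses G // ∃ g : G, ConjClasses.mk g = c ∧ orderOf g = p} = t) :
    ((∃ (F : Type) (_ : Field F) (_ : Fintype F), Fintype.card F = p ∧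
        Nonempty (G ⧸ Subgroup.center G ≃* Matrix.ProjectiveSpecialLinearGroup (Fin 2) F)) ∧
      (2 * Cfsg.charDegree ζ = p + 1 ∨ 2 * Cfsg.charDegree ζ = p - 1) ∧ t = 2) ∨ p - 1 ≤ Cfsg.charDegree ζ ∨
      ((p : ℝ) + 3 / 2 - Real.sqrt ((p : ℝ) + 5 / 4) ≤ (Cfsg.charDegree ζ : ℝ) ∧
        (p : ℤ) ≤ (t : ℤ) ^ 2 - 3 * t + 1) := by
  have hpp : p.Prime := Fact.out
  have hp11 : 11 ≤ p := by
    by_contra hlt
    have h1 : p = 8 ∨ p = 9 ∨ p = 10 := by omega
    rcases h1 with rfl | rfl | rfl <;> revert hpp <;> norm_num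
  obtain ⟨n, -, hn⟩ := Characters.Core.isIrr_apply_one hζ
  have hd : Cfsg.charDegree ζ = n := by
    unfold Cfsg.charDegree
    rw [hn]
    simp
  rw [hd]
  by_cases hlt : n < p - 1
  · obtain ⟨E, t', het, hE, h⟩ := MainTheorem.main (ζ := ⟨ζ, hζ⟩) hS hp hP hnn hfaith hn hlt
    have h1 := card_classes P hP
    rw [hE] at h1
    have h2 : t * E = p - 1 := by rw [← ht]; exact h1
    have hE0 : 0 < E := by
      rcases Nat.eq_zero_or_pos E with h3 | h3
      · rw [h3, zero_mul] at het
        omega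
      · exact h3
    have htt : t = t' := by
      apply Nat.eq_of_mul_eq_mul_right hE0
      rw [h2, ← het, mul_comm]
    subst htt
    rcases h with ⟨h3, h4, h5⟩ | ⟨h3, h4⟩
    · exact Or.inl ⟨MainTheorem.exists_field h5, h4, h3⟩
    · right; right
      subst h3
      have h5 : p = 2 * t + 1 := by omega
      have h6 : 5 ≤ t := by omega
      constructor
      · have h7 : (n : ℝ) = p - 2 := by
          rw [h4, Nat.cast_sub (by omega)]
          norm_num
        have h8 : (7 / 2 : ℝ) ≤ Real.sqrt ((p : ℝ) + 5 / 4) := by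
          apply Real.le_sqrt_of_sq_le
          have : (11 : ℝ) ≤ p := by exact_mod_cast hp11
          linarith
        rw [h7]
        linarith
      · rw [h5]
        push_cast
        have h7 : (5 : ℤ) ≤ t := by exact_mod_cast h6
        nlinarith
  · right; left
    omega

end Cfsg.Agent.H655.ClassCount
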