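import Cfsg.Agent.H655.PRUse
import Cfsg.Agent.H655.ElimTwo

/-!
# The minus case with at least three classes of elements of order `p` (helper655)
-/

set_option autoImplicit false
set_option linter.unusedSectionVars false

namespace Cfsg.Agent.H655.MinusBig

open Cfsg Subgroup
open Cfsg.Agent.OrdDiv (OrderTable Real Grp)
open Cfsg.Agent.H167.StChar (HasSt)
open Cfsg.Agent.H655.Cases Cfsg.Agent.H655.Numbers Cfsg.Agent.H655.Elim Cfsg.Agent.H655.Spor

universe u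

variable {M : Type u} [Group M] [Finite M] {p E t : ℕ}

theorem two_mul_ne {S : Type u} [Group S] (h : Num S p E t) (ht : 3 ≤ t) : 2 * E ≠ p - 1 := by
  intro h1
  have h2 := h.het
  have h3 := h.two_le_E
  rw [← h1, mul_comm 2] at h2
  have := Nat.eq_of_mul_eq_mul_left (by omega) h2
  omega

theorem not_primePow_6 {r f : ℕ} (hr : r.Prime) (h : 6 = r ^ f) : False := by
  have h3 : 2 ∣ r ^ f := h ▸ by norm_num
  have h5 : 3 ∣ r ^ f := h ▸ by norm_num
  have h6 := (Nat.prime_dvd_prime_iff_eq Nat.prime_two hr).1 (Nat.prime_two.dvd_of_dvd_pow h3)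
  have h7 := (Nat.prime_dvd_prime_iff_eq Nat.prime_three hr).1 (Nat.prime_three.dvd_of_dvd_pow h5)
  omega

theorem not_psl2 (h : Num (M ⧸ center M) p E t) (hp11 : 11 ≤ p) (ht : 3 ≤ t) (hE : E ≠ 2) {q r f : ℕ} (hq4 : 4 ≤ q)
    (hr : r.Prime) (hf : 1 ≤ f) (hq : q = r ^ f) (hst : HasSt r (M ⧸ center M))
    (hc : Nat.gcd 2 (q - 1) * Nat.card (M ⧸ center M) = q * (q ^ 2 - 1))
    (hb : q ≠ 4 → q ≠ 9 → (q - 1) / Nat.gcd 2 (q - 1) ≤ p - E) : False := by
  have hE2 := h.two_le_E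
  have hEle := E_le h
  rcases psl2 h hq4 hr hf hq hst hc with ⟨-, h1⟩ | ⟨-, -, m, h1, h2⟩
  · exact two_mul_ne h ht h1
  · have hm0 : m ≠ 0 := by
      rintro rfl
      omega
    have hm1 : 1 ≤ m := by omega
    have hpm : p * 1 ≤ p * m := Nat.mul_le_mul_left _ hm1
    have hb' := hb (by omega) (by omega)
    have hg : Nat.gcd 2 (q - 1) = 1 ∨ Nat.gcd 2 (q - 1) = 2 := (Nat.dvd_prime Nat.prime_two).1 (Nat.gcd_dvd_left _ _)
    have hm : m = 1 := by
      by_contra hne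
      have : p * 2 ≤ p * m := Nat.mul_le_mul_left _ (by omega)
      rcases hg with hg | hg
      · rw [hg, Nat.div_one] at hb'
        omega
      · rw [hg] at hb'
        omega
    subst hm
    rcases hg with hg | hg
    · rw [hg] at h2
      omega
    · rw [hg] at h2
      omega

theorem not_psl3 (h : Num (M ⧸ center M) p E t) (hp11 : 11 ≤ p) {q r f : ℕ}
    (hr : r.Prime) (hf : 1 ≤ f) (hq : q = r ^ f) (hst : HasSt r (M ⧸ center M))
    (hc : Nat.gcd 3 (q - 1) * Nat.card (M ⧸ center M) = q ^ 3 * ((q ^ 2 - 1) * (q ^ 3 - 1)))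
    (hb : q ≠ 4 → q ≠ 2 → q ^ 2 - 1 ≤ p - E) : False := by
  have hp := h.prime
  have hE2 := h.two_le_E
  have hEle := E_le h
  have hq2 : 2 ≤ q := by
    rw [hq]
    exact hr.two_le.trans (Nat.le_self_pow (by omega) r)
  obtain ⟨-, m, h1, h2⟩ := psl3 h hr hf hq hst hc
  have hm0 : m ≠ 0 := by
    rintro rfl
    simp at h1
  have h4 : q ≠ 4 := by
    rintro rfl
    norm_num at h1
    have h3 : p ∣ 3 * 7 := ⟨m, h1.symm⟩
    rcases hp.dvd_mul.1 h3 with h4 | h4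
    · have := Nat.le_of_dvd (by norm_num) h4
      omega
    · have := Nat.le_of_dvd (by norm_num) h4
      omega
  have h5 : q ≠ 2 := by
    rintro rfl
    norm_num at h1
    have := Nat.le_of_dvd (by norm_num) (Dvd.intro _ h1)
    omega
  have hb' := hb h4 h5
  have hqq : q + q ≤ q ^ 2 := by nlinarith
  have hm : m = 1 := by
    by_contra hne
    have : p * 2 ≤ p * m := Nat.mul_le_mul_left _ (by omega)
    omega
  subst hm
  have hg : Nat.gcd 3 (q - 1) = 1 := by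
    rcases (Nat.dvd_prime Nat.prime_three).1 (Nat.gcd_dvd_left 3 (q - 1)) with hg | hg
    · exact hg
    · rw [hg] at h2
      omega
  rw [hg, one_mul, mul_one] at h2
  rw [mul_one] at h1
  rw [hg, one_mul] at hc
  have hd := h.dvd
  rw [hc, h2] at hd
  have hfac : p - 3 = (q - 1) * (q + 2) := by
    rw [h1]
    obtain ⟨x, rfl⟩ : ∃ x, q = x + 2 := ⟨q - 2, by omega⟩
    have h6 : x + 2 - 1 = x + 1 := by omega
    rw [h6]
    have h7 : (x + 2) ^ 2 + (x + 2) + 1 = (x + 1) * (x + 2 + 2) + 3 := by ring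
    omega
  have hfac2 : q ^ 3 * ((q ^ 2 - 1) * (q ^ 3 - 1)) = (q - 1) * (q ^ 3 * (q - 1) * (q + 1) * (q ^ 2 + q + 1)) := by
    have h6 : 1 ≤ q ^ 2 := Nat.one_le_pow _ _ (by omega)
    have h7 : 1 ≤ q ^ 3 := Nat.one_le_pow _ _ (by omega)
    have h8 : 1 ≤ q := by omega
    zify [h6, h7, h8]
    ring
  rw [hfac, hfac2] at hd
  have hd2 := Nat.dvd_of_mul_dvd_mul_left (by omega) hd
  have hd3 : q + 2 ∣ 72 := by
    zify at hd2 ⊢
    rw [Nat.cast_sub (show 1 ≤ q by omega)] at hd2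
    have h6 : (q : ℤ) ^ 3 * ((q : ℤ) - (1 : ℕ)) * (q + 1) * (q ^ 2 + q + 1) + 72 =
        (q + 2) * ((q : ℤ) ^ 6 - q ^ 5 + 2 * q ^ 4 - 5 * q ^ 3 + 9 * q ^ 2 - 18 * q + 36) := by
      push_cast
      ring
    exact (dvd_add_right hd2).1 (h6 ▸ dvd_mul_right _ _)
  have hle := Nat.le_of_dvd (by norm_num) hd3
  have h6 : ∀ q < 71, 2 ≤ q → q + 2 ∣ 72 → Nat.gcd 3 (q - 1) = 1 → q = 2 ∨ q = 6 := by decide
  rcases h6 q (by omega) hq2 hd3 hg with h7 | h7
  · exact h5 h7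
  · exact not_primePow_6 hr (h7 ▸ hq)

theorem not_psu3 (h : Num (M ⧸ center M) p E t) {q r f : ℕ} (hq3 : 3 ≤ q) (hr : r.Prime) (hf : 1 ≤ f)
    (hq : q = r ^ f) (hst : HasSt r (M ⧸ center M))
    (hc : Nat.gcd 3 (q + 1) * Nat.card (M ⧸ center M) = q ^ 3 * ((q ^ 2 - 1) * (q ^ 3 + 1)))
    (hb : (q - 1) * q ≤ p - E) : False := by
  have hE2 := h.two_le_E
  have hEle := E_le h
  obtain ⟨-, m, h1, h2⟩ := psu3 h hq3 hr hf hq hst hc
  have hm0 : m ≠ 0 := by
    rintro rfl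
    simp at h1
  have hpm : p * 1 ≤ p * m := Nat.mul_le_mul_left _ (by omega)
  rw [Nat.sub_mul, one_mul, ← sq] at hb
  omega

theorem minus_big (T : OrderTable.{u}) (hperf : commutator M = ⊤) (hS : IsKnownSimple' (M ⧸ center M))
    (hna : ¬ ∀ a b : M ⧸ center M, a * b = b * a)
    (hSt : ∀ r : ℕ, r.Prime → IsLieTypeChar r (M ⧸ center M) → HasSt r (M ⧸ center M))
    (ρ : Representation ℂ M (Fin (p - E) → ℂ)) (hρ : Function.Injective ρ) (h : Num (M ⧸ center M) p E t)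
    (hp11 : 11 ≤ p) (ht : 3 ≤ t) : E = 2 ∨ (Real .ly (M ⧸ center M) ∧ p = 67 ∧ E = 22) := by
  by_cases hE : E = 2
  · exact Or.inl hE
  right
  cases Cases.cases T hS hna hSt with
  | alt n hn e =>
    obtain ⟨e⟩ := e
    exact absurd (Spor.alt h hn e).1 (two_mul_ne h ht)
  | spor x hx hr hc =>
    have h1 := mem_surv h (by omega) hx hc
    have h2 := ly_of_t _ h1 (two_mul_ne h ht)
    simp only [Prod.mk.injEq] at h2
    exact ⟨h2.1 ▸ hr, h2.2.1, h2.2.2⟩
  | psl2 F instF instFF hF r f hr hf hq hch st e hc =>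
    exact (not_psl2 h hp11 ht hE hF hr hf hq st hc fun h4 h9 => PRUse.psl2_le hperf ρ hρ hr hch hF h4 h9 e).elim
  | psl3 F instF instFF r f hr hf hq hch st e hc =>
    exact (not_psl3 h hp11 hr hf hq st hc fun h4 h9 => PRUse.psl3_le hperf ρ hρ hr hch h4 h9 e).elim
  | psu3 F instF instFF q r f hq3 hr hf hq hF hch st e hc =>
    exact (not_psu3 h hq3 hr hf hq st hc (PRUse.psu3_le hperf ρ hρ hr hch hF hq3 e)).elim
  | sz F instF instFF m hm hF st e hc => exact (not_sz h hm st hc).elim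
  | big r q N hb => exact (not_big h hb).elim

end Cfsg.Agent.H655.MinusBig
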