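import Mathlib
import Cfsg.Agent.H607.Faithful

/-!
# Groups with a Sylow `p`-subgroup of order `p` and a faithful representation in characteristic `p` with
`(x - 1) ^ m = 0`, `2 m ≤ p` (helper655)

The arguments of `LieRecognition.FT61.ThmC1`, `ThmC2` and `H607.Faithful` with the hypothesis `2 dim V < p` replaced by
`(x - 1) ^ m = 0`, `2 m ≤ p` and `dim V + 1 < p`.
-/

set_option autoImplicit false
set_option linter.unusedSectionVars false

namespace Cfsg.Agent.H655.ModGen

open Finset Module Matrix MulAction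
open Cfsg.Agent.LieRecognition.FT61
open Cfsg.Agent.H607
open Cfsg.Agent.ClassicalGeometry.PoleCount Cfsg.Agent.ClassicalGeometry.PoleCount.Pole
open Cfsg.Agent.ClassicalGeometry.PoleBridge

section

variable {k V D : Type*} [Field k] [AddCommGroup V] [Module k V] [FiniteDimensional k V] [Group D]
  [Finite D]

/-- **Case `N = C`.** -/
theorem central_of_le (p : ℕ) [Fact p.Prime] [CharP k p] (ρ : Representation k D V)
    (hρ : Function.Injective ρ) (P : Sylow p D)
    (hP : Nat.card P = p) {x : D} (hx : x ∈ (P : Subgroup D)) {m : ℕ} (hm : (ρ x - 1 : Module.End k V) ^ m = 0) (h2m : 2 * m ≤ p)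
    (hN : ∀ g ∈ Subgroup.normalizer ((P : Subgroup D) : Set D), g * x = x * g) (g : D) :
    g * x = x * g := by
  classical
  have hp : p.Prime := Fact.out
  by_cases hx1 : x = 1
  · rw [hx1, mul_one, one_mul]
  have hPx := ThmC1.zpowers_eq P hP hx hx1
  have hxo : orderOf x = p := orderOf_eq_prime (ThmC1.pow_eq_one_of_mem P hP hx) hx1
  have : Fintype (Subgroup.zpowers x) := Fintype.ofFinite _
  have hp0 := hp.pos
  have hnil2 := EndRep.linHom_sub_one_pow ρ (c := p - 1) hm (by omega)
  have h1 := TI.fixed_of_fixed (Representation.linHom ρ ρ) (Subgroup.zpowers x)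
    (Subgroup.normalizer ((P : Subgroup D) : Set D)) (by rw [hPx]; exact Subgroup.le_normalizer)
    (by
      intro g hg y hy hyg
      rw [hPx] at hy
      exact EndRep.ti_of_card p P hP g hg y hy hyg)
    (TI.sum_zpowers p (Representation.linHom ρ ρ) x hxo hnil2) (ρ x) (by
      intro g hg
      show ρ g * (ρ x * ρ g⁻¹) = ρ x
      rw [← map_mul, ← map_mul]
      congr 1
      rw [← mul_assoc, hN g hg, mul_assoc, mul_inv_cancel, mul_one]) g
  have h2 : ρ g * (ρ x * ρ g⁻¹) = ρ x := h1
  rw [← map_mul, ← map_mul] at h2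
  have h3 := hρ h2
  rw [← mul_assoc, mul_inv_eq_iff_eq_mul] at h3
  exact h3

/-- The stable summand. -/
theorem exists_sub (p : ℕ) [Fact p.Prime] [CharP k p] (ρ : Representation k D V)
    (hρ : Function.Injective ρ) (hp2 : p ≠ 2) (hdim : Module.finrank k V + 1 < p) (P : Sylow p D)
    (hP : Nat.card P = p) {x : D} (hx : x ∈ (P : Subgroup D)) (hx1 : x ≠ 1)
    {m : ℕ} (hm : (ρ x - 1 : Module.End k V) ^ m = 0) (h2m : 2 * m ≤ p)
    {N₁ : Subgroup D} (hcard : ¬ p ∣ Nat.card N₁) {α : N₁ →* k}
    (hα : ∀ g : N₁, ∃ a : ℕ, (g : D) * x * (g : D)⁻¹ = x ^ a ∧ α g = (a : k))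
    (hN : Subgroup.normalizer ((P : Subgroup D) : Set D) = Subgroup.zpowers x ⊔ N₁) :
    ∃ (σ : Subrepresentation (Representation.linHom ρ ρ)) (v : σ.toSubmodule),
      ((σ.toRepresentation x - 1 : Module.End k σ.toSubmodule) ^ 3) v = 0 ∧
      ((σ.toRepresentation x - 1 : Module.End k σ.toSubmodule) ^ 2) v ≠ 0 ∧
      (∀ w : σ.toSubmodule, w ∈ Submodule.span k {v,
        (σ.toRepresentation x - 1 : Module.End k σ.toSubmodule) v,
        ((σ.toRepresentation x - 1 : Module.End k σ.toSubmodule) ^ 2) v}) ∧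
      (∀ g : N₁, σ.toRepresentation g v = α g⁻¹ • v) := by
  classical
  have hp : p.Prime := Fact.out
  have hPx := ThmC1.zpowers_eq P hP hx hx1
  have hxo : orderOf x = p := orderOf_eq_prime (ThmC1.pow_eq_one_of_mem P hP hx) hx1
  have : Fintype (Subgroup.zpowers x) := Fintype.ofFinite _
  have hnil := hm
  have hp0 := hp.pos
  have hnil2 := EndRep.linHom_sub_one_pow ρ (c := p - 1) hnil (by omega)
  have htr := TI.sum_zpowers p (Representation.linHom ρ ρ) x hxo hnil2
  have h2k : (2 : k) ≠ 0 := by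
    intro h
    have h1 : ((2 : ℕ) : k) = 0 := by exact_mod_cast h
    rw [CharP.cast_eq_zero_iff k p] at h1
    exact hp2 ((Nat.prime_dvd_prime_iff_eq hp Nat.prime_two).1 h1)
  have hν0 : (ρ x - 1 : Module.End k V) ≠ 0 := by
    intro h
    apply hx1
    apply hρ
    rw [map_one]
    exact sub_eq_zero.1 h
  set ν : Module.End k V := ρ x - 1 with hν
  set A : Module.End k V := ρ x with hA
  have hAν : Commute A ν := by
    rw [hν]
    exact (Commute.refl A).sub_right (Commute.one_right A)
  obtain ⟨q, hq, hs⟩ := ThmC2.exists_weight p ρ hcard hα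
  rw [← hν] at hq hs
  obtain ⟨z₁, hz₁⟩ := Nil.exists_double_bracket h2k ν ⟨_, hnil⟩
  obtain ⟨c, hc, hcq⟩ := Nil2.exists_trace_ne_zero p (by omega) ν ⟨_, hnil⟩ hν0
  set s : Module.End k V := ν + ν ^ 2 * q with hsdef
  have hAinv : A * ρ x⁻¹ = 1 := by rw [hA, ← map_mul, mul_inv_cancel, map_one]
  have hAs : Commute A s := by
    have hqA : Commute A q := by
      have h1 : A = ν + 1 := by rw [hν]; abel
      rw [h1]
      exact hq.symm.add_left (Commute.one_left _)
    exact hAν.add_right ((hAν.pow_right 2).mul_right hqA)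
  have hxs : (Representation.linHom ρ ρ x - 1 : Module.End k (Module.End k V)) s = 0 := by
    show A * (s * ρ x⁻¹) - s = 0
    rw [← mul_assoc, hAs.eq, mul_assoc, hAinv, mul_one, sub_self]
  have hz₀ : ((Representation.linHom ρ ρ x - 1 : Module.End k (Module.End k V)) ^ 2)
      ((1 + ν * q) * z₁ * (A * A)) = s := by
    rw [(ThmC1.delta_pow ρ x _).1, ← hA, ← hν]
    have hνq : Commute ν (1 + ν * q) :=
      (Commute.one_right ν).add_right ((Commute.refl ν).mul_right hq.symm)
    have hAA : Commute ν (A * A) := hAν.symm.mul_right hAν.symm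
    set Q := 1 + ν * q with hQ
    have h2 : ∀ w : Module.End k V, ν * (Q * w * (A * A)) - Q * w * (A * A) * ν =
        Q * (ν * w - w * ν) * (A * A) := by
      intro w
      have e1 : ν * (Q * w * (A * A)) = Q * (ν * w) * (A * A) := by
        rw [mul_assoc Q w, ← mul_assoc ν Q, hνq.eq]
        simp only [mul_assoc]
      have e2 : Q * w * (A * A) * ν = Q * (w * ν) * (A * A) := by
        rw [mul_assoc (Q * w), ← hAA.eq]
        simp only [mul_assoc]
      rw [e1, e2, ← sub_mul, ← mul_sub]
    rw [h2, h2, hz₁, mul_assoc]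
    have h3 : A * A * (ρ x⁻¹ * ρ x⁻¹) = 1 := by
      rw [mul_assoc, ← mul_assoc A (ρ x⁻¹), hAinv, one_mul, hAinv]
    rw [h3, mul_one, hQ, hsdef, add_mul, one_mul, mul_assoc, hq.eq, ← mul_assoc, sq]
  obtain ⟨z, φ, hz, hzα, hφ, hφs, hφα⟩ := Triple.exists_adjusted p (Representation.linHom ρ ρ)
    hcard hα hxs hs hz₀ (LinearMap.trace k V ∘ₗ LinearMap.mulLeft k c)
    (fun m => ThmC2.trace_delta_cube ρ x c hc m) (hcq q hq)
  obtain ⟨e, hee, hxe, hN₁e, hespan, hez, heΔ, hes⟩ := Triple.exists_idempotent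
    (Representation.linHom ρ ρ) hα hxs hs hz hzα φ hφ hφs hφα
  have heN : ∀ g ∈ Subgroup.normalizer ((P : Subgroup D) : Set D),
      Commute (Representation.linHom ρ ρ g) e := by
    intro g hg
    let S : Subgroup D :=
      { carrier := {g | Commute (Representation.linHom ρ ρ g) e}
        mul_mem' := fun {a b} ha hb => by
          show Commute (Representation.linHom ρ ρ (a * b)) e
          rw [map_mul]
          exact Commute.mul_left ha hb
        one_mem' := by
          show Commute (Representation.linHom ρ ρ 1) e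
          rw [map_one]
          exact Commute.one_left _
        inv_mem' := fun {a} ha => by
          have ha' : Commute (Representation.linHom ρ ρ a) e := ha
          show Representation.linHom ρ ρ a⁻¹ * e = e * Representation.linHom ρ ρ a⁻¹
          have h1 : Representation.linHom ρ ρ a * Representation.linHom ρ ρ a⁻¹ = 1 := by
            rw [← map_mul, mul_inv_cancel, map_one]
          have h2 : Representation.linHom ρ ρ a⁻¹ * Representation.linHom ρ ρ a = 1 := by
            rw [← map_mul, inv_mul_cancel, map_one]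
          calc Representation.linHom ρ ρ a⁻¹ * e
              = Representation.linHom ρ ρ a⁻¹ * (e *
                (Representation.linHom ρ ρ a * Representation.linHom ρ ρ a⁻¹)) := by
                  rw [h1, mul_one]
            _ = Representation.linHom ρ ρ a⁻¹ * (e * Representation.linHom ρ ρ a) *
                  Representation.linHom ρ ρ a⁻¹ := by simp only [mul_assoc]
            _ = Representation.linHom ρ ρ a⁻¹ * (Representation.linHom ρ ρ a * e) *
                  Representation.linHom ρ ρ a⁻¹ := by rw [ha'.eq]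
            _ = (Representation.linHom ρ ρ a⁻¹ * Representation.linHom ρ ρ a) * e *
                  Representation.linHom ρ ρ a⁻¹ := by simp only [mul_assoc]
            _ = e * Representation.linHom ρ ρ a⁻¹ := by rw [h2, one_mul] }
    have hle : Subgroup.zpowers x ⊔ N₁ ≤ S := by
      refine sup_le ?_ fun g hg => hN₁e g hg
      rw [Subgroup.zpowers_le]
      exact hxe
    rw [hN] at hg
    exact hle hg
  obtain ⟨u, f, huN, hfD, hff, huf⟩ := Summand.exists_summand (Representation.linHom ρ ρ)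
    (Subgroup.zpowers x) (Subgroup.normalizer ((P : Subgroup D) : Set D))
    (Subgroup.mem_zpowers x) le_rfl (by rw [hPx]; exact Subgroup.le_normalizer)
    (by
      intro g hg y hy hyg
      rw [hPx] at hy
      exact EndRep.ti_of_card p P hP g hg y hy hyg) htr hnil2 e hee heN
  have hPN : Subgroup.zpowers x ≤ Subgroup.normalizer ((P : Subgroup D) : Set D) := by
    rw [hPx]; exact Subgroup.le_normalizer
  have hfu : ∀ m : Module.End k V, f ((u : Module.End k (Module.End k V)) m) =
      (u : Module.End k (Module.End k V)) (e m) := by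
    intro m
    exact (congrArg (fun T : Module.End k (Module.End k V) => T m) huf).symm
  let σ : Subrepresentation (Representation.linHom ρ ρ) :=
    { toSubmodule := LinearMap.range f
      apply_mem_toSubmodule := fun g w hw => by
        obtain ⟨m, rfl⟩ := hw
        refine ⟨Representation.linHom ρ ρ g m, ?_⟩
        exact (congrArg (fun T : Module.End k (Module.End k V) => T m) (hfD g).eq).symm }
  have hmem : ∀ m, (u : Module.End k (Module.End k V)) (e m) ∈ σ.toSubmodule := fun m =>
    ⟨(u : Module.End k (Module.End k V)) m, hfu m⟩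
  have hσ : ∀ (g : D) (w : σ.toSubmodule),
      (σ.toRepresentation g w : Module.End k V) = Representation.linHom ρ ρ g w := fun g w => rfl
  have hσΔ : ∀ (w : σ.toSubmodule),
      (((σ.toRepresentation x - 1 : Module.End k σ.toSubmodule) w : σ.toSubmodule) :
        Module.End k V) = (Representation.linHom ρ ρ x - 1 : Module.End k (Module.End k V)) w :=
    fun w => rfl
  have huΔ : ∀ m, (Representation.linHom ρ ρ x - 1 : Module.End k (Module.End k V))
      ((u : Module.End k (Module.End k V)) m) = (u : Module.End k (Module.End k V))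
      ((Representation.linHom ρ ρ x - 1 : Module.End k (Module.End k V)) m) := by
    intro m
    have h1 : Commute (Representation.linHom ρ ρ x - 1 : Module.End k (Module.End k V))
        (u : Module.End k (Module.End k V)) :=
      (huN x (hPN (Subgroup.mem_zpowers x))).sub_left (Commute.one_left _)
    exact congrArg (fun T : Module.End k (Module.End k V) => T m) h1.eq
  let v : σ.toSubmodule := ⟨(u : Module.End k (Module.End k V)) z, by
    have := hmem z
    rwa [hez] at this⟩
  set Δ' : Module.End k σ.toSubmodule := σ.toRepresentation x - 1 with hΔ'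
  set Δ : Module.End k (Module.End k V) := Representation.linHom ρ ρ x - 1 with hΔ
  have hv1 : ((Δ' v : σ.toSubmodule) : Module.End k V) =
      (u : Module.End k (Module.End k V)) (Δ z) := by
    rw [hσΔ]
    exact huΔ z
  have hv2 : (((Δ' ^ 2) v : σ.toSubmodule) : Module.End k V) =
      (u : Module.End k (Module.End k V)) s := by
    rw [sq, Module.End.mul_apply, hσΔ, hv1, huΔ, ← hz, sq, Module.End.mul_apply]
  have hv3 : (((Δ' ^ 3) v : σ.toSubmodule) : Module.End k V) = 0 := by
    rw [pow_succ', Module.End.mul_apply, hσΔ, hv2, huΔ, hxs, map_zero]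
  have hs0 : s ≠ 0 := by
    intro h
    apply hφs
    rw [h, map_zero]
  refine ⟨σ, v, ?_, ?_, ?_, ?_⟩
  · exact Subtype.ext hv3
  · intro h
    have h1 := congrArg Subtype.val h
    rw [hv2] at h1
    apply hs0
    have h2 := congrArg ((u⁻¹ : (Module.End k (Module.End k V))ˣ) : Module.End k (Module.End k V)) h1
    have h3 : ((u⁻¹ : (Module.End k (Module.End k V))ˣ) : Module.End k (Module.End k V))
        ((u : Module.End k (Module.End k V)) s) = s := by
      rw [← Module.End.mul_apply, Units.inv_mul, Module.End.one_apply]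
    rw [h3] at h2
    rw [h2]
    exact map_zero _
  · intro w
    obtain ⟨m, hm⟩ := w.2
    -- `w = u (e m')`
    have h1 : ∃ m', (u : Module.End k (Module.End k V)) (e m') = (w : Module.End k V) := by
      refine ⟨((u⁻¹ : (Module.End k (Module.End k V))ˣ) : Module.End k (Module.End k V)) m, ?_⟩
      rw [← hfu, ← Module.End.mul_apply (u : Module.End k (Module.End k V)), Units.mul_inv,
        Module.End.one_apply]
      exact hm
    obtain ⟨m', hm'⟩ := h1
    have h2 := hespan m'
    rw [Submodule.mem_span_insert] at h2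
    obtain ⟨a, y, hy, h3⟩ := h2
    rw [Submodule.mem_span_pair] at hy
    obtain ⟨b, d, hbd⟩ := hy
    have h4 : w = a • v + (b • Δ' v + d • (Δ' ^ 2) v) := by
      apply Subtype.ext
      rw [Submodule.coe_add, Submodule.coe_add, Submodule.coe_smul, Submodule.coe_smul,
        Submodule.coe_smul, hv1, hv2, ← hm', h3, ← hbd, map_add, map_add, map_smul, map_smul,
        map_smul]
    rw [h4]
    refine Submodule.add_mem _ (Submodule.smul_mem _ _ (Submodule.subset_span (Or.inl rfl)))
      (Submodule.add_mem _ (Submodule.smul_mem _ _ (Submodule.subset_span (Or.inr (Or.inl rfl))))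
        (Submodule.smul_mem _ _ (Submodule.subset_span (Or.inr (Or.inr rfl)))))
  · intro g
    apply Subtype.ext
    rw [hσ, Submodule.coe_smul]
    show Representation.linHom ρ ρ g ((u : Module.End k (Module.End k V)) z) =
      α g⁻¹ • (u : Module.End k (Module.End k V)) z
    have hgN : (g : D) ∈ Subgroup.normalizer ((P : Subgroup D) : Set D) := by
      rw [hN]
      exact (le_sup_right : N₁ ≤ _) g.2
    have h1 := congrArg (fun T : Module.End k (Module.End k V) => T z) (huN g hgN).eq
    have h2 : Representation.linHom ρ ρ g ((u : Module.End k (Module.End k V)) z) =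
      (u : Module.End k (Module.End k V)) (Representation.linHom ρ ρ g z) := h1
    rw [h2, hzα, map_smul]

theorem exists_theta_seven (p : ℕ) [Fact p.Prime] [CharP k p] (ρ : Representation k D V)
    (hρ : Function.Injective ρ) (hp7 : 7 ≤ p) (hdim : Module.finrank k V + 1 < p) (P : Sylow p D)
    (hP : Nat.card P = p) {x : D} (hx : x ∈ (P : Subgroup D)) (hx1 : x ≠ 1)
    {m : ℕ} (hm : (ρ x - 1 : Module.End k V) ^ m = 0) (h2m : 2 * m ≤ p) :
    ∃ θ : D →* Cfsg.isometryGroup k (Cfsg.quadFormOdd 1 k), θ x ≠ 1 := by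
  have hp : p.Prime := Fact.out
  have hPx := ThmC1.zpowers_eq P hP hx hx1
  have hxo : orderOf x = p := orderOf_eq_prime (ThmC1.pow_eq_one_of_mem P hP hx) hx1
  obtain ⟨N₁, hcard, hN₁, hN⟩ := ThmC2.exists_complement P hP hx hx1
  obtain ⟨α, hα⟩ := Triple.exists_alpha (k := k) p hxo N₁ hN₁
  obtain ⟨σ, v, hv3, hv2, hspan, hvα⟩ := exists_sub p ρ hρ (by omega) hdim P hP hx hx1 hm h2m hcard hα hN
  obtain ⟨h2, hx', b, hb⟩ := Three.exists_form_basis p hp7 σ.toRepresentation hxo N₁ hα
    (Subgroup.normalizer ((P : Subgroup D) : Set D)) hN (by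
      intro g hg y hy hyg
      rw [hPx] at hy
      exact EndRep.ti_of_card p P hP g hg y hy hyg) v hv3 hv2 hspan hvα
  obtain ⟨θ, hθ⟩ := Three.exists_hom_of_basis σ.toRepresentation h2 b hb
  exact ⟨θ, fun h => hx' (hθ x h)⟩

/-- If `N_H(P)` centralizes `x` for a subgroup `H` containing `P`, then `H` centralizes `x`. -/
theorem comm_of_sub (p : ℕ) [Fact p.Prime] [CharP k p] (ρ : Representation k D V)
    (hρ : Function.Injective ρ) (P : Sylow p D)
    (hP : Nat.card P = p) {x : D} (hx : x ∈ (P : Subgroup D)) {m : ℕ} (hm : (ρ x - 1 : Module.End k V) ^ m = 0) (h2m : 2 * m ≤ p) (H : Subgroup D)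
    (hPH : (P : Subgroup D) ≤ H)
    (hcomm : ∀ g ∈ H, g ∈ Subgroup.normalizer ((P : Subgroup D) : Set D) → g * x = x * g) :
    ∀ g ∈ H, g * x = x * g := by
  let PH : Sylow p H := P.subtype hPH
  have hPHcard : Nat.card PH = p :=
    (Nat.card_congr (Subgroup.subgroupOfEquivOfLe hPH).toEquiv).trans hP
  have hxH : x ∈ H := hPH hx
  intro g hg
  have h1 := central_of_le p (MonoidHom.comp ρ H.subtype) (hρ.comp H.subtype_injective) PH
    hPHcard (x := ⟨x, hxH⟩) hx (m := m) hm h2m (by
      intro g hgN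
      apply Subtype.ext
      refine hcomm g g.2 ?_
      rw [Subgroup.mem_normalizer_iff_map_conj_eq]
      apply Subgroup.eq_of_le_of_card_ge
      · rintro _ ⟨y, hy, rfl⟩
        have h2 := ((Subgroup.mem_normalizer_iff.1 hgN) ⟨y, hPH hy⟩).1 hy
        exact h2
      · rw [Subgroup.card_map_of_injective (MulEquiv.injective _)]) ⟨g, hg⟩
  exact congrArg Subtype.val h1

/-- If `H` is normal, contains `P` and `N_H(P)` centralizes `x`, then `P` is normal. -/
theorem normal_of_sub (p : ℕ) [Fact p.Prime] [CharP k p] (ρ : Representation k D V)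
    (hρ : Function.Injective ρ) (P : Sylow p D)
    (hP : Nat.card P = p) {x : D} (hx : x ∈ (P : Subgroup D)) (hx1 : x ≠ 1) {m : ℕ} (hm : (ρ x - 1 : Module.End k V) ^ m = 0) (h2m : 2 * m ≤ p) (H : Subgroup D)
    (hHn : H.Normal) (hPH : (P : Subgroup D) ≤ H)
    (hcomm : ∀ g ∈ H, g ∈ Subgroup.normalizer ((P : Subgroup D) : Set D) → g * x = x * g) :
    (P : Subgroup D).Normal := by
  have hcentH := comm_of_sub p ρ hρ P hP hx hm h2m H hPH hcomm
  have hPx := ThmC1.zpowers_eq P hP hx hx1
  apply ThmC.normal_of_conj_mem p P hP hx hx1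
  intro g
  have h1 : g * x * g⁻¹ ∈ H := hHn.conj_mem x (hPH hx) g
  have h2 := hcentH _ h1
  rw [Subgroup.mem_normalizer_iff]
  have h3 : ∀ y ∈ (P : Subgroup D), (g * x * g⁻¹) * y * (g * x * g⁻¹)⁻¹ = y := by
    intro y hy
    rw [← hPx] at hy
    obtain ⟨n, rfl⟩ := hy
    have h4 : Commute (g * x * g⁻¹) (x ^ n) := (show Commute (g * x * g⁻¹) x from h2).zpow_right n
    show g * x * g⁻¹ * x ^ n * (g * x * g⁻¹)⁻¹ = x ^ n
    rw [h4.eq, mul_inv_cancel_right]
  intro y
  constructor
  · intro hy
    rw [h3 y hy]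
    exact hy
  · intro hy
    have h4 := h3 _ hy
    have h5 : g * x * g⁻¹ * y * (g * x * g⁻¹)⁻¹ = y := by
      have h6 := mul_left_cancel (mul_right_cancel h4)
      exact h6
    rwa [h5] at hy

/-- A normal subgroup not containing `x` centralizes `x`. -/
theorem comm_of_normal (p : ℕ) [Fact p.Prime] [CharP k p] (ρ : Representation k D V)
    (hρ : Function.Injective ρ) (P : Sylow p D)
    (hP : Nat.card P = p) {x : D} (hx : x ∈ (P : Subgroup D)) {m : ℕ} (hm : (ρ x - 1 : Module.End k V) ^ m = 0) (h2m : 2 * m ≤ p) (K : Subgroup D) [K.Normal]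
    (hxK : x ∉ K) : ∀ g ∈ K, g * x = x * g := by
  have hx1 : x ≠ 1 := by
    rintro rfl
    exact hxK K.one_mem
  have hPx := ThmC1.zpowers_eq P hP hx hx1
  have hPK : ∀ y ∈ (P : Subgroup D), y ∈ K → y = 1 := by
    intro y hy hyK
    by_contra hy1
    have h1 := ThmC1.zpowers_eq P hP hy hy1
    rw [← h1] at hx
    exact hxK ((Subgroup.zpowers_le.2 hyK) hx)
  intro g hg
  refine comm_of_sub p ρ hρ P hP hx hm h2m (K ⊔ P) le_sup_right ?_ g ((le_sup_left : K ≤ _) hg)
  intro g hg hgN
  have h0 : (g : D) ∈ ((K ⊔ (P : Subgroup D) : Subgroup D) : Set D) := hg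
  rw [Subgroup.normal_mul] at h0
  obtain ⟨c, hc, y, hy, rfl⟩ := h0
  have hc : c ∈ K := hc
  have hy : y ∈ (P : Subgroup D) := hy
  have hyx : y * x = x * y := by
    rw [← hPx] at hy
    obtain ⟨n, rfl⟩ := hy
    exact ((Commute.refl x).zpow_left n).eq
  have hcN : c ∈ Subgroup.normalizer ((P : Subgroup D) : Set D) := by
    have h1 := Subgroup.mul_mem _ hgN (Subgroup.inv_mem _ (Subgroup.le_normalizer hy))
    have h2 : (c * y) * y⁻¹ = c := by group
    rwa [h2] at h1
  have h1 : c * x * c⁻¹ ∈ (P : Subgroup D) := ((Subgroup.mem_normalizer_iff.1 hcN) x).1 hx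
  have h2 : c * x * c⁻¹ * x⁻¹ ∈ K := by
    have h3 : x * c⁻¹ * x⁻¹ ∈ K := ‹K.Normal›.conj_mem _ (K.inv_mem hc) x
    have h4 : c * x * c⁻¹ * x⁻¹ = c * (x * c⁻¹ * x⁻¹) := by group
    rw [h4]
    exact K.mul_mem hc h3
  have h4 := hPK _ ((P : Subgroup D).mul_mem h1 ((P : Subgroup D).inv_mem hx)) h2
  have h5 : c * x = x * c := by
    rw [mul_inv_eq_one, mul_inv_eq_iff_eq_mul] at h4
    exact h4
  show c * y * x = x * (c * y)
  rw [mul_assoc, hyx, ← mul_assoc, h5, mul_assoc]

/-- **Characteristic `p`.** -/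
theorem modular (p : ℕ) [Fact p.Prime] [CharP k p] [IsAlgClosed k] (ρ : Representation k D V)
    (hρ : Function.Injective ρ) (hp7 : 7 ≤ p) (hdim : Module.finrank k V + 1 < p) (P : Sylow p D)
    (hP : Nat.card P = p) (hsq : ¬ p ^ 2 ∣ Nat.card D) {x : D} (hx : x ∈ (P : Subgroup D)) (hx1 : x ≠ 1)
    {m : ℕ} (hm : (ρ x - 1 : Module.End k V) ^ m = 0) (h2m : 2 * m ≤ p)
    (hnn : ¬ (P : Subgroup D).Normal) :
    ∃ (d : ℕ) (A : Finset ℕ) (K : Subgroup D) (_ : K.Normal),
      d ≤ A.card ∧ (∀ a ∈ A, a < p ∧ ∃ g : D, g * x * g⁻¹ = x ^ a) ∧ (∀ g ∈ K, g * x = x * g) ∧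
      ((d = p - 1 ∧ Nonempty (D ⧸ K ≃* Matrix.ProjGenLinGroup (Fin 2) (ZMod p))) ∨
        (2 * d = p - 1 ∧ Nonempty (D ⧸ K ≃* Matrix.ProjectiveSpecialLinearGroup (Fin 2) (ZMod p)))) := by
  classical
  have hp : p.Prime := Fact.out
  obtain ⟨θ, hθ⟩ := exists_theta_seven p ρ hρ hp7 hdim P hP hx hx1 hm h2m
  have hp5 : 5 ≤ p := by omega
  have h2 : (2 : k) ≠ 0 := by
    intro h
    have h1 : ((2 : ℕ) : k) = 0 := by exact_mod_cast h
    rw [CharP.cast_eq_zero_iff k p] at h1
    have := Nat.le_of_dvd (by norm_num) h1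
    omega
  have hxp : x ^ p = 1 := ThmC1.pow_eq_one_of_mem P hP hx
  let φ : D →* ProjectiveSpecialLinearGroup (Fin 2) k := (OrthHom.toPSL h2).comp θ
  have hφx : φ x ≠ 1 := OrthHom.toPSL_ne_one h2 (n := p) (hp.odd_of_ne_two (by omega))
    (by rw [← map_pow, hxp, map_one]) hθ
  let K : Subgroup D := φ.ker
  have hxK : x ∉ K := hφx
  have hKx := comm_of_normal p ρ hρ P hP hx hm h2m K hxK
  -- the quotient
  let ψ : D ⧸ K →* ProjectiveSpecialLinearGroup (Fin 2) k := QuotientGroup.kerLift φ
  have hψ : Function.Injective ψ := QuotientGroup.kerLift_injective φ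
  let _ := act ψ
  have h : Pole p k (D ⧸ K) (OnePoint k) := pole_of_injective p ψ hψ
  set u : D ⧸ K := (x : D ⧸ K) with hu
  have hu1 : u ≠ 1 := by
    intro h1
    exact hxK ((QuotientGroup.eq_one_iff x).1 h1)
  have hup : u ^ p = 1 := by
    rw [hu, ← QuotientGroup.mk_pow, hxp, QuotientGroup.mk_one]
  have hsq' : ¬ p ^ 2 ∣ Nat.card (D ⧸ K) := fun h1 => hsq (h1.trans (Subgroup.card_quotient_dvd_card K))
  obtain ⟨x₀, hx₀⟩ := h.one u hu1 hup
  have hux : u • x₀ = x₀ := (hx₀ x₀).2 rfl
  have hxO : x₀ ∈ Op p (D ⧸ K) (OnePoint k) := ⟨u, hu1, hup, hux⟩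
  by_cases hr : 2 ≤ (Op p (D ⧸ K) (OnePoint k)).ncard
  · obtain ⟨d, hd, hcard, hst, hOp⟩ := Count.exists_d h hp5 hsq' hxO hr
    obtain ⟨A, hA, hAg⟩ := Count.exists_A h hsq' hu1 hup hux hst
    refine ⟨d, A, K, inferInstance, hA, ?_, hKx, Ident.ident h hp5 hsq' hxO hr hd hcard hOp⟩
    intro a ha
    obtain ⟨h1, g, hg⟩ := hAg a ha
    refine ⟨h1, ?_⟩
    obtain ⟨g, rfl⟩ := QuotientGroup.mk_surjective g
    refine ⟨g, ?_⟩
    have h3 : (x ^ a)⁻¹ * (g * x * g⁻¹) ∈ K := by
      rw [← QuotientGroup.eq_one_iff]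
      have h4 : (((x ^ a)⁻¹ * (g * x * g⁻¹) : D) : D ⧸ K) =
        ((x : D ⧸ K) ^ a)⁻¹ * ((g : D ⧸ K) * (x : D ⧸ K) * (g : D ⧸ K)⁻¹) := rfl
      rw [h4, ← hu, hg, inv_mul_cancel]
    set c := (x ^ a)⁻¹ * (g * x * g⁻¹) with hc
    have h4 : g * x * g⁻¹ = x ^ a * c := by rw [hc]; group
    have hcx : Commute c (x ^ a) := (show Commute c x from hKx c h3).pow_right a
    have h5 : c ^ p = 1 := by
      have h6 : (g * x * g⁻¹) ^ p = 1 := by rw [conj_pow, hxp, mul_one, mul_inv_cancel]
      rw [h4, hcx.symm.mul_pow, ← pow_mul, mul_comm a p, pow_mul, hxp, one_pow, one_mul] at h6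
      exact h6
    have h6 : c = 1 := by
      by_contra hc1
      -- then `p` divides the order of `K` and `x ∈ K`
      have h7 : orderOf c = p := orderOf_eq_prime h5 hc1
      have h8 : p ∣ Nat.card K := by
        rw [← h7, ← Subgroup.orderOf_mk c h3]
        exact orderOf_dvd_natCard _
      have h9 : p ∣ Nat.card (D ⧸ K) := by
        rw [← orderOf_eq_prime hup hu1]
        exact orderOf_dvd_natCard _
      apply hsq
      rw [sq, Subgroup.card_eq_card_quotient_mul_card_subgroup K]
      exact mul_dvd_mul h9 h8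
    rw [h4, h6, mul_one]
  · exfalso
    have hn := Count.normal_of_ncard h hsq' hu1 hup hux hr
    apply hnn
    obtain ⟨H, hHn, hPH, hcomm⟩ := ThmC.exists_normal_of_quotient p P hP hx K hxK (by
      intro P' hP'
      have h1 : Subgroup.zpowers u ≤ (P' : Subgroup (D ⧸ K)) := by
        have h2 : IsPGroup p (Subgroup.zpowers u) := by
          rw [IsPGroup.iff_card]
          exact ⟨1, by rw [Nat.card_zpowers, orderOf_eq_prime hup hu1, pow_one]⟩
        have h3 := h2.to_sup_of_normal_left P'.isPGroup'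
        have h4 := P'.is_maximal' h3 le_sup_right
        rw [← h4]
        exact le_sup_left
      have h2 : Subgroup.zpowers u = (P' : Subgroup (D ⧸ K)) := by
        apply Subgroup.eq_of_le_of_card_ge h1
        have h3 : Nat.card (P' : Subgroup (D ⧸ K)) = p := hP'
        rw [h3, Nat.card_zpowers, orderOf_eq_prime hup hu1]
      rw [← h2]
      exact hn)
    exact normal_of_sub p ρ hρ P hP hx hx1 hm h2m H hHn hPH hcomm

end

end Cfsg.Agent.H655.ModGen
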