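import Cfsg.Agent.H912.MultChar
import Cfsg.Agent.H175.BdSL
import Cfsg.Agent.H175.BdSU
import Cfsg.Agent.H203.BdSL2

/-!
# Faithful representations of perfect groups and the degree bounds `Bd` (helper655)

`exists_PR` : a perfect group `M` with a faithful complex representation of degree `n` and `M / Z(M) ≅ T`, the multiplier
of `T` of order prime to `r`: `PR ℂ n r T`.
-/

set_option autoImplicit false
set_option linter.unusedSectionVars false

namespace Cfsg.Agent.H655.PRUse

open Subgroup Cfsg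
open Cfsg.Agent.H912.Bd

universe u v

theorem exists_PR {M : Type u} [Group M] [Finite M] (hperf : commutator M = ⊤) {n : ℕ}
    (ρ : Representation ℂ M (Fin n → ℂ)) (hρ : Function.Injective ρ) {r : ℕ} {T : Type v} [Group T]
    (hT : NoR.{0} r T) (e : M ⧸ center M ≃* T) : PR ℂ n r T := by
  classical
  let R : M →* Matrix (Fin n) (Fin n) ℂ :=
    ((LinearMap.toMatrixAlgEquiv' : _ ≃ₐ[ℂ] _).toMulEquiv.toMonoidHom).comp ρ
  have hR : Function.Injective R := (LinearMap.toMatrixAlgEquiv').injective.comp hρ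
  let σ : M →* Matrix.GeneralLinearGroup (Fin n) ℂ := R.toHomUnits
  have hσ : Function.Injective σ := by
    intro a b hab
    exact hR (congrArg (fun t : Matrix.GeneralLinearGroup (Fin n) ℂ => (t : Matrix (Fin n) (Fin n) ℂ)) hab)
  let L : Subgroup (Matrix.GeneralLinearGroup (Fin n) ℂ) := σ.range
  let e' : M ≃* L := MonoidHom.ofInjective hσ
  let π : L →* T := (e.toMonoidHom.comp (QuotientGroup.mk' (center M))).comp e'.symm.toMonoidHom
  have hπs : Function.Surjective π :=
    (e.surjective.comp (QuotientGroup.mk'_surjective _)).comp e'.symm.surjective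
  have hker : ∀ x : L, π x = 1 → ∀ y, x * y = y * x := by
    intro x hx y
    have h1 : e ((QuotientGroup.mk' (center M)) (e'.symm x)) = 1 := hx
    rw [MulEquiv.map_eq_one_iff, QuotientGroup.mk'_apply, QuotientGroup.eq_one_iff] at h1
    have h2 := mem_center_iff.1 h1 (e'.symm y)
    apply e'.symm.injective
    rw [map_mul, map_mul]
    exact h2.symm
  have hperfL : commutator L = ⊤ := by
    have h1 : (commutator M).map e'.toMonoidHom = commutator L := by
      rw [commutator_def, commutator_def, Subgroup.map_commutator, ← MonoidHom.range_eq_map]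
      have h2 : e'.toMonoidHom.range = ⊤ := MonoidHom.range_eq_top.2 e'.surjective
      rw [h2]
    rw [← h1, hperf, ← MonoidHom.range_eq_map]
    exact MonoidHom.range_eq_top.2 e'.surjective
  refine ⟨L, inferInstance, π, L.subtype, hπs, hker, hT L hperfL π hπs ?_, ?_⟩
  · intro x hx
    rw [mem_center_iff]
    intro y
    exact (hker x (MonoidHom.mem_ker.1 hx) y).symm
  · intro x hx
    have h1 : x = 1 := L.subtype_injective (MonoidHom.mem_ker.1 hx)
    rw [h1]
    exact one_mem _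

/-! ### `PSL_2(q)` -/

variable {M : Type u} [Group M] [Finite M] {n : ℕ}

theorem psl2_le (hperf : commutator M = ⊤) (ρ : Representation ℂ M (Fin n → ℂ)) (hρ : Function.Injective ρ)
    {F : Type} [Field F] [Fintype F] {r : ℕ} (hr : r.Prime) (hch : CharP F r) (hF : 4 ≤ Fintype.card F)
    (h4 : Fintype.card F ≠ 4) (h9 : Fintype.card F ≠ 9)
    (e : Nonempty (M ⧸ center M ≃* Matrix.ProjectiveSpecialLinearGroup (Fin 2) F)) :
    (Fintype.card F - 1) / Nat.gcd 2 (Fintype.card F - 1) ≤ n := by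
  obtain ⟨e⟩ := e
  have : Fact r.Prime := ⟨hr⟩
  have hrC : (r : ℂ) ≠ 0 := Nat.cast_ne_zero.2 hr.ne_zero
  have hexc : ((2 : ℕ), Fintype.card F) ∉ ({(2, 4), (2, 9), (3, 2), (3, 4), (4, 2)} : Set (ℕ × ℕ)) := by
    simp only [Set.mem_insert_iff, Set.mem_singleton_iff, Prod.mk.injEq]
    omega
  have hNoR : NoR.{0} r (Matrix.ProjectiveSpecialLinearGroup (Fin 2) F) :=
    NoR.of_cyclic (S2086.result (F := F) rfl 2 le_rfl (fun _ => hF) hexc)
      (coprime_gcd_sub hr Fintype.card_pos (char_dvd_card F))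
  have hPR := exists_PR hperf ρ hρ hNoR e
  refine H203.BdSL2.bd_of_sl2 (F := ℂ) (K := F) hr rfl hrC (QuotientGroup.mk' _) ?_ n hPR
  rw [QuotientGroup.ker_mk']

theorem psl3_le (hperf : commutator M = ⊤) (ρ : Representation ℂ M (Fin n → ℂ)) (hρ : Function.Injective ρ)
    {F : Type} [Field F] [Fintype F] {r : ℕ} (hr : r.Prime) (hch : CharP F r)
    (h4 : Fintype.card F ≠ 4) (h9 : Fintype.card F ≠ 2)
    (e : Nonempty (M ⧸ center M ≃* Matrix.ProjectiveSpecialLinearGroup (Fin 3) F)) :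
    Fintype.card F ^ 2 - 1 ≤ n := by
  obtain ⟨e⟩ := e
  have : Fact r.Prime := ⟨hr⟩
  have hrC : (r : ℂ) ≠ 0 := Nat.cast_ne_zero.2 hr.ne_zero
  have hexc : ((3 : ℕ), Fintype.card F) ∉ ({(2, 4), (2, 9), (3, 2), (3, 4), (4, 2)} : Set (ℕ × ℕ)) := by
    simp only [Set.mem_insert_iff, Set.mem_singleton_iff, Prod.mk.injEq]
    omega
  have hNoR : NoR.{0} r (Matrix.ProjectiveSpecialLinearGroup (Fin 3) F) :=
    NoR.of_cyclic (S2086.result (F := F) rfl 3 (by norm_num) (fun h => absurd h (by norm_num)) hexc)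
      (coprime_gcd_sub hr Fintype.card_pos (char_dvd_card F))
  have hPR := exists_PR hperf ρ hρ hNoR e
  exact H175.BdSL.bd_psl (F := ℂ) (K := F) hr rfl le_rfl hrC (MulEquiv.refl _) n hPR

theorem psu3_le (hperf : commutator M = ⊤) (ρ : Representation ℂ M (Fin n → ℂ)) (hρ : Function.Injective ρ)
    {F : Type} [Field F] [Fintype F] {r q : ℕ} (hr : r.Prime) (hch : CharP F r) (hF : Fintype.card F = q ^ 2)
    (hq3 : 3 ≤ q) (e : Nonempty (M ⧸ center M ≃* PSU 3 F q)) : (q - 1) * q ≤ n := by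
  obtain ⟨e⟩ := e
  have : Fact r.Prime := ⟨hr⟩
  have hrC : (r : ℂ) ≠ 0 := Nat.cast_ne_zero.2 hr.ne_zero
  have hd : r ∣ q := by
    have h1 : r ∣ Fintype.card F := char_dvd_card F
    rw [hF] at h1
    exact hr.dvd_of_dvd_pow h1
  have hexc : ((3 : ℕ), q) ∉ ({(4, 2), (4, 3), (6, 2)} : Set (ℕ × ℕ)) := by
    simp only [Set.mem_insert_iff, Set.mem_singleton_iff, Prod.mk.injEq]
    omega
  have hNoR : NoR.{0} r (PSU 3 F q) :=
    NoR.of_cyclic (S2089.result (F := F) 3 q hF le_rfl (by omega) hexc) (coprime_gcd_add hr hd)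
  have hPR := exists_PR hperf ρ hρ hNoR e
  have h1 := H175.BdSU.bd_psu (F := ℂ) hr hF le_rfl hrC (MulEquiv.refl _) n hPR
  rwa [show 3 - 2 = 1 from rfl, pow_one] at h1

end Cfsg.Agent.H655.PRUse
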