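import Mathlib
import Cfsg.Agent.LieRecognition.FT61.Red
import Cfsg.Agent.LieRecognition.FT61.ThmC1

/-!
# Reduction modulo `p` and the minimal polynomial of an element of order `p` (helper655)

`exists_modular` : a faithful complex representation `σ` of a group with a non-normal Sylow `p`-subgroup of order `p`
has a faithful reduction `ρ` in characteristic `p`, such that `(ρ x - 1) ^ |S| = 0` whenever `∏_{c ∈ S} (σ x - c) = 0`
for a finite set `S` of `p`-th roots of unity.
-/

set_option autoImplicit false

namespace Cfsg.Agent.H655.RedPoly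

open Matrix IsLocalRing Polynomial
open Cfsg.Agent.LieRecognition.FT61 Cfsg.Agent.LieRecognition.FT61.Red

universe u v

section

variable {D : Type v} [Group D] {K : Type u} [Field K] {m : ℕ} (σ : D →* GL (Fin m) K)
  (B : ValuationSubring K)

theorem aeval_latticeRep (g : D) (q : B[X]) (v : lattice σ B) :
    ((aeval (latticeRep σ B g) q v : lattice σ B) : Fin m → K) =
      (aeval ((σ g : GL (Fin m) K) : Matrix (Fin m) (Fin m) K) (q.map (algebraMap B K))).mulVec (v : Fin m → K) := by
  induction q using Polynomial.induction_on' with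
  | add p q hp hq =>
    rw [map_add, LinearMap.add_apply, Submodule.coe_add, hp, hq, Polynomial.map_add, map_add, Matrix.add_mulVec]
  | monomial n a =>
    rw [Polynomial.map_monomial, aeval_monomial, aeval_monomial, ← Matrix.mulVec_mulVec]
    have h1 : ∀ n : ℕ, (((latticeRep σ B g ^ n) v : lattice σ B) : Fin m → K) =
        (((σ g : GL (Fin m) K) : Matrix (Fin m) (Fin m) K) ^ n).mulVec (v : Fin m → K) := by
      intro n
      induction n with
      | zero => simp
      | succ n ih => rw [pow_succ', Module.End.mul_apply, latticeRep_apply, ih, pow_succ', Matrix.mulVec_mulVec]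
    rw [Module.End.mul_apply, Module.algebraMap_end_apply, Submodule.coe_smul, h1]
    have h2 : ∀ w : Fin m → K, ((algebraMap K (Matrix (Fin m) (Fin m) K)) (algebraMap B K a)).mulVec w = a • w := by
      intro w
      rw [Algebra.algebraMap_eq_smul_one, Matrix.smul_mulVec, Matrix.one_mulVec]
      rfl
    rw [h2]

end

theorem exists_reduction_poly {D : Type v} [Group D] [Finite D] {K : Type u} [Field K] [CharZero K]
    (p : ℕ) [Fact p.Prime] {m : ℕ} (σ : D →* GL (Fin m) K) :
    ∃ (k : Type u) (_ : Field k) (_ : CharP k p) (τ : D →* GL (Fin m) k),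
      (∀ g : D, ¬ p ∣ orderOf g → τ g = 1 → σ g = 1) ∧
      ∀ (x : D) (S : Finset K), (∀ c ∈ S, c ^ p = 1) →
        aeval ((σ x : GL (Fin m) K) : Matrix (Fin m) (Fin m) K) (∏ c ∈ S, (X - C c)) = 0 →
        (((τ x : GL (Fin m) k) : Matrix (Fin m) (Fin m) k) - 1) ^ S.card = 0 := by
  classical
  have hpp : p.Prime := Fact.out
  obtain ⟨B, hB⟩ := exists_valuationSubring K p
  have hp : (p : B) ∈ maximalIdeal B := by
    rw [IsLocalRing.mem_maximalIdeal, mem_nonunits_iff]
    have := (ValuationSubring.coe_mem_nonunits_iff (A := B) (a := (p : B))).1 (by simpa using hB)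
    exact this
  have hchar : CharP (ResidueField B) p := by
    refine (CharP.charP_iff_prime_eq_zero (Fact.out : p.Prime)).2 ?_
    have := (residue_eq_zero_iff (R := B) (p : B)).2 hp
    simpa using this
  obtain ⟨b⟩ := exists_basis_lattice σ B
  let toMA : Module.End B (lattice σ B) ≃ₐ[B] Matrix (Fin m) (Fin m) B := LinearMap.toMatrixAlgEquiv b
  let toM : Module.End B (lattice σ B) →* Matrix (Fin m) (Fin m) B :=
    (LinearMap.toMatrixAlgEquiv b : _ ≃ₐ[B] _).toMulEquiv.toMonoidHom
  let f : D →* Matrix (Fin m) (Fin m) B := toM.comp (latticeRep σ B)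
  let F : D →* Matrix (Fin m) (Fin m) (ResidueField B) :=
    ((residue B).mapMatrix : _ →+* Matrix (Fin m) (Fin m) (ResidueField B)).toMonoidHom.comp f
  refine ⟨ResidueField B, inferInstance, inferInstance, F.toHomUnits, ?_, ?_⟩
  · intro g hg h1
    have h2 : F g = 1 := by
      have := congrArg Units.val h1
      simpa using this
    have h3 : f g = 1 := by
      refine eq_one_of_map_residue_eq_one p (f g) (orderOf g) hg ?_ h2
      rw [← map_pow, pow_orderOf_eq_one, map_one]
    have h4 : latticeRep σ B g = 1 := by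
      apply (LinearMap.toMatrixAlgEquiv b).injective
      rw [map_one]
      exact h3
    exact eq_one_of_latticeRep_eq_one σ B g h4
  · intro x S hS hx
    -- the roots of unity lie in `B`
    have hmem : ∀ c ∈ S, c ∈ B := by
      intro c hc
      rcases B.mem_or_inv_mem c with h | h
      · exact h
      · have h1 : c = (c⁻¹) ^ (p - 1) := by
          have h2 : c ≠ 0 := by
            rintro rfl
            have := hS 0 hc
            rw [zero_pow hpp.ne_zero] at this
            exact zero_ne_one this
          have h3 : c ^ (p - 1) * c = 1 := by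
            rw [← pow_succ, Nat.sub_add_cancel hpp.one_le, hS c hc]
          rw [inv_pow]
          exact eq_inv_of_mul_eq_one_right h3
        rw [h1]
        exact pow_mem h _
    let c' : S → B := fun c => ⟨c.1, hmem c.1 c.2⟩
    let q : B[X] := ∏ c : S, (X - C (c' c))
    have hq : q.map (algebraMap B K) = ∏ c ∈ S, (X - C c) := by
      rw [← Finset.prod_coe_sort]
      show (∏ c : S, (X - C (c' c)) : B[X]).map (algebraMap B K) = _
      rw [Polynomial.map_prod]
      refine Finset.prod_congr rfl fun c _ => ?_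
      rw [Polynomial.map_sub, Polynomial.map_X, Polynomial.map_C]
      rfl
    have h1 : aeval (latticeRep σ B x) q = 0 := by
      apply LinearMap.ext
      intro v
      apply Subtype.ext
      rw [aeval_latticeRep, hq, hx, Matrix.zero_mulVec]
      rfl
    have h2 : aeval (f x) q = 0 := by
      have h3 : f x = toMA (latticeRep σ B x) := rfl
      rw [h3]
      have h4 := Polynomial.aeval_algHom_apply (toMA : Module.End B (lattice σ B) →ₐ[B] Matrix (Fin m) (Fin m) B)
        (latticeRep σ B x) q
      have h5 : aeval (toMA (latticeRep σ B x)) q = toMA (aeval (latticeRep σ B x) q) := h4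
      rw [h5, h1, map_zero]
    -- reduce
    have h3 : q.map (residue B) = (X - 1) ^ S.card := by
      show (∏ c : S, (X - C (c' c)) : B[X]).map (residue B) = _
      rw [Polynomial.map_prod, Finset.prod_congr rfl (g := fun _ => (X - 1 : (ResidueField B)[X]))]
      · rw [Finset.prod_const, Finset.card_univ, Fintype.card_coe]
      · intro c _
        rw [Polynomial.map_sub, Polynomial.map_X, Polynomial.map_C]
        have h4 : residue B (c' c) = 1 := by
          have h5 : (residue B (c' c)) ^ p = 1 := by
            rw [← map_pow]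
            have : (c' c) ^ p = 1 := Subtype.ext (hS c.1 c.2)
            rw [this, map_one]
          have h6 : (residue B (c' c) - 1) ^ p = 0 := by rw [sub_pow_char, h5, one_pow, sub_self]
          exact sub_eq_zero.1 (pow_eq_zero_iff hpp.ne_zero |>.1 h6)
        rw [h4, map_one]
    have h4 : F x = (residue B).mapMatrix (f x) := rfl
    have h5 : ∀ r : B[X], (residue B).mapMatrix (aeval (f x) r) = aeval (F x) (r.map (residue B)) := by
      intro r
      rw [h4]
      induction r using Polynomial.induction_on' with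
      | add a b ha hb => rw [map_add, map_add, ha, hb, Polynomial.map_add, map_add]
      | monomial n a =>
        rw [Polynomial.map_monomial, aeval_monomial, aeval_monomial, map_mul, map_pow]
        congr 1
        rw [Matrix.algebraMap_eq_diagonal, Matrix.algebraMap_eq_diagonal]
        ext i j
        simp only [RingHom.mapMatrix_apply, Matrix.map_apply, Matrix.diagonal_apply]
        split_ifs <;> simp
    have h6 := h5 q
    rw [h2, map_zero, h3, map_pow, map_sub, aeval_X, map_one] at h6
    exact h6.symm

/-- **Reduction modulo `p`.** -/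
theorem exists_modular {G : Type*} [Group G] [Finite G] (p : ℕ) [Fact p.Prime] {n : ℕ}
    (σ : Representation ℂ G (Fin n → ℂ)) (hσ : Function.Injective σ) (P : Sylow p G) (hP : Nat.card P = p)
    (hnn : ¬ (P : Subgroup G).Normal) :
    ∃ (K : Type) (_ : Field K) (_ : CharP K p) (_ : IsAlgClosed K) (ρ : Representation K G (Fin n → K)),
      Function.Injective ρ ∧ ∀ (x : G) (S : Finset ℂ), (∀ c ∈ S, c ^ p = 1) →
        aeval (σ x) (∏ c ∈ S, (X - C c)) = 0 → (ρ x - 1 : Module.End K (Fin n → K)) ^ S.card = 0 := by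
  classical
  have hp : p.Prime := Fact.out
  let M : G →* Matrix (Fin n) (Fin n) ℂ :=
    ((LinearMap.toMatrixAlgEquiv' : _ ≃ₐ[ℂ] _).toMulEquiv.toMonoidHom).comp σ
  have hM : Function.Injective M := (LinearMap.toMatrixAlgEquiv').injective.comp hσ
  let σ' : G →* GL (Fin n) ℂ := M.toHomUnits
  have hσ' : Function.Injective σ' := by
    intro a b hab
    exact hM (congrArg (fun t : GL (Fin n) ℂ => (t : Matrix (Fin n) (Fin n) ℂ)) hab)
  obtain ⟨k, _, _, τ, hτ, hpoly⟩ := exists_reduction_poly p σ'
  -- the kernel of `τ` is a `p`-group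
  have hker : IsPGroup p τ.ker := by
    rw [IsPGroup.iff_orderOf]
    intro g
    obtain ⟨m, r, hr, hmr⟩ := Nat.exists_eq_pow_mul_and_not_dvd (orderOf_pos g).ne' p hp.ne_one
    refine ⟨m, ?_⟩
    have h1 : orderOf (g ^ p ^ m) = r := by
      rw [orderOf_pow' g (pow_ne_zero m hp.ne_zero), hmr, Nat.gcd_mul_right_left]
      exact Nat.mul_div_cancel_left r (pow_pos hp.pos m)
    have h2 : σ' ((g ^ p ^ m : τ.ker) : G) = 1 := by
      apply hτ
      · rw [Subgroup.orderOf_coe, h1]
        exact hr
      · exact (g ^ p ^ m).2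
    have h3 : ((g ^ p ^ m : τ.ker) : G) = 1 := hσ' (by rw [h2, map_one])
    have h4 : g ^ p ^ m = 1 := Subtype.ext h3
    have h5 := orderOf_dvd_of_pow_eq_one h4
    have h6 : r ∣ 1 := by
      rw [h4, orderOf_one] at h1
      rw [h1]
    rw [hmr, Nat.dvd_one.1 h6, mul_one]
  have hinj : Function.Injective τ := by
    rw [← MonoidHom.ker_eq_bot_iff]
    by_contra hne
    apply hnn
    have h1 : τ.ker ≤ (P : Subgroup G) := by
      have h3 := hker.to_sup_of_normal_left P.isPGroup'
      have h4 := P.is_maximal' h3 le_sup_right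
      rw [← h4]
      exact le_sup_left
    have h2 : τ.ker = (P : Subgroup G) := by
      apply Subgroup.eq_of_le_of_card_ge h1
      have h3 : Nat.card (P : Subgroup G) = p := hP
      rw [h3]
      obtain ⟨m, hm⟩ := IsPGroup.iff_card.1 hker
      rw [hm]
      have h4 : m ≠ 0 := by
        rintro rfl
        rw [pow_zero] at hm
        exact hne (Subgroup.eq_bot_of_card_eq _ hm)
      calc p = p ^ 1 := (pow_one p).symm
        _ ≤ p ^ m := Nat.pow_le_pow_right hp.pos (Nat.one_le_iff_ne_zero.2 h4)
    rw [← h2]
    infer_instance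
  let K := AlgebraicClosure k
  let f : G →* Matrix (Fin n) (Fin n) K :=
    (((algebraMap k K).mapMatrix : _ →+* Matrix (Fin n) (Fin n) K).toMonoidHom).comp
      ((Units.coeHom (Matrix (Fin n) (Fin n) k)).comp τ)
  have hf : Function.Injective f := by
    intro a b hab
    apply hinj
    apply Units.ext
    exact Matrix.map_injective (algebraMap k K).injective hab
  have hcp : CharP K p := charP_of_injective_algebraMap (algebraMap k K).injective p
  let ρ : Representation K G (Fin n → K) :=
    ((LinearMap.toMatrixAlgEquiv' : _ ≃ₐ[K] _).symm.toMulEquiv.toMonoidHom).comp f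
  refine ⟨K, inferInstance, hcp, inferInstance, ρ,
    (LinearMap.toMatrixAlgEquiv' : _ ≃ₐ[K] _).symm.injective.comp hf, ?_⟩
  intro x S hS hx
  have h1 : aeval ((σ' x : GL (Fin n) ℂ) : Matrix (Fin n) (Fin n) ℂ) (∏ c ∈ S, (X - C c)) = 0 := by
    have h3 : ((σ' x : GL (Fin n) ℂ) : Matrix (Fin n) (Fin n) ℂ) = LinearMap.toMatrixAlgEquiv' (σ x) := rfl
    rw [h3]
    have h4 := Polynomial.aeval_algHom_apply ((LinearMap.toMatrixAlgEquiv' :
      ((Fin n → ℂ) →ₗ[ℂ] (Fin n → ℂ)) ≃ₐ[ℂ] Matrix (Fin n) (Fin n) ℂ) :
      ((Fin n → ℂ) →ₗ[ℂ] (Fin n → ℂ)) →ₐ[ℂ] Matrix (Fin n) (Fin n) ℂ) (σ x) (∏ c ∈ S, (X - C c))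
    have h5 : aeval (LinearMap.toMatrixAlgEquiv' (σ x)) (∏ c ∈ S, (X - C c)) =
      LinearMap.toMatrixAlgEquiv' (aeval (σ x) (∏ c ∈ S, (X - C c))) := h4
    rw [h5, hx, map_zero]
  have h2 := hpoly x S hS h1
  have h3 : (f x - 1) ^ S.card = 0 := by
    have h4 : f x - 1 = (algebraMap k K).mapMatrix (((τ x : GL (Fin n) k) : Matrix (Fin n) (Fin n) k) - 1) := by
      rw [map_sub, map_one]
      rfl
    rw [h4, ← map_pow, h2, map_zero]
  have h4 : (ρ x - 1 : Module.End K (Fin n → K)) = (LinearMap.toMatrixAlgEquiv' : _ ≃ₐ[K] _).symm (f x - 1) := by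
    rw [map_sub, map_one]
    rfl
  rw [h4, ← map_pow, h3, map_zero]

end Cfsg.Agent.H655.RedPoly
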