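import Mathlib

/-!
# Skew-symmetric matrices and the nilpotent shift (helper655)

`J` is the shift matrix of size `n = (p + 1) / 2` over a field of characteristic `p`, `D A = J A + A Jᵀ` on the space
`W` of skew-symmetric matrices. We show `D ^ (2 n - 2) = 0` and that there is a Jordan block of `D` of length between
`2` and `n - 1`.
-/

set_option autoImplicit false
set_option linter.unusedSectionVars false

namespace Cfsg.Agent.H655.Skew

open Matrix Finset

variable {k : Type*} [Field k] {n : ℕ}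

/-- The shift. -/
def shift (k : Type*) [Field k] (n : ℕ) : Matrix (Fin n) (Fin n) k :=
  Matrix.of fun i j => if (i : ℕ) = j + 1 then 1 else 0

theorem shift_apply (i j : Fin n) : shift k n i j = if (i : ℕ) = j + 1 then 1 else 0 := rfl

theorem shift_pow (a : ℕ) (i j : Fin n) : (shift k n ^ a) i j = if (i : ℕ) = j + a then 1 else 0 := by
  induction a generalizing i j with
  | zero =>
    rw [pow_zero, Matrix.one_apply, add_zero]
    simp only [Fin.ext_iff]
  | succ a ih =>
    rw [pow_succ', Matrix.mul_apply]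
    simp only [shift_apply, ih]
    by_cases hi : (i : ℕ) = 0
    · rw [Finset.sum_eq_zero, if_neg (by omega)]
      intro l _
      rw [if_neg (by omega), zero_mul]
    · have hi2 := i.2
      rw [Finset.sum_eq_single (⟨i - 1, by omega⟩ : Fin n)]
      · rw [if_pos (by simp only; omega), one_mul]
        by_cases h : (i : ℕ) = j + (a + 1)
        · rw [if_pos h, if_pos (by simp only; omega)]
        · rw [if_neg h, if_neg (by simp only; omega)]
      · intro l _ hl
        rw [if_neg, zero_mul]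
        intro h
        apply hl
        apply Fin.ext
        simp only
        omega
      · intro h
        exact absurd (Finset.mem_univ _) h

/-- Extension of a matrix by zero. -/
def ex (A : Matrix (Fin n) (Fin n) k) (i j : ℕ) : k := if h : i < n ∧ j < n then A ⟨i, h.1⟩ ⟨j, h.2⟩ else 0

theorem ex_apply (A : Matrix (Fin n) (Fin n) k) (i j : Fin n) : ex A i j = A i j := by
  rw [ex, dif_pos ⟨i.2, j.2⟩]

theorem ex_transpose (A : Matrix (Fin n) (Fin n) k) (i j : ℕ) : ex Aᵀ i j = ex A j i := by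
  rw [ex, ex]
  by_cases h : i < n ∧ j < n
  · rw [dif_pos h, dif_pos h.symm]
    rfl
  · rw [dif_neg h, dif_neg (fun h' => h h'.symm)]

theorem shift_mul (A : Matrix (Fin n) (Fin n) k) (a : ℕ) (i j : Fin n) :
    (shift k n ^ a * A) i j = if a ≤ (i : ℕ) then ex A (i - a) j else 0 := by
  rw [Matrix.mul_apply]
  simp only [shift_pow]
  have hi2 := i.2
  split_ifs with h
  · rw [Finset.sum_eq_single (⟨i - a, by omega⟩ : Fin n)]
    · rw [if_pos (by simp only; omega), one_mul, ex, dif_pos ⟨by omega, j.2⟩]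
    · intro l _ hl
      rw [if_neg, zero_mul]
      intro h
      apply hl
      apply Fin.ext
      simp only
      omega
    · intro h
      exact absurd (Finset.mem_univ _) h
  · rw [Finset.sum_eq_zero]
    intro l _
    rw [if_neg (by omega), zero_mul]

theorem mul_shift (A : Matrix (Fin n) (Fin n) k) (b : ℕ) (i j : Fin n) :
    (A * (shift k n)ᵀ ^ b) i j = if b ≤ (j : ℕ) then ex A i (j - b) else 0 := by
  have h1 : A * (shift k n)ᵀ ^ b = (shift k n ^ b * Aᵀ)ᵀ := by
    rw [Matrix.transpose_mul, Matrix.transpose_transpose, Matrix.transpose_pow]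
  rw [h1, Matrix.transpose_apply, shift_mul, ex_transpose]

theorem ex_mul_shift (A : Matrix (Fin n) (Fin n) k) (b i j : ℕ) (hi : i < n) (hj : j < n) :
    ex (A * (shift k n)ᵀ ^ b) i j = if b ≤ j then ex A i (j - b) else 0 := by
  rw [ex, dif_pos ⟨hi, hj⟩, mul_shift]

/-- The operator `A ↦ J A + A Jᵀ`. -/
def D (k : Type*) [Field k] (n : ℕ) : Module.End k (Matrix (Fin n) (Fin n) k) :=
  LinearMap.mulLeft k (shift k n) + LinearMap.mulRight k (shift k n)ᵀ

theorem D_apply (A : Matrix (Fin n) (Fin n) k) : D k n A = shift k n * A + A * (shift k n)ᵀ := rfl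

theorem D_pow (A : Matrix (Fin n) (Fin n) k) (m : ℕ) (i j : Fin n) :
    ((D k n ^ m) A) i j = ∑ a ∈ range (m + 1), (m.choose a : k) *
      (if a ≤ (i : ℕ) ∧ m - a ≤ (j : ℕ) then ex A (i - a) (j - (m - a)) else 0) := by
  have hc : Commute (LinearMap.mulLeft k (shift k n)) (LinearMap.mulRight k (shift k n)ᵀ) :=
    LinearMap.commute_mulLeft_right (R := k) (shift k n) (shift k n)ᵀ
  rw [D, hc.add_pow, LinearMap.sum_apply, Matrix.sum_apply]
  refine Finset.sum_congr rfl fun a _ => ?_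
  rw [LinearMap.pow_mulLeft, LinearMap.pow_mulRight]
  have h1 : ((LinearMap.mulLeft k (shift k n ^ a) * LinearMap.mulRight k ((shift k n)ᵀ ^ (m - a))) *
      (m.choose a : Module.End k (Matrix (Fin n) (Fin n) k))) A =
      (m.choose a : k) • (shift k n ^ a * (A * (shift k n)ᵀ ^ (m - a))) := by
    rw [Module.End.mul_apply, Module.End.natCast_apply, Module.End.mul_apply, LinearMap.mulRight_apply,
      LinearMap.mulLeft_apply, ← Nat.cast_smul_eq_nsmul k, Matrix.smul_mul, Matrix.mul_smul]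
  rw [h1, Matrix.smul_apply, shift_mul, smul_eq_mul]
  congr 1
  by_cases h2 : a ≤ (i : ℕ)
  · have hi := i.2
    rw [if_pos h2, ex_mul_shift _ _ _ _ (by omega) j.2]
    by_cases h3 : m - a ≤ (j : ℕ)
    · rw [if_pos h3, if_pos ⟨h2, h3⟩]
    · rw [if_neg h3, if_neg (fun h => h3 h.2)]
  · rw [if_neg h2, if_neg (fun h => h2 h.1)]

/-- The skew-symmetric matrices. -/
def W (k : Type*) [Field k] (n : ℕ) : Submodule k (Matrix (Fin n) (Fin n) k) where
  carrier := {A | Aᵀ = -A}
  add_mem' {a b} ha hb := by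
    show (a + b)ᵀ = -(a + b)
    rw [Matrix.transpose_add, show aᵀ = -a from ha, show bᵀ = -b from hb, neg_add]
  zero_mem' := by
    show (0 : Matrix (Fin n) (Fin n) k)ᵀ = -0
    rw [Matrix.transpose_zero, neg_zero]
  smul_mem' c a ha := by
    show (c • a)ᵀ = -(c • a)
    rw [Matrix.transpose_smul, show aᵀ = -a from ha, smul_neg]

theorem mem_W {A : Matrix (Fin n) (Fin n) k} : A ∈ W k n ↔ Aᵀ = -A := Iff.rfl

theorem apply_of_mem {A : Matrix (Fin n) (Fin n) k} (h : A ∈ W k n) (i j : Fin n) : A j i = -A i j := by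
  have h1 := congrFun (congrFun (mem_W.1 h) i) j
  exact h1

theorem ex_of_mem {A : Matrix (Fin n) (Fin n) k} (h : A ∈ W k n) (i j : ℕ) : ex A j i = -ex A i j := by
  rw [ex, ex]
  by_cases h1 : i < n ∧ j < n
  · rw [dif_pos h1, dif_pos h1.symm]
    exact apply_of_mem h _ _
  · rw [dif_neg h1, dif_neg (fun h' => h1 h'.symm), neg_zero]

theorem ex_self {A : Matrix (Fin n) (Fin n) k} (h2 : (2 : k) ≠ 0) (h : A ∈ W k n) (i : ℕ) : ex A i i = 0 := by
  have h1 := ex_of_mem h i i
  have h3 : (2 : k) * ex A i i = 0 := by linear_combination h1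
  exact (mul_eq_zero.1 h3).resolve_left h2

theorem D_mem {A : Matrix (Fin n) (Fin n) k} (h : A ∈ W k n) : D k n A ∈ W k n := by
  rw [mem_W, D_apply, Matrix.transpose_add, Matrix.transpose_mul, Matrix.transpose_mul, Matrix.transpose_transpose,
    mem_W.1 h, Matrix.neg_mul, Matrix.mul_neg]
  abel

/-- `D ^ (2 n - 2) = 0` on skew-symmetric matrices. -/
theorem D_pow_eq_zero (h2 : (2 : k) ≠ 0) {A : Matrix (Fin n) (Fin n) k} (h : A ∈ W k n) :
    (D k n ^ (2 * n - 2)) A = 0 := by
  ext i j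
  rw [D_pow, Matrix.zero_apply]
  apply Finset.sum_eq_zero
  intro a _
  have hi := i.2
  have hj := j.2
  split_ifs with h3
  · obtain ⟨h3, h4⟩ := h3
    have h5 : (i : ℕ) - a = 0 := by omega
    have h6 : (j : ℕ) - (2 * n - 2 - a) = 0 := by omega
    rw [h5, h6, ex_self h2 h, mul_zero]
  · rw [mul_zero]

theorem D_entry (A : Matrix (Fin n) (Fin n) k) (i j : Fin n) :
    (D k n A) i j = (if 1 ≤ (i : ℕ) then ex A (i - 1) j else 0) + (if 1 ≤ (j : ℕ) then ex A i (j - 1) else 0) := by
  rw [D_apply, Matrix.add_apply]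
  have h1 := shift_mul A 1 i j
  have h2 := mul_shift A 1 i j
  rw [pow_one] at h1 h2
  rw [h1, h2]

/-- The antidiagonal. -/
def anti (k : Type*) [Field k] (n w : ℕ) : Matrix (Fin n) (Fin n) k :=
  Matrix.of fun i j => if (i : ℕ) + j = w then (-1) ^ (i : ℕ) else 0

/-- The antidiagonal before. -/
def anti' (k : Type*) [Field k] (n w : ℕ) : Matrix (Fin n) (Fin n) k :=
  Matrix.of fun i j => if (i : ℕ) + j + 1 = w then (-1) ^ (i : ℕ) * (((i : ℕ) : k) - ((j : ℕ) : k)) else 0

theorem anti_apply (w : ℕ) (i j : Fin n) : anti k n w i j = if (i : ℕ) + j = w then (-1) ^ (i : ℕ) else 0 := rfl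

theorem anti'_apply (w : ℕ) (i j : Fin n) : anti' k n w i j =
    if (i : ℕ) + j + 1 = w then (-1) ^ (i : ℕ) * (((i : ℕ) : k) - ((j : ℕ) : k)) else 0 := rfl

theorem ex_anti (w i j : ℕ) (hi : i < n) (hj : j < n) : ex (anti k n w) i j = if i + j = w then (-1) ^ i else 0 := by
  rw [ex, dif_pos ⟨hi, hj⟩]
  rfl

theorem ex_anti' (w i j : ℕ) (hi : i < n) (hj : j < n) : ex (anti' k n w) i j =
    if i + j + 1 = w then (-1) ^ i * ((i : k) - (j : k)) else 0 := by
  rw [ex, dif_pos ⟨hi, hj⟩]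
  rfl

theorem anti_mem {w : ℕ} (hw : Odd w) : anti k n w ∈ W k n := by
  rw [mem_W]
  ext i j
  rw [Matrix.transpose_apply, Matrix.neg_apply, anti_apply, anti_apply]
  by_cases h : (i : ℕ) + j = w
  · rw [if_pos h, if_pos (by omega)]
    have h1 : (-1 : k) ^ (i : ℕ) * (-1) ^ (j : ℕ) = -1 := by rw [← pow_add, h, hw.neg_one_pow]
    have h2 : (-1 : k) ^ (i : ℕ) * (-1) ^ (i : ℕ) = 1 := by rw [← pow_add, (Even.add_self _).neg_one_pow]
    linear_combination (-1 : k) ^ (i : ℕ) * h1 - (-1 : k) ^ (j : ℕ) * h2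
  · rw [if_neg h, if_neg (by omega), neg_zero]

theorem anti'_mem {w : ℕ} (hw : Odd w) : anti' k n w ∈ W k n := by
  rw [mem_W]
  ext i j
  rw [Matrix.transpose_apply, Matrix.neg_apply, anti'_apply, anti'_apply]
  by_cases h : (i : ℕ) + j + 1 = w
  · rw [if_pos h, if_pos (by omega)]
    have h1 : (-1 : k) ^ (i : ℕ) * (-1) ^ (j : ℕ) = 1 := by
      have h3 : Even ((i : ℕ) + j) := by
        rcases hw with ⟨c, hc⟩
        exact ⟨c, by omega⟩
      rw [← pow_add, h3.neg_one_pow]
    have h2 : (-1 : k) ^ (i : ℕ) * (-1) ^ (i : ℕ) = 1 := by rw [← pow_add, (Even.add_self _).neg_one_pow]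
    have h4 : (-1 : k) ^ (i : ℕ) = (-1) ^ (j : ℕ) := by
      linear_combination (-1 : k) ^ (j : ℕ) * h2 - (-1 : k) ^ (i : ℕ) * h1
    rw [h4]
    ring
  · rw [if_neg h, if_neg (by omega), neg_zero]

theorem D_anti {w : ℕ} (hw : n ≤ w) : D k n (anti k n w) = 0 := by
  ext i j
  have hi := i.2
  have hj := j.2
  rw [D_entry, Matrix.zero_apply]
  by_cases h : (i : ℕ) + j = w + 1
  · rw [if_pos (by omega), if_pos (by omega), ex_anti _ _ _ (by omega) (by omega), ex_anti _ _ _ (by omega) (by omega),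
      if_pos (by omega), if_pos (by omega)]
    obtain ⟨c, hc⟩ : ∃ c, (i : ℕ) = c + 1 := ⟨i - 1, by omega⟩
    rw [hc, Nat.add_sub_cancel, pow_succ]
    ring
  · have h1 : (if 1 ≤ (i : ℕ) then ex (anti k n w) (i - 1) j else 0) = 0 := by
      split_ifs with h2
      · rw [ex_anti _ _ _ (by omega) (by omega), if_neg (by omega)]
      · rfl
    have h2 : (if 1 ≤ (j : ℕ) then ex (anti k n w) i (j - 1) else 0) = 0 := by
      split_ifs with h2
      · rw [ex_anti _ _ _ (by omega) (by omega), if_neg (by omega)]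
      · rfl
    rw [h1, h2, add_zero]

theorem D_anti' {w : ℕ} (hw : n ≤ w) : D k n (anti' k n w) = (2 : k) • anti k n w := by
  ext i j
  have hi := i.2
  have hj := j.2
  rw [D_entry, Matrix.smul_apply, anti_apply, smul_eq_mul]
  by_cases h : (i : ℕ) + j = w
  · rw [if_pos (by omega), if_pos (by omega), ex_anti' _ _ _ (by omega) (by omega), ex_anti' _ _ _ (by omega) (by omega),
      if_pos (by omega), if_pos (by omega), if_pos h]
    obtain ⟨c, hc⟩ : ∃ c, (i : ℕ) = c + 1 := ⟨i - 1, by omega⟩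
    obtain ⟨d, hd⟩ : ∃ d, (j : ℕ) = d + 1 := ⟨j - 1, by omega⟩
    rw [hc, hd, Nat.add_sub_cancel, Nat.add_sub_cancel, pow_succ]
    push_cast
    ring
  · have h1 : (if 1 ≤ (i : ℕ) then ex (anti' k n w) (i - 1) j else 0) = 0 := by
      split_ifs with h2
      · rw [ex_anti' _ _ _ (by omega) (by omega), if_neg (by omega)]
      · rfl
    have h2 : (if 1 ≤ (j : ℕ) then ex (anti' k n w) i (j - 1) else 0) = 0 := by
      split_ifs with h2
      · rw [ex_anti' _ _ _ (by omega) (by omega), if_neg (by omega)]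
      · rfl
    rw [h1, h2, if_neg h, add_zero, mul_zero]

/-- The entries of `D ^ m A` for small `i`. -/
theorem D_pow_small (A : Matrix (Fin n) (Fin n) k) (m : ℕ) (i j : Fin n) (him : (i : ℕ) ≤ m) :
    ((D k n ^ m) A) i j = ∑ a ∈ range ((i : ℕ) + 1), (m.choose a : k) *
      (if m - a ≤ (j : ℕ) then ex A (i - a) (j - (m - a)) else 0) := by
  rw [D_pow]
  symm
  rw [← Finset.sum_subset (Finset.range_subset_range.2 (show (i : ℕ) + 1 ≤ m + 1 by omega))]
  · refine Finset.sum_congr rfl fun a ha => ?_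
    rw [Finset.mem_range] at ha
    congr 1
    by_cases h : m - a ≤ (j : ℕ)
    · rw [if_pos h, if_pos ⟨by omega, h⟩]
    · rw [if_neg h, if_neg (fun h' => h h'.2)]
  · intro a _ ha
    rw [Finset.mem_range] at ha
    rw [if_neg (by omega), mul_zero]

/-- The first case: `n` odd. -/
theorem anti_not_mem_odd (hn : 5 ≤ n) (hn0 : (n : k) ≠ 0) (hn3 : (n : k) ≠ 3)
    {z : Matrix (Fin n) (Fin n) k} (hz : z ∈ W k n) : (D k n ^ (n - 1)) z ≠ anti k n n := by
  intro h
  -- `D ^ n z = 0`
  have h1 : (D k n ^ n) z = 0 := by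
    obtain ⟨m, hm⟩ : ∃ m, n = m + 1 := ⟨n - 1, by omega⟩
    have h3 : (D k n ^ n) z = D k n ((D k n ^ (n - 1)) z) := by
      rw [← Module.End.mul_apply, ← pow_succ', Nat.sub_add_cancel (by omega)]
    rw [h3, h, D_anti le_rfl]
  have h3 := D_pow_small z n ⟨2, by omega⟩ ⟨n - 1, by omega⟩ (by simp only; omega)
  have h4 := D_pow_small z (n - 1) ⟨1, by omega⟩ ⟨n - 1, by omega⟩ (by simp only; omega)
  rw [h1, Matrix.zero_apply] at h3
  rw [h, anti_apply] at h4
  simp only [Finset.sum_range_succ, Finset.sum_range_zero, zero_add] at h3 h4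
  rw [if_neg (by omega), if_pos (by omega), if_pos (by omega), mul_zero, zero_add] at h3
  rw [if_pos (by omega), if_pos (by omega), if_pos (by omega)] at h4
  have e1 : n - 1 - (n - 1) = 0 := by omega
  have e2 : n - 1 - (n - 2) = 1 := by omega
  have e3 : n - 1 - (n - 1 - 0) = 0 := by omega
  have e4 : n - 1 - (n - 1 - 1) = 1 := by omega
  rw [e1, e2] at h3
  rw [e3, e4] at h4
  have h5 := ex_of_mem hz 1 0
  rw [show (2 : ℕ) - 1 = 1 from rfl, show (2 : ℕ) - 2 = 0 from rfl, h5, Nat.choose_one_right] at h3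
  rw [show (1 : ℕ) - 0 = 1 from rfl, show (1 : ℕ) - 1 = 0 from rfl, h5, Nat.choose_one_right] at h4
  have h6 : (2 : k) * (n.choose 2 : k) = n * (n - 1) := by
    have h8 : n * (n - 1) = 2 * n.choose 2 := by
      have := Nat.choose_two_right n
      have h9 : 2 ∣ n * (n - 1) := (Nat.even_mul_pred_self n).two_dvd
      omega
    have h9 : ((n * (n - 1) : ℕ) : k) = ((2 * n.choose 2 : ℕ) : k) := by rw [h8]
    push_cast [Nat.cast_sub (show 1 ≤ n by omega)] at h9
    linear_combination -h9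
  have h7 : (n : k) * (n - 3) * ex z 1 0 = 0 := by
    linear_combination 2 * h3 - ex z 1 0 * h6
  have h8 : ex z 1 0 = 0 := by
    rcases mul_eq_zero.1 h7 with h8 | h8
    · rcases mul_eq_zero.1 h8 with h9 | h9
      · exact absurd h9 hn0
      · exact absurd (sub_eq_zero.1 h9) hn3
    · exact h8
  rw [h8] at h4
  simp at h4

theorem six_mul_choose_three (n : ℕ) (hn : 3 ≤ n) : 6 * n.choose 3 = n * (n - 1) * (n - 2) := by
  obtain ⟨m, rfl⟩ : ∃ m, n = m + 3 := ⟨n - 3, by omega⟩
  have h1 := Nat.descFactorial_eq_factorial_mul_choose (m + 3) 3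
  have h2 : (m + 3).descFactorial 3 = (m + 1) * ((m + 2) * (m + 3)) := by
    simp [Nat.descFactorial]
  rw [h2] at h1
  have h3 : Nat.factorial 3 = 6 := rfl
  rw [h3] at h1
  rw [← h1]
  have h4 : m + 3 - 1 = m + 2 := rfl
  have h5 : m + 3 - 2 = m + 1 := rfl
  rw [h4, h5]
  ring

/-- The second case: `n` even. -/
theorem anti_not_mem_even (hn : 5 ≤ n) (h2 : (2 : k) ≠ 0) (hn0 : (n : k) ≠ 0) (hn4 : (n : k) ≠ 4)
    (hn1 : (n : k) + 1 ≠ 0) {z : Matrix (Fin n) (Fin n) k} (hz : z ∈ W k n) :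
    (D k n ^ (n - 1)) z ≠ anti k n (n + 1) := by
  intro h
  -- `D ^ n z = 0`
  have h1 : (D k n ^ n) z = 0 := by
    have h3 : (D k n ^ n) z = D k n ((D k n ^ (n - 1)) z) := by
      rw [← Module.End.mul_apply, ← pow_succ', Nat.sub_add_cancel (by omega)]
    rw [h3, h, D_anti (by omega)]
  have h3 := D_pow_small z n ⟨3, by omega⟩ ⟨n - 1, by omega⟩ (by simp only; omega)
  have h4 := D_pow_small z (n - 1) ⟨2, by omega⟩ ⟨n - 1, by omega⟩ (by simp only; omega)
  rw [h1, Matrix.zero_apply] at h3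
  rw [h, anti_apply] at h4
  simp only [Finset.sum_range_succ, Finset.sum_range_zero, zero_add] at h3 h4
  rw [if_neg (by omega), if_pos (by omega), if_pos (by omega), if_pos (by omega), mul_zero, zero_add] at h3
  rw [if_pos (by omega), if_pos (by omega), if_pos (by omega), if_pos (by omega)] at h4
  have e1 : n - 1 - (n - 1) = 0 := by omega
  have e2 : n - 1 - (n - 2) = 1 := by omega
  have e2' : n - 1 - (n - 3) = 2 := by omega
  have e3 : n - 1 - (n - 1 - 0) = 0 := by omega
  have e4 : n - 1 - (n - 1 - 1) = 1 := by omega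
  have e5 : n - 1 - (n - 1 - 2) = 2 := by omega
  rw [e1, e2, e2'] at h3
  rw [e3, e4, e5] at h4
  have h5 := ex_of_mem hz 2 0
  have h5' := ex_self h2 hz 1
  rw [show (3 : ℕ) - 1 = 2 from rfl, show (3 : ℕ) - 2 = 1 from rfl, show (3 : ℕ) - 3 = 0 from rfl, h5, h5',
    Nat.choose_one_right, mul_zero, add_zero] at h3
  rw [show (2 : ℕ) - 0 = 2 from rfl, show (2 : ℕ) - 1 = 1 from rfl, show (2 : ℕ) - 2 = 0 from rfl, h5, h5'] at h4
  have h6 : (6 : k) * (n.choose 3 : k) = n * (n - 1) * (n - 2) := by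
    have h9 : ((n * (n - 1) * (n - 2) : ℕ) : k) = ((6 * n.choose 3 : ℕ) : k) := by rw [six_mul_choose_three n (by omega)]
    push_cast [Nat.cast_sub (show 1 ≤ n by omega), Nat.cast_sub (show 2 ≤ n by omega)] at h9
    linear_combination -h9
  have h7 : (n : k) * (n - 4) * (n + 1) * ex z 2 0 = 0 := by
    linear_combination 6 * h3 - ex z 2 0 * h6
  have h8 : ex z 2 0 = 0 := by
    rcases mul_eq_zero.1 h7 with h8 | h8
    · rcases mul_eq_zero.1 h8 with h9 | h9
      · rcases mul_eq_zero.1 h9 with h10 | h10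
        · exact absurd h10 hn0
        · exact absurd (sub_eq_zero.1 h10) hn4
      · exact absurd h9 hn1
    · exact h8
  rw [h8] at h4
  simp at h4

/-- `D` on the skew-symmetric matrices. -/
def DW (k : Type*) [Field k] (n : ℕ) : Module.End k (W k n) := (D k n).restrict (fun _ h => D_mem h)

theorem DW_apply (A : W k n) : ((DW k n A : W k n) : Matrix (Fin n) (Fin n) k) = D k n A := rfl

theorem DW_pow_apply (m : ℕ) (A : W k n) :
    (((DW k n ^ m) A : W k n) : Matrix (Fin n) (Fin n) k) = (D k n ^ m) A := by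
  induction m with
  | zero => rfl
  | succ m ih => rw [pow_succ', Module.End.mul_apply, DW_apply, ih, pow_succ', Module.End.mul_apply]

/-- **There is a short block.** -/
theorem exists_block (hn : 5 ≤ n) (h2 : (2 : k) ≠ 0) (hn0 : (n : k) ≠ 0) (hn3 : (n : k) ≠ 3) (hn4 : (n : k) ≠ 4)
    (hn1 : (n : k) + 1 ≠ 0) : ∃ a : ℕ, 1 ≤ a ∧ a + 1 ≤ n - 1 ∧ ∃ z : W k n, (DW k n ^ (a + 1)) z = 0 ∧
      (DW k n ^ a) z ∉ LinearMap.range (DW k n ^ (a + 1)) := by
  classical
  obtain ⟨w, hw, hnw, hs⟩ : ∃ w : ℕ, Odd w ∧ n ≤ w ∧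
      ∀ z ∈ W k n, (D k n ^ (n - 1)) z ≠ anti k n w := by
    rcases Nat.even_or_odd n with h | h
    · exact ⟨n + 1, h.add_one, by omega, fun z hz => anti_not_mem_even hn h2 hn0 hn4 hn1 hz⟩
    · exact ⟨n, h, le_rfl, fun z hz => anti_not_mem_odd hn hn0 hn3 hz⟩
  let s : W k n := ⟨anti k n w, anti_mem hw⟩
  let s' : W k n := ⟨anti' k n w, anti'_mem hw⟩
  have hs0 : DW k n s = 0 := Subtype.ext (D_anti hnw)
  have hs1 : DW k n ((2 : k)⁻¹ • s') = s := by
    rw [map_smul]
    apply Subtype.ext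
    show (2 : k)⁻¹ • D k n (anti' k n w) = anti k n w
    rw [D_anti' hnw, smul_smul, inv_mul_cancel₀ h2, one_smul]
  have hs2 : ∀ z : W k n, (DW k n ^ (n - 1)) z ≠ s := by
    intro z hz
    apply hs z z.2
    rw [← DW_pow_apply, hz]
  have hex : ∃ m : ℕ, ∀ z : W k n, (DW k n ^ m) z ≠ s := ⟨n - 1, hs2⟩
  have hm := Nat.find_spec hex
  have hmin : ∀ m, m < Nat.find hex → ∃ z : W k n, (DW k n ^ m) z = s := by
    intro m hm
    have h1 := Nat.find_min hex hm
    push Not at h1
    exact h1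
  have hle : Nat.find hex ≤ n - 1 := Nat.find_min' hex hs2
  have hm0 : Nat.find hex ≠ 0 := by
    intro h
    rw [h] at hm
    exact hm s rfl
  have hm1 : Nat.find hex ≠ 1 := by
    intro h
    rw [h] at hm
    apply hm ((2 : k)⁻¹ • s')
    rw [pow_one, hs1]
  obtain ⟨a, ha⟩ : ∃ a, Nat.find hex = a + 1 := ⟨Nat.find hex - 1, by omega⟩
  rw [ha] at hm hle hm0 hm1 hmin
  obtain ⟨z, hz⟩ := hmin a (by omega)
  refine ⟨a, by omega, hle, z, ?_, ?_⟩
  · rw [pow_succ', Module.End.mul_apply, hz, hs0]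
  · rw [hz]
    rintro ⟨z', hz'⟩
    exact hm z' hz'

section transfer

variable {M : Type*} [AddCommGroup M] [Module k M]

theorem transfer_pow {U Δ N : Module.End k M} (hU : IsUnit U) (hc : Commute U Δ) {c : k}
    (h : U * Δ = c • N) {m : ℕ} {z : M} (hz : (N ^ m) z = 0) : (Δ ^ m) z = 0 := by
  obtain ⟨u, rfl⟩ := hU
  have h1 : (((u : Module.End k M) * Δ) ^ m) z = 0 := by
    rw [h, smul_pow, LinearMap.smul_apply, hz, smul_zero]
  rw [hc.mul_pow, Module.End.mul_apply, ← Units.val_pow_eq_pow_val] at h1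
  have h2 := congrArg (((u ^ m)⁻¹ : (Module.End k M)ˣ) : Module.End k M) h1
  rw [← Module.End.mul_apply, Units.inv_mul, Module.End.one_apply, map_zero] at h2
  exact h2

theorem transfer_range {U Δ N : Module.End k M} (hU : IsUnit U) (hc : Commute U Δ) {c : k} (hc0 : c ≠ 0)
    (h : U * Δ = c • N) {a : ℕ} {z : M} (hz : (N ^ a) z ∉ LinearMap.range (N ^ (a + 1))) :
    (Δ ^ a) z ∉ LinearMap.range (Δ ^ (a + 1)) := by
  obtain ⟨u, rfl⟩ := hU
  rintro ⟨w, hw⟩
  apply hz
  set w' : M := ((u⁻¹ : (Module.End k M)ˣ) : Module.End k M) w with hw'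
  have h1 : (u : Module.End k M) w' = w := by
    rw [hw', ← Module.End.mul_apply, Units.mul_inv, Module.End.one_apply]
  have h2 : (((u : Module.End k M) * Δ) ^ a) z = (((u : Module.End k M) * Δ) ^ (a + 1)) w' := by
    rw [hc.mul_pow, hc.mul_pow, Module.End.mul_apply, ← hw, ((hc.pow_pow (a + 1) (a + 1))).eq,
      Module.End.mul_apply (Δ ^ (a + 1)), pow_succ (u : Module.End k M) a, Module.End.mul_apply _ (u : Module.End k M),
      h1, ← Module.End.mul_apply, (hc.pow_pow a (a + 1)).eq, Module.End.mul_apply]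
  rw [h, smul_pow, smul_pow, LinearMap.smul_apply, LinearMap.smul_apply] at h2
  refine ⟨c • w', ?_⟩
  rw [map_smul]
  have h3 : c ^ a ≠ 0 := pow_ne_zero _ hc0
  have h4 : c ^ a • (N ^ a) z = c ^ a • (c • (N ^ (a + 1)) w') := by
    rw [h2, smul_smul, pow_succ]
  exact (smul_right_injective M h3 h4).symm

theorem commute_sub_one {U X : Module.End k M} (h : Commute U X) : Commute U (X - 1) :=
  h.sub_right (Commute.one_right _)

theorem mul_sub_one' (U X : Module.End k M) : U * (X - 1) = U * X - U := by rw [mul_sub, mul_one]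

end transfer

section rep

variable {G : Type*} [Group G]

/-- The action `A ↦ X A Xᵀ`. -/
def act (X : Matrix (Fin n) (Fin n) k) : Module.End k (W k n) where
  toFun A := ⟨X * A * Xᵀ, by
    rw [mem_W, Matrix.transpose_mul, Matrix.transpose_mul, Matrix.transpose_transpose, mem_W.1 A.2, Matrix.neg_mul,
      Matrix.mul_neg, Matrix.mul_assoc]⟩
  map_add' A B := by
    apply Subtype.ext
    show X * ((A : Matrix (Fin n) (Fin n) k) + B) * Xᵀ = X * A * Xᵀ + X * B * Xᵀ
    rw [Matrix.mul_add, Matrix.add_mul]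
  map_smul' c A := by
    apply Subtype.ext
    show X * (c • (A : Matrix (Fin n) (Fin n) k)) * Xᵀ = c • (X * A * Xᵀ)
    rw [Matrix.mul_smul, Matrix.smul_mul]

theorem act_apply (X : Matrix (Fin n) (Fin n) k) (A : W k n) :
    ((act X A : W k n) : Matrix (Fin n) (Fin n) k) = X * A * Xᵀ := rfl

theorem act_one : act (1 : Matrix (Fin n) (Fin n) k) = 1 := by
  refine LinearMap.ext fun A => Subtype.ext ?_
  rw [act_apply, Matrix.transpose_one, Matrix.mul_one, Matrix.one_mul]
  rfl

theorem act_mul (X Y : Matrix (Fin n) (Fin n) k) : act (X * Y) = act X * act Y := by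
  refine LinearMap.ext fun A => Subtype.ext ?_
  rw [act_apply, Module.End.mul_apply, act_apply, act_apply, Matrix.transpose_mul]
  simp only [Matrix.mul_assoc]

/-- The representation on the skew-symmetric matrices. -/
def rep (R : G →* Matrix (Fin n) (Fin n) k) : Representation k G (W k n) where
  toFun g := act (R g)
  map_one' := by rw [map_one, act_one]
  map_mul' g h := by rw [map_mul, act_mul]

theorem rep_apply (R : G →* Matrix (Fin n) (Fin n) k) (g : G) : rep R g = act (R g) := rfl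

theorem shift_pow_self : shift k n ^ n = 0 := by
  ext i j
  rw [shift_pow, Matrix.zero_apply, if_neg]
  have := i.2
  omega

theorem isUnit_one_sub_shift : IsUnit (1 - shift k n) := IsNilpotent.isUnit_one_sub ⟨n, shift_pow_self⟩

/-- **The representation on the skew-symmetric matrices, restricted to an element with a single Jordan block.** -/
theorem exists_vec (hn : 5 ≤ n) (h2 : (2 : k) ≠ 0) (hn0 : (n : k) ≠ 0) (hn3 : (n : k) ≠ 3) (hn4 : (n : k) ≠ 4)
    (hn1 : (n : k) + 1 ≠ 0) (R : G →* Matrix (Fin n) (Fin n) k) (x : G) (hx : R x * (1 - shift k n) = 1 + shift k n) :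
    (rep R x - 1 : Module.End k (W k n)) ^ (2 * n - 2) = 0 ∧
    ∃ a : ℕ, 1 ≤ a ∧ a + 1 ≤ n - 1 ∧ ∃ z : W k n, ((rep R x - 1 : Module.End k (W k n)) ^ (a + 1)) z = 0 ∧
      ((rep R x - 1 : Module.End k (W k n)) ^ a) z ∉ LinearMap.range ((rep R x - 1 : Module.End k (W k n)) ^ (a + 1)) := by
  set J := shift k n with hJ
  have hunit : IsUnit (1 - J) := isUnit_one_sub_shift
  have hcomm : Commute (1 - J) (R x) := by
    have h1 : Commute (1 - J) (1 + J) :=
      (((Commute.one_left _).sub_left ((Commute.one_right J).add_right (Commute.refl J))) : Commute (1 - J) (1 + J))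
    have h3 : (1 - J) * R x * (1 - J) = R x * (1 - J) * (1 - J) := by
      rw [Matrix.mul_assoc, hx]
      exact h1.eq
    exact hunit.mul_right_cancel h3
  have hx' : (1 - J) * R x = 1 + J := by rw [hcomm.eq, hx]
  have hU : IsUnit (act (1 - J)) := by
    obtain ⟨u, hu⟩ := hunit
    refine ⟨⟨act (u : Matrix (Fin n) (Fin n) k), act ((u⁻¹ : (Matrix (Fin n) (Fin n) k)ˣ) : Matrix (Fin n) (Fin n) k),
      ?_, ?_⟩, ?_⟩
    · rw [← act_mul, Units.mul_inv, act_one]
    · rw [← act_mul, Units.inv_mul, act_one]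
    · rw [← hu]
  have hcU : Commute (act (1 - J)) (rep R x - 1 : Module.End k (W k n)) := by
    have h1 : Commute (act (1 - J)) (rep R x) := by
      show act (1 - J) * act (R x) = act (R x) * act (1 - J)
      rw [← act_mul, ← act_mul, hcomm.eq]
    exact commute_sub_one h1
  have hUD : act (1 - J) * (rep R x - 1 : Module.End k (W k n)) = (2 : k) • DW k n := by
    rw [mul_sub_one', rep_apply, ← act_mul, hx']
    refine LinearMap.ext fun A => Subtype.ext ?_
    rw [LinearMap.sub_apply, LinearMap.smul_apply, Submodule.coe_sub, Submodule.coe_smul, act_apply, act_apply,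
      DW_apply, D_apply, ← hJ, Matrix.transpose_add, Matrix.transpose_sub, Matrix.transpose_one, two_smul]
    noncomm_ring
  refine ⟨?_, ?_⟩
  · refine LinearMap.ext fun A => ?_
    rw [LinearMap.zero_apply]
    apply transfer_pow hU hcU hUD
    apply Subtype.ext
    rw [DW_pow_apply, D_pow_eq_zero h2 A.2]
    rfl
  · obtain ⟨a, ha1, han, z, hz0, hz1⟩ := exists_block hn h2 hn0 hn3 hn4 hn1
    exact ⟨a, ha1, han, z, transfer_pow hU hcU hUD hz0, transfer_range hU hcU h2 hUD hz1⟩

end rep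

end Cfsg.Agent.H655.Skew
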